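import Cfsg.Agent.SL2Tori.Basic
import Cfsg.Agent.Linear.Basic

/-!
# Semisimple and unipotent elements of `PSL(2, F)`

`IsTor x`: a lift of `x` has trace different from `±2`; then `torus x` is the image of the
centraliser of a lift, a cyclic group. The other non-trivial elements are conjugate to upper
unitriangular ones.
-/

set_option autoImplicit false
set_option linter.unusedSectionVars false

namespace CfsgLib.DicksonPSL2

open Matrix CfsgLib.SL2Trace
open CfsgLib.SL2Tori (tr)
open scoped MatrixGroups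

variable {F : Type*} [Field F]

/-- The projection `SL(2, F) → PSL(2, F)` as a homomorphism. -/
def projHom : SL(2, F) →* PSL(2, F) := QuotientGroup.mk' _

theorem projHom_apply (g : SL(2, F)) : projHom g = proj g := rfl

theorem projHom_surjective : Function.Surjective (projHom (F := F)) := QuotientGroup.mk'_surjective _

theorem proj_mul (g h : SL(2, F)) : proj (g * h) = proj g * proj h := rfl

theorem proj_inv (g : SL(2, F)) : proj g⁻¹ = (proj g)⁻¹ := rfl

theorem proj_eq_proj_iff {g h : SL(2, F)} : proj g = proj h ↔ h = g ∨ h = -g := by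
  constructor
  · intro e
    have : proj (g⁻¹ * h) = 1 := by rw [proj_mul, proj_inv, e, inv_mul_cancel]
    rcases (proj_eq_one_iff _).1 this with h' | h'
    · left; rw [inv_mul_eq_one] at h'; exact h'.symm
    · right; rw [inv_mul_eq_iff_eq_mul] at h'; simpa using h'
  · rintro (rfl | rfl)
    · rfl
    · exact (proj_neg g).symm

theorem tr_neg (g : SL(2, F)) : tr (-g) = -tr g := by simp [tr]

theorem tr_conj (g x : SL(2, F)) : tr (x * g * x⁻¹) = tr g := by
  rw [tr, Matrix.SpecialLinearGroup.coe_mul, Matrix.SpecialLinearGroup.coe_mul, Matrix.trace_mul_cycle,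
    ← Matrix.SpecialLinearGroup.coe_mul, inv_mul_cancel, Matrix.SpecialLinearGroup.coe_one, one_mul]

/-- Semisimple non-trivial: some lift has trace `≠ ±2`. -/
def IsTor (x : PSL(2, F)) : Prop := ∃ g : SL(2, F), proj g = x ∧ tr g ^ 2 ≠ 4

theorem isTor_proj {g : SL(2, F)} : IsTor (proj g) ↔ tr g ^ 2 ≠ 4 := by
  refine ⟨?_, fun h => ⟨g, rfl, h⟩⟩
  rintro ⟨h, he, ht⟩
  rcases proj_eq_proj_iff.1 he with rfl | rfl
  · exact ht
  · rwa [tr_neg, neg_sq]

theorem not_isTor_one : ¬ IsTor (1 : PSL(2, F)) := by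
  rw [show (1 : PSL(2, F)) = proj 1 from rfl, isTor_proj]
  norm_num [tr]

theorem ne_one_of_isTor {x : PSL(2, F)} (h : IsTor x) : x ≠ 1 := fun e => not_isTor_one (e ▸ h)

theorem isTor_conj_iff (a x : PSL(2, F)) : IsTor (a * x * a⁻¹) ↔ IsTor x := by
  obtain ⟨A, rfl⟩ := proj_surjective a
  obtain ⟨g, rfl⟩ := proj_surjective x
  rw [← proj_inv, ← proj_mul, ← proj_mul, isTor_proj, isTor_proj, tr_conj]

/-- The image of the centraliser of a lift; for a semisimple element this is its torus. -/
noncomputable def torus (x : PSL(2, F)) : Subgroup PSL(2, F) :=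
  (Subgroup.centralizer ({Quotient.out x} : Set SL(2, F))).map projHom

theorem torus_proj (g : SL(2, F)) :
    torus (proj g) = (Subgroup.centralizer ({g} : Set SL(2, F))).map projHom := by
  have he : proj (Quotient.out (proj g)) = proj g := Quotient.out_eq (proj g)
  rcases proj_eq_proj_iff.1 he.symm with h | h
  · rw [torus, h]
  · rw [torus, h]
    congr 1
    ext y
    simp only [Subgroup.mem_centralizer_singleton_iff, mul_neg, neg_mul, neg_inj]

theorem proj_mem_torus_iff (g h : SL(2, F)) : proj h ∈ torus (proj g) ↔ h * g = g * h := by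
  rw [torus_proj, Subgroup.mem_map]
  constructor
  · rintro ⟨y, hy, e⟩
    rw [Subgroup.mem_centralizer_singleton_iff] at hy
    rcases proj_eq_proj_iff.1 e with rfl | rfl
    · exact hy
    · rw [neg_mul, mul_neg, hy]
  · exact fun e => ⟨h, Subgroup.mem_centralizer_singleton_iff.2 e, rfl⟩

theorem self_mem_torus (x : PSL(2, F)) : x ∈ torus x := by
  obtain ⟨g, rfl⟩ := proj_surjective x
  exact (proj_mem_torus_iff g g).2 rfl

theorem conj_mem_torus_iff (a x y : PSL(2, F)) :
    a * y * a⁻¹ ∈ torus (a * x * a⁻¹) ↔ y ∈ torus x := by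
  obtain ⟨A, rfl⟩ := proj_surjective a
  obtain ⟨g, rfl⟩ := proj_surjective x
  obtain ⟨h, rfl⟩ := proj_surjective y
  rw [← proj_inv, ← proj_mul, ← proj_mul, ← proj_mul, ← proj_mul, proj_mem_torus_iff,
    proj_mem_torus_iff]
  constructor
  · intro e
    simpa [mul_assoc] using congrArg (fun m => A⁻¹ * m * A) e
  · intro e
    simp only [mul_assoc, inv_mul_cancel_left]
    rw [← mul_assoc h, e, mul_assoc]

/-- Non-trivial elements of a torus are semisimple and have the same torus. -/
theorem isTor_of_mem_torus {x y : PSL(2, F)} (hx : IsTor x) (hy : y ∈ torus x) (hy1 : y ≠ 1) :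
    IsTor y ∧ torus y = torus x := by
  obtain ⟨g, rfl, hg⟩ := hx
  obtain ⟨M, rfl⟩ := proj_surjective y
  rw [proj_mem_torus_iff] at hy
  have hM := Subgroup.mem_centralizer_singleton_iff.2 hy
  rw [ne_eq, proj_eq_one_iff, not_or] at hy1
  have h1 : M.1 ≠ 1 := fun e => hy1.1 (Subtype.ext e)
  have h2 : M.1 ≠ -1 := fun e => hy1.2 (Subtype.ext (e.trans (by simp)))
  obtain ⟨a, b, hab⟩ := (SL2Tori.mem_centralizer_iff (SL2Tori.nonScalar_of_sq_ne_four hg) M).1 hM
  have hd : M.1.det = 1 := M.2
  rw [hab, SL2Tori.det_combination] at hd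
  have hb : b ≠ 0 := by
    rintro rfl
    rw [zero_smul, add_zero] at hab
    rcases sq_eq_one_iff.1 (show a ^ 2 = 1 by linear_combination hd) with rfl | rfl
    · exact h1 (by rw [hab, one_smul])
    · exact h2 (by rw [hab, neg_one_smul])
  have ht : tr M = 2 * a + b * tr g := by
    simp only [tr, hab, Matrix.trace_add, Matrix.trace_smul, Matrix.trace_one, Fintype.card_fin,
      smul_eq_mul]
    push_cast; ring
  refine ⟨⟨M, rfl, fun e => hg ?_⟩, ?_⟩
  · rw [ht] at e
    have e2 : b ^ 2 * (tr g ^ 2 - 4) = 0 := by linear_combination e - 4 * hd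
    exact sub_eq_zero.1 ((mul_eq_zero.1 e2).resolve_left (pow_ne_zero 2 hb))
  · rw [torus_proj, torus_proj, SL2Tori.centralizer_eq_of_mem hg hM h1 h2]

/-- The elements of a torus commute. -/
theorem torus_comm {x y z : PSL(2, F)} (hx : IsTor x) (hy : y ∈ torus x) (hz : z ∈ torus x) :
    y * z = z * y := by
  obtain ⟨g, rfl, hg⟩ := hx
  obtain ⟨M, rfl⟩ := proj_surjective y
  obtain ⟨N, rfl⟩ := proj_surjective z
  rw [proj_mem_torus_iff] at hy hz
  rw [← proj_mul, ← proj_mul, SL2Tori.centralizer_comm (SL2Tori.nonScalar_of_sq_ne_four hg)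
    (Subgroup.mem_centralizer_singleton_iff.2 hy) (Subgroup.mem_centralizer_singleton_iff.2 hz)]

theorem isCyclic_torus [Finite F] {x : PSL(2, F)} (hx : IsTor x) : IsCyclic (torus x) := by
  obtain ⟨g, rfl, hg⟩ := hx
  have := SL2Tori.isCyclic_centralizer (g := g) hg
  rw [torus_proj]
  exact isCyclic_of_surjective _ ((projHom (F := F)).subgroupMap_surjective _)

/-- An element inverting a semisimple element has square `-1`. -/
theorem sq_eq_neg_one_of_inv {g n : SL(2, F)} (ht : tr g ^ 2 ≠ 4) (h : n * g * n⁻¹ = g⁻¹) :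
    n * n = -1 := by
  have hc := cayley n (tr n) rfl
  rw [pow_two] at hc
  have hgd := det_eq_one g
  have hgi : g⁻¹ * n = n * g := by rw [← h, inv_mul_cancel_right]
  have e : (g⁻¹ : SL(2, F)).1 * n.1 = n.1 * g.1 := congrArg Subtype.val hgi
  rw [SL2Tori.coe_inv_eq] at e
  have e00 := congrFun (congrFun e 0) 0
  have e01 := congrFun (congrFun e 0) 1
  have e10 := congrFun (congrFun e 1) 0
  have e11 := congrFun (congrFun e 1) 1
  have hnd := det_eq_one n
  simp [Matrix.mul_apply, Fin.sum_univ_two, tr, Matrix.trace_fin_two] at e00 e01 e10 e11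
  have ht0 : tr n = 0 := by
    by_contra h0
    rw [tr, Matrix.trace_fin_two] at h0
    apply ht
    rw [tr, Matrix.trace_fin_two]
    set a := g.1 0 0
    set b := g.1 0 1
    set c := g.1 1 0
    set d := g.1 1 1
    set x := n.1 0 0
    set y := n.1 0 1
    set z := n.1 1 0
    set w := n.1 1 1
    have k1 : b * (x + w) = 0 := by linear_combination -e01
    have k2 : c * (x + w) = 0 := by linear_combination -e10
    have hb : b = 0 := (mul_eq_zero.1 k1).resolve_right h0
    have hc0 : c = 0 := (mul_eq_zero.1 k2).resolve_right h0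
    have k3 : (a - d) * x = 0 := by linear_combination -e00 - z * hb - y * hc0
    have k4 : (a - d) * w = 0 := by linear_combination e11 + z * hb + y * hc0
    have k5 : (a - d) * (x + w) = 0 := by linear_combination k3 + k4
    have had : a - d = 0 := (mul_eq_zero.1 k5).resolve_right h0
    linear_combination (a - d) * had + 4 * hgd + 4 * c * hb
  apply Subtype.ext
  rw [Matrix.SpecialLinearGroup.coe_mul]
  rw [ht0, zero_smul, sub_zero] at hc
  rw [eq_neg_of_add_eq_zero_left hc]
  simp

/-- An element normalising a torus lies in it or is an involution inverting it. -/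
theorem mem_or_inverts {x n : PSL(2, F)} (hx : IsTor x) (hn : n * x * n⁻¹ ∈ torus x) :
    n ∈ torus x ∨ (n * n = 1 ∧ ∀ y ∈ torus x, n * y * n⁻¹ = y⁻¹) := by
  obtain ⟨g, rfl, hg⟩ := hx
  obtain ⟨N, rfl⟩ := proj_surjective n
  rw [← proj_inv, ← proj_mul, ← proj_mul, proj_mem_torus_iff] at hn
  rcases SL2Tori.eq_or_eq_inv_of_tr_eq hg (Subgroup.mem_centralizer_singleton_iff.2 hn)
    (tr_conj g N) with h | h
  · exact Or.inl ((proj_mem_torus_iff g N).2 (mul_inv_eq_iff_eq_mul.1 h))
  · right
    refine ⟨by rw [← proj_mul, proj_eq_one_iff]; exact Or.inr (sq_eq_neg_one_of_inv hg h), ?_⟩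
    intro y hy
    obtain ⟨M, rfl⟩ := proj_surjective y
    rw [proj_mem_torus_iff] at hy
    rw [← proj_inv, ← proj_mul, ← proj_mul,
      SL2Tori.conj_eq_inv hg h (Subgroup.mem_centralizer_singleton_iff.2 hy), proj_inv]

/-- Two elements outside a torus which normalise it differ by an element of the torus. -/
theorem div_mem_torus {x n m : PSL(2, F)} (hx : IsTor x) (hn : n * x * n⁻¹ ∈ torus x)
    (hm : m * x * m⁻¹ ∈ torus x) (hn' : n ∉ torus x) (hm' : m ∉ torus x) :
    m⁻¹ * n ∈ torus x := by
  obtain ⟨g, rfl, hg⟩ := hx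
  obtain ⟨N, rfl⟩ := proj_surjective n
  obtain ⟨M, rfl⟩ := proj_surjective m
  have key : ∀ N : SL(2, F), proj N * proj g * (proj N)⁻¹ ∈ torus (proj g) →
      proj N ∉ torus (proj g) → N * g * N⁻¹ = g⁻¹ := by
    intro N h h'
    rw [← proj_inv, ← proj_mul, ← proj_mul, proj_mem_torus_iff] at h
    exact (SL2Tori.eq_or_eq_inv_of_tr_eq hg (Subgroup.mem_centralizer_singleton_iff.2 h)
      (tr_conj g N)).resolve_left fun e => h' ((proj_mem_torus_iff g N).2 (mul_inv_eq_iff_eq_mul.1 e))
  have e1 := key N hn hn'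
  have e2 := key M hm hm'
  rw [← proj_inv, ← proj_mul, proj_mem_torus_iff]
  have h1 : N * g = g⁻¹ * N := by rw [← e1, inv_mul_cancel_right]
  have h2 : M * g = g⁻¹ * M := by rw [← e2, inv_mul_cancel_right]
  have h3 : M⁻¹ * g⁻¹ = g * M⁻¹ := by
    rw [eq_mul_inv_iff_mul_eq, mul_assoc, ← h2, ← mul_assoc, inv_mul_cancel, one_mul]
  rw [mul_assoc, h1, ← mul_assoc, h3, mul_assoc]

section Finite

variable [Fintype F]

theorem card_torus_mul (g : SL(2, F)) :
    Nat.gcd 2 (Fintype.card F - 1) * Nat.card (torus (proj g)) =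
      Nat.card (Subgroup.centralizer ({g} : Set SL(2, F))) := by
  set C := Subgroup.centralizer ({g} : Set SL(2, F)) with hC
  have hZ : Subgroup.center SL(2, F) ≤ C := Subgroup.center_le_centralizer _
  have h1 : Nat.card (torus (proj g)) * Nat.card (Subgroup.center SL(2, F)) = Nat.card C := by
    rw [torus_proj, ← hC]
    set f := (projHom (F := F)).subgroupMap C
    have hs : Function.Surjective f := (projHom (F := F)).subgroupMap_surjective C
    have hk : Nat.card f.ker = Nat.card (Subgroup.center SL(2, F)) := by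
      refine Nat.card_congr (Equiv.ofBijective (fun y => ⟨y.1.1, ?_⟩) ⟨?_, ?_⟩)
      · have := congrArg Subtype.val (MonoidHom.mem_ker.1 y.2)
        exact (QuotientGroup.eq_one_iff _).1 this
      · intro a b e
        exact Subtype.ext (Subtype.ext (congrArg (fun z : Subgroup.center SL(2, F) => z.1) e))
      · intro z
        exact ⟨⟨⟨z.1, hZ z.2⟩, MonoidHom.mem_ker.2 (Subtype.ext ((QuotientGroup.eq_one_iff _).2 z.2))⟩,
          rfl⟩
    rw [← hk, mul_comm]
    have := f.ker.index_mul_card
    rw [Subgroup.index_ker, MonoidHom.range_eq_top.2 hs, Subgroup.card_top] at this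
    rw [mul_comm]; exact this
  rw [Linear.card_center_SL, Fintype.card_fin, mul_comm] at h1
  exact h1

/-- The order of a torus times `gcd (2, q - 1)` is `q - 1` or `q + 1`. -/
theorem card_torus {x : PSL(2, F)} (hx : IsTor x) :
    Nat.gcd 2 (Fintype.card F - 1) * Nat.card (torus x) = Fintype.card F - 1 ∨
      Nat.gcd 2 (Fintype.card F - 1) * Nat.card (torus x) = Fintype.card F + 1 := by
  obtain ⟨g, rfl, hg⟩ := hx
  rw [card_torus_mul]
  by_cases hl : ∃ l : F, l ^ 2 + tr g * l + 1 = 0
  · obtain ⟨l, hl⟩ := hl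
    exact Or.inl (SL2Tori.card_centralizer_split hg hl)
  · push Not at hl
    exact Or.inr (SL2Tori.card_centralizer_nonsplit hg hl)

theorem not_dvd_card_torus (p : ℕ) [Fact p.Prime] [CharP F p] {x : PSL(2, F)} (hx : IsTor x) :
    ¬ p ∣ Nat.card (torus x) := by
  intro h
  obtain ⟨n, hp, hn⟩ := FiniteField.card F p
  have hpq : p ∣ Fintype.card F := hn ▸ dvd_pow_self p n.ne_zero
  have h1 := Fintype.one_lt_card (α := F)
  rcases card_torus hx with e | e
  · have h2 : p ∣ Fintype.card F - 1 := e ▸ dvd_mul_of_dvd_right h _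
    have := Nat.dvd_sub hpq h2
    rw [Nat.sub_sub_self h1.le, Nat.dvd_one] at this
    exact hp.ne_one this
  · have h2 : p ∣ Fintype.card F + 1 := e ▸ dvd_mul_of_dvd_right h _
    have := Nat.dvd_sub h2 hpq
    rw [Nat.add_sub_cancel_left, Nat.dvd_one] at this
    exact hp.ne_one this

/-- The non-semisimple elements are those killed by the characteristic. -/
theorem isTor_iff_pow (p : ℕ) [Fact p.Prime] [CharP F p] (x : PSL(2, F)) :
    IsTor x ↔ x ^ p ≠ 1 := by
  constructor
  · intro hx e
    have h1 : orderOf x ∣ Nat.card (torus x) := Subgroup.orderOf_dvd_natCard _ (self_mem_torus x)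
    have h2 := orderOf_dvd_of_pow_eq_one e
    rcases (Nat.dvd_prime (Fact.out : p.Prime)).1 h2 with h | h
    · exact ne_one_of_isTor hx (orderOf_eq_one_iff.1 h)
    · exact not_dvd_card_torus p hx (h ▸ h1)
  · intro e
    obtain ⟨g, rfl⟩ := proj_surjective x
    by_contra h
    rw [isTor_proj, not_not] at h
    exact e (proj_pow_char_eq_one p g h)

end Finite

end CfsgLib.DicksonPSL2
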