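import Cfsg.Agent.DicksonPSL2.Counting
import Mathlib

/-!
# Binary coset actions

A binary action has no triangle in the family of intersections of point stabilisers; conversely
an action whose point stabilisers meet trivially and have no triangle is binary.
-/

set_option autoImplicit false

namespace CfsgLib.DicksonPSL2.Binary

open CfsgLib.DicksonPSL2

variable {X : Type*} [Group X]

/-- The action on the cosets of `H` has relational complexity two. -/
def IsBin (H : Subgroup X) : Prop :=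
  ∀ (n : ℕ) (I J : Fin n → X ⧸ H), 2 ≤ n →
    (∀ i j : Fin n, i ≠ j → ∃ g : X, g • I i = J i ∧ g • I j = J j) → ∃ g : X, ∀ i, g • I i = J i

/-- An intersection of point stabilisers. -/
def IsInt (H K : Subgroup X) : Prop := ∃ s : Set X, s.Nonempty ∧ K = ⨅ g ∈ s, conjS g H

theorem smul_coset (g a : X) {H : Subgroup X} : g • (a : X ⧸ H) = ((g * a : X) : X ⧸ H) := rfl

theorem smul_coset_eq_iff (g a : X) {H : Subgroup X} :
    g • (a : X ⧸ H) = (a : X ⧸ H) ↔ g ∈ conjS a H := by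
  rw [smul_coset, eq_comm, QuotientGroup.eq, mem_conjS, mul_assoc]

theorem isInt_conjS (g : X) (H : Subgroup X) : IsInt H (conjS g H) :=
  ⟨{g}, Set.singleton_nonempty g, by simp⟩

theorem IsInt.inf {H K L : Subgroup X} (hK : IsInt H K) (hL : IsInt H L) : IsInt H (K ⊓ L) := by
  obtain ⟨s, hs, rfl⟩ := hK
  obtain ⟨t, -, rfl⟩ := hL
  exact ⟨s ∪ t, hs.inl, iInf_union.symm⟩

theorem IsInt.conj {H K : Subgroup X} (hK : IsInt H K) (a : X) : IsInt H (conjS a K) := by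
  obtain ⟨s, hs, rfl⟩ := hK
  refine ⟨(a * ·) '' s, hs.image _, Subgroup.ext fun x => ?_⟩
  simp [mem_conjS, Subgroup.mem_iInf, mul_assoc]
  exact ⟨fun h i hi => by simpa [mul_assoc] using h _ hi,
    fun h i hi => by simpa [mul_assoc] using h (a * i) (by simpa using hi)⟩

theorem IsInt.self (H : Subgroup X) : IsInt H H :=
  ⟨{1}, Set.singleton_nonempty 1, Subgroup.ext fun x => by simp [mem_conjS]⟩

theorem IsInt.ne_top {H K : Subgroup X} (hH : H ≠ ⊤) (hK : IsInt H K) : K ≠ ⊤ := by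
  obtain ⟨s, ⟨g, hg⟩, rfl⟩ := hK
  intro e
  apply hH
  rw [Subgroup.eq_top_iff']
  intro x
  have : g * x * g⁻¹ ∈ ⨅ a ∈ s, conjS a H := e ▸ Subgroup.mem_top _
  simp only [Subgroup.mem_iInf] at this
  simpa [mem_conjS, mul_assoc] using this g hg

/-- In a binary action three intersections of stabilisers form no triangle. -/
theorem criterion [Finite X] {H P Q R : Subgroup X} (hb : IsBin H) (hP : IsInt H P) (hQ : IsInt H Q)
    (hR : IsInt H R) (hPQ : P ⊓ Q = ⊥) {x q r : X} (hx : x ∈ P) (hq : q ∈ Q) (hr : r ∈ R)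
    (he : x = q * r) : x ∈ R := by
  classical
  obtain ⟨sP, ⟨p₀, hp₀⟩, hPe⟩ := hP
  obtain ⟨sQ, ⟨q₀, hq₀⟩, hQe⟩ := hQ
  obtain ⟨sR, -, hRe⟩ := hR
  let pt : (sP ⊕ sQ) ⊕ sR → X := Sum.elim (Sum.elim Subtype.val Subtype.val) Subtype.val
  let mv : (sP ⊕ sQ) ⊕ sR → X := Sum.elim (fun _ => 1) (fun _ => x)
  have : Fintype ((sP ⊕ sQ) ⊕ sR) := Fintype.ofFinite _
  set e := (Fintype.equivFin ((sP ⊕ sQ) ⊕ sR)).symm with hedef
  have memP : ∀ y ∈ P, ∀ a ∈ sP, y ∈ conjS a H := fun y hy a ha => by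
    rw [hPe] at hy; simp only [Subgroup.mem_iInf] at hy; exact hy a ha
  have memQ : ∀ y ∈ Q, ∀ a ∈ sQ, y ∈ conjS a H := fun y hy a ha => by
    rw [hQe] at hy; simp only [Subgroup.mem_iInf] at hy; exact hy a ha
  have memR : ∀ y ∈ R, ∀ a ∈ sR, y ∈ conjS a H := fun y hy a ha => by
    rw [hRe] at hy; simp only [Subgroup.mem_iInf] at hy; exact hy a ha
  have key : ∀ u v : (sP ⊕ sQ) ⊕ sR, ∃ g : X,
      g • (pt u : X ⧸ H) = ((mv u * pt u : X) : X ⧸ H) ∧
      g • (pt v : X ⧸ H) = ((mv v * pt v : X) : X ⧸ H) := by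
    have h1 : ∀ (a : X), (1 : X) • (a : X ⧸ H) = ((1 * a : X) : X ⧸ H) := fun a => rfl
    have hxP : ∀ a ∈ sP, x • (a : X ⧸ H) = ((1 * a : X) : X ⧸ H) := fun a ha => by
      rw [one_mul]; exact (smul_coset_eq_iff x a).2 (memP x hx a ha)
    have hqQ : ∀ a ∈ sQ, q • (a : X ⧸ H) = ((1 * a : X) : X ⧸ H) := fun a ha => by
      rw [one_mul]; exact (smul_coset_eq_iff q a).2 (memQ q hq a ha)
    have hqR : ∀ a ∈ sR, q • (a : X ⧸ H) = ((x * a : X) : X ⧸ H) := fun a ha => by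
      rw [← smul_coset x a, he, mul_smul, (smul_coset_eq_iff r a).2 (memR r hr a ha)]
    rintro ((⟨a, ha⟩ | ⟨a, ha⟩) | ⟨a, ha⟩) ((⟨b, hb⟩ | ⟨b, hb⟩) | ⟨b, hb⟩)
    · exact ⟨1, h1 a, h1 b⟩
    · exact ⟨1, h1 a, h1 b⟩
    · exact ⟨x, hxP a ha, rfl⟩
    · exact ⟨1, h1 a, h1 b⟩
    · exact ⟨1, h1 a, h1 b⟩
    · exact ⟨q, hqQ a ha, hqR b hb⟩
    · exact ⟨x, rfl, hxP b hb⟩
    · exact ⟨q, hqR a ha, hqQ b hb⟩
    · exact ⟨x, rfl, rfl⟩
  obtain ⟨g, hg⟩ := hb _ (fun i => (pt (e i) : X ⧸ H)) (fun i => ((mv (e i) * pt (e i) : X) : X ⧸ H))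
    (by
      rw [Nat.succ_le_iff, Fintype.one_lt_card_iff]
      exact ⟨Sum.inl (Sum.inl ⟨p₀, hp₀⟩), Sum.inl (Sum.inr ⟨q₀, hq₀⟩), by simp⟩)
    fun i j _ => key (e i) (e j)
  have hg' : ∀ u, g • (pt u : X ⧸ H) = ((mv u * pt u : X) : X ⧸ H) := fun u => by
    simpa using hg (e.symm u)
  have hgP : g ∈ P := by
    rw [hPe]; simp only [Subgroup.mem_iInf]
    intro a ha
    refine (smul_coset_eq_iff g a).1 ?_
    simpa [pt, mv] using hg' (Sum.inl (Sum.inl ⟨a, ha⟩))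
  have hgQ : g ∈ Q := by
    rw [hQe]; simp only [Subgroup.mem_iInf]
    intro a ha
    refine (smul_coset_eq_iff g a).1 ?_
    simpa [pt, mv] using hg' (Sum.inl (Sum.inr ⟨a, ha⟩))
  have hg1 : g = 1 := by
    have : g ∈ P ⊓ Q := ⟨hgP, hgQ⟩
    rwa [hPQ, Subgroup.mem_bot] at this
  rw [hRe]; simp only [Subgroup.mem_iInf]
  intro a ha
  refine (smul_coset_eq_iff x a).1 ?_
  have := hg' (Sum.inr ⟨a, ha⟩)
  rw [hg1, one_smul] at this
  exact this.symm

/-- Below a non-trivial intersection of stabilisers there is a minimal one. -/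
theorem exists_minimal [Finite X] {H K : Subgroup X} (hK : IsInt H K) (h1 : K ≠ ⊥) :
    ∃ P ≤ K, IsInt H P ∧ P ≠ ⊥ ∧ ∀ L, IsInt H L → P ⊓ L = ⊥ ∨ P ≤ L := by
  classical
  have hex : ∃ n, ∃ P ≤ K, IsInt H P ∧ P ≠ ⊥ ∧ Nat.card P = n := ⟨_, K, le_rfl, hK, h1, rfl⟩
  obtain ⟨P, hPK, hP, hP1, hPn⟩ := Nat.find_spec hex
  refine ⟨P, hPK, hP, hP1, fun L hL => ?_⟩
  by_cases h : P ⊓ L = ⊥
  · exact Or.inl h
  right
  have hmin := Nat.find_min' hex ⟨P ⊓ L, inf_le_left.trans hPK, hP.inf hL, h, rfl⟩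
  rw [← hPn] at hmin
  exact inf_eq_left.1 (Subgroup.eq_of_le_of_card_ge inf_le_left hmin)

/-- A TI subgroup without triangle. -/
structure Good (P : Subgroup X) : Prop where
  ti : ∀ g : X, ∀ x ∈ P, x ∈ conjS g P → x ≠ 1 → conjS g P = P
  nt : ∀ x ∈ P, x ≠ 1 → ∀ a b y : X, y ∈ conjS a P → x * y ∈ conjS b P → y ∈ P

theorem Good.conj {P : Subgroup X} (h : Good P) (c : X) : Good (conjS c P) := by
  constructor
  · intro g x hx hxg hx1
    have := h.ti (c⁻¹ * g * c) (c⁻¹ * x * c) (mem_conjS.1 hx)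
      (by rw [mem_conjS] at hxg ⊢; rw [mem_conjS] at hxg; simpa [mul_assoc] using hxg)
      (fun e => hx1 (by simpa [mul_assoc] using congrArg (fun z => c * z * c⁻¹) e))
    rw [← conjS_mul, show g * c = c * (c⁻¹ * g * c) by group, conjS_mul, this]
  · intro x hx hx1 a b y hy hxy
    rw [mem_conjS] at hx ⊢
    refine h.nt _ hx (fun e => hx1 (by simpa [mul_assoc] using congrArg (fun z => c * z * c⁻¹) e))
      (c⁻¹ * a * c) (c⁻¹ * b * c) _ ?_ ?_
    · rw [mem_conjS] at hy ⊢; rw [mem_conjS] at hy; simpa [mul_assoc] using hy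
    · rw [mem_conjS] at hxy ⊢; rw [mem_conjS] at hxy; simpa [mul_assoc] using hxy

theorem good_of_ti [Finite X] {H P : Subgroup X} (hb : IsBin H) (hP : IsInt H P)
    (ti : ∀ g : X, ∀ x ∈ P, x ∈ conjS g P → x ≠ 1 → conjS g P = P) : Good P := by
  refine ⟨ti, fun x hx hx1 a b y hy hxy => ?_⟩
  by_contra hyP
  have hd : P ⊓ conjS b P = ⊥ := by
    rw [Subgroup.eq_bot_iff_forall]
    rintro z ⟨hz, hz'⟩
    by_contra hz1
    refine hyP ?_
    rw [ti b z hz hz' hz1] at hxy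
    exact (P.mul_mem_cancel_left hx).1 hxy
  have := criterion hb hP (hP.conj b) (hP.conj a) hd hx hxy (inv_mem hy) (mul_inv_cancel_right x y).symm
  rw [ti a x hx this hx1] at hy
  exact hyP hy

theorem good_of_minimal [Finite X] {H P : Subgroup X} (hb : IsBin H) (hP : IsInt H P)
    (hmin : ∀ L, IsInt H L → P ⊓ L = ⊥ ∨ P ≤ L) : Good P := by
  refine good_of_ti hb hP fun g x hx hxg hx1 => ?_
  rcases hmin _ (hP.conj g) with h | h
  · exact absurd (by rw [← Subgroup.mem_bot (x := x), ← h]; exact ⟨hx, hxg⟩) hx1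
  · exact (Subgroup.eq_of_le_of_card_ge h (card_conjS g P).le).symm

theorem isBin_bot : IsBin (⊥ : Subgroup X) := by
  intro n I J hn hpair
  let i₀ : Fin n := ⟨0, by omega⟩
  have uniq : ∀ (a b : X) (c : X ⧸ (⊥ : Subgroup X)), a • c = b • c → a = b := by
    intro a b c h
    induction c using QuotientGroup.induction_on with
    | H z =>
      rw [smul_coset, smul_coset, QuotientGroup.eq, Subgroup.mem_bot] at h
      exact mul_right_cancel (inv_mul_eq_one.1 h)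
  obtain ⟨g, hg, -⟩ := hpair i₀ ⟨1, by omega⟩ (by simp [i₀, Fin.ext_iff])
  refine ⟨g, fun i => ?_⟩
  by_cases hi : i = i₀
  · rw [hi, hg]
  · obtain ⟨k, hk, hk'⟩ := hpair i₀ i (Ne.symm hi)
    rwa [uniq g k _ (hg.trans hk.symm)]

/-- Trivially intersecting stabilisers without triangle give a binary action. -/
theorem isBin_of_triangleFree {H : Subgroup X}
    (ti : ∀ g : X, ∀ x ∈ H, x ∈ conjS g H → x ≠ 1 → conjS g H = H)
    (nt : ∀ x ∈ H, x ≠ 1 → ∀ a b y : X, y ∈ conjS a H → x * y ∈ conjS b H → y ∈ H) :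
    IsBin H := by
  classical
  intro n I J hn hpair
  let i₀ : Fin n := ⟨0, by omega⟩
  obtain ⟨a₀, ha₀⟩ := QuotientGroup.mk_surjective (I i₀)
  choose pt hpt using fun i => QuotientGroup.mk_surjective (I i)
  obtain ⟨g₀, hg₀, -⟩ := hpair i₀ ⟨1, by omega⟩ (by simp [i₀, Fin.ext_iff])
  set A := conjS a₀ H with hA
  have hgood : Good A := (Good.mk ti nt).conj a₀
  have hk : ∀ i, i ≠ i₀ → ∃ k ∈ A, (g₀ * k) • I i = J i := by
    intro i hi
    obtain ⟨g, h0, h1⟩ := hpair i₀ i (Ne.symm hi)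
    refine ⟨g₀⁻¹ * g, ?_, by rwa [mul_inv_cancel_left]⟩
    rw [hA, ← smul_coset_eq_iff, ha₀, mul_smul, inv_smul_eq_iff, h0, hg₀]
  choose! k hkA hkI using hk
  have stab : ∀ (i : Fin n) (m : X), m ∈ conjS (pt i) H ↔ m • I i = I i := by
    intro i m; rw [← hpt i, smul_coset_eq_iff]
  have fixed : ∀ i, conjS (pt i) H = A → ∀ m ∈ A, m • I i = I i :=
    fun i e m hm => (stab i m).1 (e.symm ▸ hm)
  have same : ∀ i j, i ≠ i₀ → j ≠ i₀ → conjS (pt i) H ≠ A → conjS (pt j) H ≠ A → k i = k j := by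
    intro i j hi hj hiA hjA
    by_cases hij : i = j
    · rw [hij]
    obtain ⟨g, hgi, hgj⟩ := hpair i j hij
    set u := (g₀ * k i)⁻¹ * g with hu
    set v := (g₀ * k j)⁻¹ * g with hv
    have hui : u ∈ conjS (pt i) H := by
      rw [stab, hu, mul_smul, inv_smul_eq_iff, hgi, hkI i hi]
    have hvj : v ∈ conjS (pt j) H := by
      rw [stab, hv, mul_smul, inv_smul_eq_iff, hgj, hkI j hj]
    have hxA : (k j)⁻¹ * k i ∈ A := mul_mem (inv_mem (hkA j hj)) (hkA i hi)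
    have hprod : (k j)⁻¹ * k i * u = v := by rw [hu, hv]; group
    by_contra hne
    have hx1 : (k j)⁻¹ * k i ≠ 1 := fun e => hne (inv_mul_eq_one.1 e).symm
    have huA : u ∈ A := by
      refine hgood.nt _ hxA hx1 (pt i * a₀⁻¹) (pt j * a₀⁻¹) u ?_ ?_
      · rw [hA, ← conjS_mul, inv_mul_cancel_right]; exact hui
      · rw [hA, ← conjS_mul, inv_mul_cancel_right, hprod]; exact hvj
    by_cases hu1 : u = 1
    · rw [hu1, mul_one] at hprod
      apply hjA
      have := hgood.ti (pt j * a₀⁻¹) v (hprod ▸ hxA)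
        (by rw [hA, ← conjS_mul, inv_mul_cancel_right]; exact hvj) (hprod ▸ hx1)
      rwa [hA, ← conjS_mul, inv_mul_cancel_right] at this
    · apply hiA
      have := hgood.ti (pt i * a₀⁻¹) u huA
        (by rw [hA, ← conjS_mul, inv_mul_cancel_right]; exact hui) hu1
      rwa [hA, ← conjS_mul, inv_mul_cancel_right] at this
  by_cases hex : ∃ j, j ≠ i₀ ∧ conjS (pt j) H ≠ A
  · obtain ⟨j, hj, hjA⟩ := hex
    refine ⟨g₀ * k j, fun i => ?_⟩
    by_cases hi : i = i₀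
    · rw [hi, mul_smul, ← ha₀, (smul_coset_eq_iff _ _).2 (hkA j hj), ha₀, hg₀]
    · by_cases hiA : conjS (pt i) H = A
      · rw [mul_smul, fixed i hiA _ (hkA j hj), ← hkI i hi, mul_smul, fixed i hiA _ (hkA i hi)]
      · rw [← same i j hi hj hiA hjA, hkI i hi]
  · simp only [not_exists, not_and, not_not] at hex
    refine ⟨g₀, fun i => ?_⟩
    by_cases hi : i = i₀
    · rw [hi, hg₀]
    · rw [← hkI i hi, mul_smul, fixed i (hex i hi) _ (hkA i hi)]

end CfsgLib.DicksonPSL2.Binary
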