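import Cfsg.Agent.DicksonPSL2.BinaryPSL

/-!
# Binary coset actions of `PSL(2, q)`

`isBin_iff`: for `q ≥ 4`, `q ≠ 5`, the action on the cosets of a proper subgroup `H` is binary iff
`H = 1`, or `q` is even and `H` is a Sylow `2`-subgroup, or `q = 2 ^ odd` and `|H| = 3`.
-/

set_option autoImplicit false
set_option linter.unusedSectionVars false

namespace CfsgLib.DicksonPSL2.Binary

open Matrix CfsgLib.SL2Trace CfsgLib.DicksonPSL2
open CfsgLib.SL2Tori (tr)
open CfsgLib.DicksonPSL2.InvolutionGraph (tr_eq tr_mul tr_eq_zero isConj_of_orderOf_two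
  exists_commuting)
open scoped MatrixGroups

variable {F : Type*} [Field F] [Fintype F]

theorem proj_conj_upper (g : SL(2, F)) (t : F) :
    (proj g * u t * (proj g)⁻¹ ∈ BP) ↔ (g.1 1 0) ^ 2 * t = 0 := by
  rw [u, ← proj_inv, ← proj_mul, ← proj_mul, proj_mem_BP_iff]
  simp [Matrix.SpecialLinearGroup.coe_inv, Matrix.adjugate_fin_two, coe_upSL, Matrix.mul_apply,
    Fin.sum_univ_two]
  constructor <;> intro h
  · have : g.1 1 0 * g.1 1 0 * t = 0 := by first | linear_combination h | linear_combination -h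
    simpa using this
  · rcases h with h | h <;> simp [h]
    try ring

/-- Two unipotent groups generate. -/
theorem eq_top_of_upGroup {M : Subgroup PSL(2, F)} (hU : ∀ t, u t ∈ M) {x : PSL(2, F)}
    (hx : x ∉ BP) (hxU : ∀ t, x * u t * x⁻¹ ∈ M) : M = ⊤ := by
  obtain ⟨g, rfl⟩ := proj_surjective x
  rw [proj_mem_BP_iff] at hx
  let lo : F → SL(2, F) := fun s => ⟨!![1, 0; s, 1], by simp [Matrix.det_fin_two_of]⟩
  have hlo : ∀ s, proj (lo s) ∈ M := by
    intro s
    have hd := det_eq_one g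
    obtain ⟨t, ht⟩ : ∃ t, s = -(g.1 1 0 ^ 2 * t) := ⟨-s / g.1 1 0 ^ 2, by field_simp⟩
    obtain ⟨a, ha⟩ : ∃ a, g.1 0 0 = a * g.1 1 0 := ⟨g.1 0 0 / g.1 1 0, by field_simp⟩
    have h := mul_mem (mul_mem (hU (-a)) (hxU t)) (hU a)
    have e : lo s = upSL (-a) * (g * upSL t * g⁻¹) * upSL a := by
      apply Subtype.ext
      show !![1, 0; s, 1] = _
      simp only [Matrix.SpecialLinearGroup.coe_mul, Matrix.SpecialLinearGroup.coe_inv, coe_upSL]
      rw [Matrix.eta_fin_two g.1]
      ext i j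
      fin_cases i <;> fin_cases j <;> simp [Matrix.adjugate_fin_two, Matrix.mul_apply] <;> grind
    rw [e, proj_mul, proj_mul, proj_mul, proj_mul, proj_inv]
    exact h
  rw [Subgroup.eq_top_iff']
  intro y
  obtain ⟨k, rfl⟩ := proj_surjective y
  have big : ∀ k : SL(2, F), k.1 1 0 ≠ 0 → proj k ∈ M := by
    intro k hk
    have hd := det_eq_one k
    have e : k = upSL ((k.1 0 0 - 1) / k.1 1 0) * lo (k.1 1 0) * upSL ((k.1 1 1 - 1) / k.1 1 0) := by
      apply Subtype.ext
      rw [Matrix.SpecialLinearGroup.coe_mul, Matrix.SpecialLinearGroup.coe_mul, coe_upSL, coe_upSL]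
      show _ = _ * !![1, 0; k.1 1 0, 1] * _
      ext i j
      fin_cases i <;> fin_cases j <;> simp [Matrix.mul_apply] <;> field_simp <;> grind
    rw [e, proj_mul, proj_mul]
    exact mul_mem (mul_mem (hU _) (hlo _)) (hU _)
  by_cases hk : k.1 1 0 = 0
  · have h := big (k * lo 1) ?_
    · rw [proj_mul] at h
      exact (M.mul_mem_cancel_right (hlo 1)).1 h
    · have := diag_mul hk
      simp only [Matrix.SpecialLinearGroup.coe_mul]
      show (k.1 * (!![1, 0; 1, 1] : Matrix (Fin 2) (Fin 2) F)) 1 0 ≠ 0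
      simp [Matrix.mul_apply, hk]
      intro e
      rw [e, mul_zero] at this
      exact zero_ne_one this
  · exact big k hk

theorem eq_top_of_normal (h4 : 4 ≤ Fintype.card F) {K : Subgroup PSL(2, F)} (hK : K ≠ ⊥)
    (hN : Subgroup.normalizer (K : Set PSL(2, F)) = ⊤) : K = ⊤ := by
  have : IsSimpleGroup PSL(2, F) := Linear.isSimpleGroup_PSL_of 2 le_rfl fun _ => h4
  exact (Subgroup.normalizer_eq_top_iff.1 hN).eq_bot_or_eq_top.resolve_left hK

theorem chi_eq_one_of_sq (h2 : (2 : F) = 0) {x : PSL(2, F)} (hx : x ∈ BP) (hxx : x * x = 1) :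
    chi x = 1 := by
  have := chi_mul x hx
  rw [hxx, chi_one] at this
  rcases mul_self_eq_one_iff.1 this.symm with h | h
  · exact h
  · rw [h]; linear_combination -h2

theorem u_mul_self (h2 : (2 : F) = 0) (w : F) : u w * u w = (1 : PSL(2, F)) := by
  rw [← u_add, show w + w = 0 by linear_combination w * h2, u_zero]

theorem mem_upGroup {x : PSL(2, F)} : x ∈ upGroup (F := F) ↔ ∃ w, u w = x := Iff.rfl

/-- Diagonal elements and the element exchanging the axes. -/
theorem exists_diag_inverted {H : Subgroup PSL(2, F)} (hU : ∀ t, u t ∈ H) {h : PSL(2, F)}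
    (hh : h ∈ H) (hB : h ∈ BP) :
    ∃ D W : PSL(2, F), D ∈ H ∧ D ∈ BP ∧ chi D = chi h ∧ W * D * W⁻¹ = D⁻¹ ∧ W * u 1 * W⁻¹ ∉ BP ∧
      (∀ y ∈ BP, W⁻¹ * y * W ∈ BP → ∀ w, y = u w → w = 0) := by
  obtain ⟨g, rfl⟩ := proj_surjective h
  rw [proj_mem_BP_iff] at hB
  have hd := diag_mul hB
  let W : SL(2, F) := ⟨!![0, 1; -1, 0], by simp [Matrix.det_fin_two_of]⟩
  let Dg : SL(2, F) := g * upSL (-(g.1 0 1) * g.1 1 1)
  have hW : W.1 = !![0, 1; -1, 0] := rfl
  have hD : Dg.1 = !![g.1 0 0, 0; 0, g.1 1 1] := by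
    show (g * upSL _).1 = _
    rw [Matrix.SpecialLinearGroup.coe_mul, coe_upSL]
    ext i j
    fin_cases i <;> fin_cases j <;> simp [Matrix.mul_apply, hB]
    linear_combination -(g.1 0 1) * hd
  refine ⟨proj Dg, proj W, ?_, ?_, ?_, ?_, ?_, ?_⟩
  · rw [proj_mul]; exact mul_mem hh (hU _)
  · rw [proj_mem_BP_iff, hD]; simp
  · rw [chi_proj, chi_proj, hD]; simp
  · rw [← proj_inv, ← proj_inv, ← proj_mul, ← proj_mul]
    congr 1
    apply Subtype.ext
    simp only [Matrix.SpecialLinearGroup.coe_mul, Matrix.SpecialLinearGroup.coe_inv, hD, hW]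
    simp [Matrix.adjugate_fin_two_of]
  · rw [proj_conj_upper, hW]; simp
  · intro y _ hy w hw
    rw [hw, u, ← proj_inv, ← proj_mul, ← proj_mul, proj_mem_BP_iff] at hy
    simp [Matrix.SpecialLinearGroup.coe_inv, hW, Matrix.adjugate_fin_two_of, coe_upSL,
      Matrix.mul_apply, Fin.sum_univ_two] at hy
    exact hy

/-- Even characteristic, an involution. -/
theorem even_involution_case (h4 : 4 ≤ Fintype.card F) (h2 : (2 : F) = 0)
    {P : Subgroup PSL(2, F)} (hP : Good P) (hne : P ≠ ⊤) {x : PSL(2, F)} (hx : x ∈ P)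
    (hx2 : orderOf x = 2) : ∃ c, P = conjS c upGroup := by
  have hu2 : ∀ w : F, w ≠ 0 → orderOf (u w) = 2 := fun w hw => by
    haveI := Fact.mk Nat.prime_two
    exact orderOf_eq_prime (by rw [pow_two, u_mul_self h2]) (u_ne_one hw)
  obtain ⟨c, hc⟩ := isConj_iff.1 (isConj_of_orderOf_two hx2 (hu2 1 one_ne_zero))
  suffices hgen : ∀ P : Subgroup PSL(2, F), Good P → P ≠ ⊤ → u 1 ∈ P → P = upGroup by
    refine ⟨c⁻¹, ?_⟩
    rw [← hgen (conjS c P) (hP.conj c) (fun e => hne (Subgroup.eq_top_of_card_eq _ (by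
      rw [← card_conjS c P, e, Subgroup.card_top])))
      (by rw [← hc, mem_conjS]; simpa [mul_assoc] using hx), conjS_inv_conjS]
  clear! P
  intro P hP hne hu
  have hU : ∀ t, u t ∈ P := by
    intro t
    by_cases ht : t = 0
    · rw [ht, u_zero]; exact one_mem _
    by_cases ht1 : t = 1
    · rwa [ht1]
    have h1t : 1 + t ≠ 0 := fun e => ht1 (by linear_combination e - h2)
    obtain ⟨a, ha⟩ := isConj_iff.1 (isConj_of_orderOf_two (hu2 1 one_ne_zero) (hu2 t ht))
    obtain ⟨b, hb⟩ := isConj_iff.1 (isConj_of_orderOf_two (hu2 1 one_ne_zero) (hu2 _ h1t))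
    refine hP.nt _ hu (u_ne_one one_ne_zero) a b _ ?_ ?_
    · rw [← ha, mem_conjS]; simpa [mul_assoc] using hu
    · rw [← u_add, ← hb, mem_conjS]; simpa [mul_assoc] using hu
  refine le_antisymm (fun y hy => ?_) (fun y hy => by obtain ⟨w, rfl⟩ := hy; exact hU w)
  by_contra hyU
  have hyB : y ∈ BP := by
    by_contra h
    exact hne (eq_top_of_upGroup hU h fun t => mul_mem (mul_mem hy (hU t)) (inv_mem hy))
  obtain ⟨D, W, hD, hDB, hDc, hWD, hWu, -⟩ := exists_diag_inverted hU hy hyB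
  have hD1 : D ≠ 1 := by
    rintro rfl
    rw [chi_one] at hDc
    obtain ⟨w, rfl⟩ := eq_u_of_chi_eq_one hyB hDc.symm
    exact hyU ⟨w, rfl⟩
  have hN := hP.ti W D⁻¹ (inv_mem hD)
    (by rw [← hWD, mem_conjS]; simpa [mul_assoc] using hD) (inv_ne_one.2 hD1)
  have hW1 : W * u 1 * W⁻¹ ∈ P := hN ▸ mem_conjS.2 (by simpa [mul_assoc] using hu)
  exact hne (eq_top_of_upGroup hU hWu fun t => mul_mem (mul_mem hW1 (hU t)) (inv_mem hW1))

theorem isTor_of_involution (h2 : (2 : F) ≠ 0) {x : PSL(2, F)} (hx : orderOf x = 2) : IsTor x := by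
  obtain ⟨g, rfl⟩ := proj_surjective x
  rw [isTor_proj, tr_eq_zero hx]
  intro e
  exact h2 (eq_zero_of_pow_eq_zero (show (2 : F) ^ 2 = 0 by linear_combination -e))

/-- The torus of an involution of a triangle-free subgroup lies in it, with a reflection. -/
theorem involution_closure (h4 : 4 ≤ Fintype.card F) (h2 : (2 : F) ≠ 0) {P : Subgroup PSL(2, F)}
    (hP : Good P) {x : PSL(2, F)} (hx : x ∈ P) (hx2 : orderOf x = 2) :
    torus x ≤ P ∧ ∃ s ∈ P, orderOf s = 2 ∧ s * x = x * s ∧ s ∉ torus x ∧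
      ∀ y ∈ torus x, s * y * s⁻¹ = y⁻¹ := by
  haveI := Fact.mk Nat.prime_two
  have hx1 : x ≠ 1 := fun e => by rw [e, orderOf_one] at hx2; omega
  have sq : ∀ z : PSL(2, F), orderOf z = 2 → z * z = 1 := fun z hz => by
    rw [← pow_two]; exact orderOf_dvd_iff_pow_eq_one.1 (dvd_of_eq hz)
  have clo : ∀ y, orderOf y = 2 → y * x = x * y → y ∈ P := by
    intro y hy hc
    by_cases hyx : y = x
    · rwa [hyx]
    have hxy : orderOf (x * y) = 2 := by
      refine orderOf_eq_prime ?_ fun e => hyx ?_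
      · rw [pow_two, mul_assoc, ← mul_assoc y, hc, mul_assoc x y y, sq y hy, mul_one, sq x hx2]
      · rw [eq_inv_of_mul_eq_one_right e]
        exact inv_eq_of_mul_eq_one_right (sq x hx2)
    obtain ⟨a, ha⟩ := isConj_iff.1 (isConj_of_orderOf_two hx2 hy)
    obtain ⟨b, hb⟩ := isConj_iff.1 (isConj_of_orderOf_two hx2 hxy)
    refine hP.nt x hx hx1 a b y ?_ ?_
    · rw [← ha, mem_conjS]; simpa [mul_assoc] using hx
    · rw [← hb, mem_conjS]; simpa [mul_assoc] using hx
  obtain ⟨x₀, y₀, h0, h0', h0''⟩ := exists_commuting (F := F) h4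
  obtain ⟨c, hc⟩ := isConj_iff.1 (isConj_of_orderOf_two h0 hx2)
  set s := c * y₀ * c⁻¹ with hs
  have hs2 : orderOf s = 2 := by rw [hs, ← MulAut.conj_apply, MulEquiv.orderOf_eq, h0']
  have hcomm : y₀ * x₀ = x₀ * y₀ := by
    have h := sq _ h0''
    calc y₀ * x₀ = (x₀ * x₀) * (y₀ * x₀) * (y₀ * y₀) := by rw [sq _ h0, sq _ h0', one_mul, mul_one]
      _ = x₀ * (x₀ * y₀ * (x₀ * y₀)) * y₀ := by group
      _ = x₀ * y₀ := by rw [h, mul_one]
  have hsx : s * x = x * s := by
    rw [hs, ← hc, show c * y₀ * c⁻¹ * (c * x₀ * c⁻¹) = c * (y₀ * x₀) * c⁻¹ by group, hcomm]; group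
  have hsne : s ≠ x := by
    rw [hs, ← hc]
    intro e
    have e' : y₀ = x₀ := by simpa using e
    rw [e', sq _ h0, orderOf_one] at h0''
    omega
  have hT := isTor_of_involution h2 hx2
  have hsT : s ∉ torus x := by
    intro h
    classical
    have := isCyclic_torus hT
    have hle := IsCyclic.card_pow_eq_one_le (α := torus x) (n := 2) (by norm_num)
    have hsub : ({1, ⟨x, self_mem_torus x⟩, ⟨s, h⟩} : Finset (torus x)) ⊆
        Finset.univ.filter fun a => a ^ 2 = 1 := by
      intro a ha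
      simp only [Finset.mem_insert, Finset.mem_singleton] at ha
      rw [Finset.mem_filter]
      refine ⟨Finset.mem_univ _, Subtype.ext ?_⟩
      rcases ha with rfl | rfl | rfl <;> simp [pow_two, sq x hx2, sq s hs2]
    have hs1 : s ≠ 1 := fun e => by rw [e, orderOf_one] at hs2; omega
    have h3 : ({1, ⟨x, self_mem_torus x⟩, ⟨s, h⟩} : Finset (torus x)).card = 3 := by
      rw [Finset.card_insert_of_notMem, Finset.card_insert_of_notMem, Finset.card_singleton]
      · simp [Subtype.ext_iff, Ne.symm hsne]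
      · simp [Subtype.ext_iff, hx1, hs1, Ne.symm hx1, Ne.symm hs1]
    have := Finset.card_le_card hsub
    omega
  have hinv : ∀ y ∈ torus x, s * y * s⁻¹ = y⁻¹ := by
    rcases mem_or_inverts hT (n := s) (by rw [hsx, mul_inv_cancel_right]; exact self_mem_torus x) with
      h | ⟨-, h⟩
    · exact absurd h hsT
    · exact h
  refine ⟨fun t ht => ?_, s, clo s hs2 hsx, hs2, hsx, hsT, hinv⟩
  have h1 : orderOf (t * s) = 2 := by
    refine orderOf_eq_prime ?_ fun e => hsT ?_
    · calc (t * s) ^ 2 = t * (s * t * s⁻¹) * (s * s) := by rw [pow_two]; group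
        _ = 1 := by rw [hinv t ht, mul_inv_cancel, sq s hs2, one_mul]
    · rw [eq_inv_of_mul_eq_one_right e]; exact inv_mem ht
  have h2' : t * s * x = x * (t * s) := by
    rw [mul_assoc, hsx, ← mul_assoc, torus_comm hT ht (self_mem_torus x), mul_assoc]
  exact (P.mul_mem_cancel_right (clo s hs2 hsx)).1 (clo _ h1 h2')

theorem normalizer_torus_le {P : Subgroup PSL(2, F)} (hP : Good P) {x : PSL(2, F)} (hT : IsTor x)
    (hx : x ∈ P) (hx2 : orderOf x = 2) :
    Subgroup.normalizer (torus x : Set PSL(2, F)) ≤ Subgroup.normalizer (P : Set PSL(2, F)) := by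
  intro m hm
  rw [← conjS_eq_self_iff]
  have hxx : x⁻¹ = x := inv_eq_of_mul_eq_one_right (by
    rw [← pow_two]; exact orderOf_dvd_iff_pow_eq_one.1 (dvd_of_eq hx2))
  have hfix : m * x * m⁻¹ = x := by
    rcases mem_or_inverts hT ((mem_normalizer_torus_iff hT).1 hm) with h | ⟨-, h⟩
    · rw [torus_comm hT h (self_mem_torus x), mul_inv_cancel_right]
    · rw [h x (self_mem_torus x), hxx]
  refine hP.ti m x hx ?_ (fun e => by rw [e, orderOf_one] at hx2; omega)
  rw [mem_conjS]
  have : m⁻¹ * x * m = x := by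
    conv_lhs => rw [← hfix]
    group
  rwa [this]

theorem perm_four_centralizer : ∃ z : Equiv.Perm (Fin 4), z * z = 1 ∧ z ≠ 1 ∧
    Fintype.card {g : Equiv.Perm (Fin 4) // g * z = z * g} = 4 := by
  refine ⟨Equiv.swap 0 1, ?_, ?_, ?_⟩ <;> decide +kernel

/-- The situation `q = 9` with a subgroup of order `12` or `24`. -/
theorem false_of_nine (h9 : Fintype.card F = 9) {P : Subgroup PSL(2, F)} (hP : Good P)
    (hne : P ≠ ⊤) {x v : PSL(2, F)} (hx : x ∈ P) (hx2 : orderOf x = 2) (hv : v ∈ P)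
    (hv3 : orderOf v = 3) : False := by
  obtain ⟨p, hp⟩ := CharP.exists F
  haveI : Fact p.Prime := ⟨CharP.char_is_prime F p⟩
  obtain rfl : p = 3 := by
    obtain ⟨n, hpn, hn⟩ := FiniteField.card F p
    have : p ∣ 3 ^ 2 := by
      norm_num; rw [← h9, hn]; exact dvd_pow_self p n.ne_zero
    exact (Nat.prime_dvd_prime_iff_eq hpn Nat.prime_three).1 (hpn.dvd_of_dvd_pow this)
  have h2 : (2 : F) ≠ 0 := fun h => by
    have := even_card_iff.2 h
    omega
  have hnt : ¬ IsTor v := by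
    rw [isTor_iff_pow 3, not_not, ← hv3, pow_orderOf_eq_one]
  obtain ⟨a, w, ha⟩ := exists_conj_u hnt
  set P' := conjS a P with hP'
  have hG := hP.conj a
  have hw : w ≠ 0 := fun e => by
    rw [e, u_zero, conj_eq_one_iff] at ha
    rw [ha, orderOf_one] at hv3; omega
  have hwP : u w ∈ P' := ha ▸ mem_conjS.2 (by simpa [mul_assoc] using hv)
  have hx' : a * x * a⁻¹ ∈ P' := mem_conjS.2 (by simpa [mul_assoc] using hx)
  have hx2' : orderOf (a * x * a⁻¹) = 2 := by rw [← MulAut.conj_apply, MulEquiv.orderOf_eq, hx2]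
  set N := Subgroup.normalizer (P' : Set PSL(2, F)) with hN
  have h8 : 8 ∣ Nat.card N := by
    have hT := isTor_of_involution h2 hx2'
    refine dvd_trans (dvd_of_eq ?_) (Subgroup.card_dvd_of_le (normalizer_torus_le hG hT hx' hx2'))
    have h1 := (card_normalizer_torus hT).1
    have h := card_torus hT
    rw [h9] at h
    have hg : Nat.gcd 2 (9 - 1) = 2 := rfl
    rw [hg] at h
    have heven : 2 ∣ Nat.card (torus (a * x * a⁻¹)) :=
      (dvd_of_eq hx2'.symm).trans (Subgroup.orderOf_dvd_natCard _ (self_mem_torus _))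
    omega
  have h9' : 9 ∣ Nat.card N := by
    refine dvd_trans (dvd_of_eq ?_) (Subgroup.card_dvd_of_le (show upGroup ≤ N from ?_))
    · rw [card_upGroup, h9]
    rintro y ⟨t, rfl⟩
    rw [hN, ← conjS_eq_self_iff]
    refine hG.ti (u t) (u w) hwP ?_ (u_ne_one hw)
    rw [mem_conjS, ← u_neg, ← u_add, ← u_add, show -t + w + t = w by ring]
    exact hwP
  have h72 : 72 ∣ Nat.card N :=
    Nat.Coprime.mul_dvd_of_dvd_of_dvd (show Nat.Coprime 8 9 by norm_num) h8 h9'
  have hNtop : N ≠ ⊤ := by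
    intro e
    refine hne (Subgroup.eq_top_of_card_eq _ ?_)
    rw [← card_conjS a P, ← hP', eq_top_of_normal (by omega)
      (fun hb => u_ne_one hw (Subgroup.mem_bot.1 (hb ▸ hwP))) e, Subgroup.card_top]
  have hpos : 0 < Nat.card N := Nat.card_pos
  have hle := Nat.le_of_dvd hpos h72
  rcases subgroup_cases_sharp 3 N with h | h | ⟨h, -⟩ | ⟨h, -⟩ | ⟨h, -⟩ | h
  · have := h.card_dvd
    have hB := card_BP F
    rw [h9, show Nat.gcd 2 (9 - 1) = 2 from rfl] at hB
    have := Nat.le_of_dvd (by omega) this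
    omega
  · have := h.card_le
    rw [h9, show Nat.gcd 2 (9 - 1) = 2 from rfl] at this
    omega
  all_goals try omega
  rcases h.eq_top_or_small with h | ⟨Q, hQ, hQ2, hc⟩
  · exact hNtop h
  · have hQ3 : Q ≤ 3 := by
      rw [h9] at hQ2; nlinarith
    interval_cases Q <;> omega

/-- Odd characteristic: no involution. -/
theorem odd_involution_case (h4 : 4 ≤ Fintype.card F) (h5 : Fintype.card F ≠ 5) (h2 : (2 : F) ≠ 0)
    {P : Subgroup PSL(2, F)} (hP : Good P) (hne : P ≠ ⊤) {x : PSL(2, F)} (hx : x ∈ P)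
    (hx2 : orderOf x = 2) : False := by
  have hodd : Fintype.card F % 2 = 1 := by
    rcases Nat.mod_two_eq_zero_or_one (Fintype.card F) with h | h
    · exact absurd (even_card_iff.1 h) h2
    · exact h
  have hgcd : Nat.gcd 2 (Fintype.card F - 1) = 2 := Nat.gcd_eq_left (by omega)
  have size : ∀ z : PSL(2, F), orderOf z = 2 → 4 ≤ Nat.card (torus z) ∧
      2 ∣ Nat.card (torus z) ∧ (2 * Nat.card (torus z) = Fintype.card F - 1 ∨
        2 * Nat.card (torus z) = Fintype.card F + 1) := by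
    intro z hz
    have h := card_torus (isTor_of_involution h2 hz)
    rw [hgcd] at h
    have h' : 2 ∣ Nat.card (torus z) :=
      (dvd_of_eq hz.symm).trans (Subgroup.orderOf_dvd_natCard _ (self_mem_torus z))
    exact ⟨by omega, h', h⟩
  obtain ⟨hxT, s, hs, hs2, hsx, hsT, hinv⟩ := involution_closure h4 h2 hP hx hx2
  have hT := isTor_of_involution h2 hx2
  obtain ⟨hn4, hn2, hn⟩ := size x hx2
  haveI := isCyclic_torus hT
  obtain ⟨⟨t, ht⟩, hgen⟩ := IsCyclic.exists_ofOrder_eq_natCard (α := torus x)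
  rw [Subgroup.orderOf_mk] at hgen
  have htP : t ∈ P := hxT ht
  have ht2 : t * t ≠ 1 := fun e => by
    have := Nat.le_of_dvd two_pos (orderOf_dvd_of_pow_eq_one (show t ^ 2 = 1 by rw [pow_two, e]))
    omega
  have ht1 : t ≠ 1 := fun e => ht2 (by rw [e, one_mul])
  obtain ⟨httor, httorus⟩ := isTor_of_mem_torus hT ht ht1
  have ordH : ∀ {M : Type} [Group M], ↥P ≃* M → ∃ m : M, orderOf m = Nat.card (torus x) :=
    fun e => ⟨e ⟨t, htP⟩, by rw [MulEquiv.orderOf_eq, Subgroup.orderOf_mk, hgen]⟩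
  obtain ⟨p, hp⟩ := CharP.exists F
  haveI : Fact p.Prime := ⟨CharP.char_is_prime F p⟩
  rcases subgroup_cases_sharp p P with h | ⟨z, hz, hle⟩ | ⟨-, -, ⟨e⟩⟩ | ⟨-, -, ⟨e⟩⟩ | ⟨-, -, ⟨e⟩⟩ | h
  · exact not_inBorel_of_inverted httor ht2 htP hs (hinv t ht) h
  · -- in a torus normaliser all these tori coincide
    obtain ⟨hsT', -⟩ := involution_closure h4 h2 hP hs hs2
    obtain ⟨hs4, -, -⟩ := size s hs2
    have heq : ∀ y : PSL(2, F), IsTor y → torus y ≤ P → 3 ≤ Nat.card (torus y) →
        torus y = torus z := by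
      intro y hy hyP hy3
      haveI := isCyclic_torus hy
      obtain ⟨⟨r, hr⟩, hrg⟩ := IsCyclic.exists_ofOrder_eq_natCard (α := torus y)
      rw [Subgroup.orderOf_mk] at hrg
      have hr1 : r ≠ 1 := fun e => by rw [e, orderOf_one] at hrg; omega
      rcases mem_or_inverts hz ((mem_normalizer_torus_iff hz).1 (hle (hyP hr))) with h | ⟨h, -⟩
      · rw [← (isTor_of_mem_torus hy hr hr1).2, (isTor_of_mem_torus hz h hr1).2]
      · have := Nat.le_of_dvd two_pos (orderOf_dvd_of_pow_eq_one (show r ^ 2 = 1 by rw [pow_two, h]))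
        omega
    have e1 := heq x hT hxT (by omega)
    have e2 := heq s (isTor_of_involution h2 hs2) hsT' (by omega)
    exact hsT (e1.trans e2.symm ▸ self_mem_torus s)
  · obtain ⟨m, hm⟩ := ordH e
    rcases alt_four_pow m with h | h <;>
      have := Nat.le_of_dvd (by norm_num) (orderOf_dvd_of_pow_eq_one h) <;> omega
  · -- a transposition of `S₄` has a centraliser of order four
    obtain ⟨z₀, hz0, hz1, hz4⟩ := perm_four_centralizer
    set z : P := e.symm z₀ with hz
    have hzo : orderOf (z : PSL(2, F)) = 2 := by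
      haveI := Fact.mk Nat.prime_two
      rw [Subgroup.orderOf_coe, hz, MulEquiv.orderOf_eq]
      exact orderOf_eq_prime (by rw [pow_two, hz0]) hz1
    obtain ⟨hzT, r, hr, -, hrz, hrT, -⟩ := involution_closure h4 h2 hP z.2 hzo
    obtain ⟨hz4', -, -⟩ := size _ hzo
    have hTz := isTor_of_involution h2 hzo
    have cz : ∀ (y : PSL(2, F)) (hy : y ∈ P), y * z = z * y → e ⟨y, hy⟩ * z₀ = z₀ * e ⟨y, hy⟩ := by
      intro y hy hc
      have := congrArg e (show (⟨y, hy⟩ : P) * z = z * ⟨y, hy⟩ from Subtype.ext hc)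
      simpa [map_mul, hz] using this
    let f : Option (torus (z : PSL(2, F))) → {g : Equiv.Perm (Fin 4) // g * z₀ = z₀ * g} := fun o =>
      o.elim ⟨e ⟨r, hr⟩, cz r hr hrz⟩
        fun y => ⟨e ⟨y.1, hzT y.2⟩, cz _ _ (torus_comm hTz y.2 (self_mem_torus _))⟩
    have hf : Function.Injective f := by
      rintro (_ | ⟨y, hy⟩) (_ | ⟨y', hy'⟩) h
      · rfl
      all_goals simp [f, Subtype.ext_iff] at h
      · exact absurd (h ▸ hy') hrT
      · exact absurd (h ▸ hy) hrT
      · subst h; rfl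
    have := Nat.card_le_card_of_injective f hf
    rw [Finite.card_option, Nat.card_eq_fintype_card (α := {g : Equiv.Perm (Fin 4) // g * z₀ = z₀ * g}),
      hz4] at this
    omega
  · obtain ⟨m, hm⟩ := ordH e
    rcases alt_five_pow m with h | h | h
    · have := Nat.le_of_dvd (by norm_num) (orderOf_dvd_of_pow_eq_one h); omega
    · have := Nat.le_of_dvd (by norm_num) (orderOf_dvd_of_pow_eq_one h); omega
    · have h' := orderOf_dvd_of_pow_eq_one h
      rcases (Nat.dvd_prime Nat.prime_five).1 h' with h'' | h'' <;> omega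
  · rcases h.orderOf_le with h' | ⟨Q, hQ, hQ2, -, hord⟩
    · exact hne h'
    have hle := hord t htP
    rw [hgen] at hle
    have hQ3 : Q ≤ 3 := by
      have h1 : Q * Q ≤ 2 * Q + 3 := by rw [← pow_two]; omega
      nlinarith
    have h9 : Fintype.card F = 9 := by interval_cases Q <;> omega
    obtain ⟨R, m, hR, hRm, hm1, hc⟩ := h.card_cases
    have h3R : 3 ∣ R := by
      have : R ∣ 3 ^ 2 := by
        rw [show (3 : ℕ) ^ 2 = Fintype.card F by rw [h9]; rfl, ← hRm]; exact dvd_pow_self R (by omega)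
      obtain ⟨k, -, rfl⟩ := (Nat.dvd_prime_pow Nat.prime_three).1 this
      exact dvd_pow_self 3 (by rintro rfl; simp at hR)
    have h3P : 3 ∣ Nat.card P := by
      have h3 : 3 ∣ R * (R - 1) * (R + 1) := (h3R.mul_right _).mul_right _
      rcases hc with hc | ⟨-, -, hc⟩
      · rw [← hc] at h3
        refine (Nat.Coprime.dvd_of_dvd_mul_left ?_ h3)
        exact Nat.Coprime.of_dvd_right (Nat.gcd_dvd_left _ _) (by norm_num)
      · rwa [← hc] at h3
    haveI := Fact.mk Nat.prime_three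
    obtain ⟨⟨v, hv⟩, hv3⟩ := exists_prime_orderOf_dvd_card' 3 h3P
    rw [Subgroup.orderOf_mk] at hv3
    exact false_of_nine h9 hP hne hx hx2 hv hv3

/-- All triangle-free TI subgroups. -/
theorem good_cases (h4 : 4 ≤ Fintype.card F) (h5 : Fintype.card F ≠ 5) {P : Subgroup PSL(2, F)}
    (hP : Good P) (h1 : P ≠ ⊥) (hne : P ≠ ⊤) :
    Fintype.card F % 2 = 0 ∧ ((∃ c, P = conjS c upGroup) ∨
      (Fintype.card F % 3 = 2 ∧ Nat.card P = 3)) := by
  rcases Nat.even_or_odd (Nat.card P) with he | ho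
  · haveI := Fact.mk Nat.prime_two
    obtain ⟨⟨x, hx⟩, hx2⟩ := exists_prime_orderOf_dvd_card' 2 (even_iff_two_dvd.1 he)
    rw [Subgroup.orderOf_mk] at hx2
    by_cases h2 : (2 : F) = 0
    · exact ⟨even_card_iff.2 h2, Or.inl (even_involution_case h4 h2 hP hne hx hx2)⟩
    · exact (odd_involution_case h4 h5 h2 hP hne hx hx2).elim
  · obtain ⟨a, b, c⟩ := odd_order_case h4 hP h1 hne ho
    exact ⟨a, Or.inr ⟨b, c⟩⟩

theorem no_order_three_BP (h2 : (2 : F) = 0) (h3 : Fintype.card F % 3 = 2) {y : PSL(2, F)}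
    (hy : y ∈ BP) (hy3 : y ^ 3 = 1) : y = 1 := by
  have hc : chi y ^ 3 = 1 := by
    rw [← chi_one (F := F), ← hy3, pow_succ y, pow_two, chi_mul _ hy, chi_mul _ hy]; ring
  have hc1 : chi y = 1 := by
    by_contra h
    classical
    set w : Fˣ := Units.mk0 (chi y) (chi_ne_zero hy)
    haveI := Fact.mk Nat.prime_three
    have hw : orderOf w = 3 := orderOf_eq_prime (Units.ext (by simpa [w] using hc))
      (fun e => h (by simpa [w] using congrArg Units.val e))
    have := orderOf_dvd_card (x := w)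
    rw [hw, Fintype.card_units] at this
    omega
  obtain ⟨v, rfl⟩ := eq_u_of_chi_eq_one hy hc1
  rw [pow_succ, pow_two, u_mul_self h2, one_mul] at hy3
  exact hy3

theorem even_card_upGroup (h2 : (2 : F) = 0) (c : PSL(2, F)) :
    Even (Nat.card (conjS c (upGroup (F := F)))) := by
  rw [card_conjS, card_upGroup, Nat.even_iff]
  exact even_card_iff.2 h2

/-- Binary actions have one of the exceptional point stabilisers. -/
theorem cases_of_isBin (h4 : 4 ≤ Fintype.card F) (h5 : Fintype.card F ≠ 5)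
    {H : Subgroup PSL(2, F)} (hb : IsBin H) (hH : H ≠ ⊤) (h1 : H ≠ ⊥) :
    Fintype.card F % 2 = 0 ∧ ((∃ c, H = conjS c upGroup) ∨
      (Fintype.card F % 3 = 2 ∧ Nat.card H = 3)) := by
  have low : ∀ K, IsInt H K → K ≠ ⊥ → ∃ P ≤ K, P ≠ ⊥ ∧ Fintype.card F % 2 = 0 ∧
      ((∃ c, P = conjS c upGroup) ∨ (Fintype.card F % 3 = 2 ∧ Nat.card P = 3)) := by
    intro K hK hK1
    obtain ⟨P, hPK, hP, hP1, hmin⟩ := exists_minimal hK hK1
    exact ⟨P, hPK, hP1, good_cases h4 h5 (good_of_minimal hb hP hmin) hP1 (hP.ne_top hH)⟩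
  obtain ⟨P₀, hP₀, -, hev, hP₀c⟩ := low H (IsInt.self H) h1
  have h2 := even_card_iff.1 hev
  haveI : CharP F 2 := CharTwo.of_one_ne_zero_of_two_eq_zero one_ne_zero h2
  haveI := Fact.mk Nat.prime_two
  refine ⟨hev, ?_⟩
  rcases Nat.even_or_odd (Nat.card H) with he | ho
  · left
    obtain ⟨⟨t, ht⟩, ht2⟩ := exists_prime_orderOf_dvd_card' 2 (even_iff_two_dvd.1 he)
    rw [Subgroup.orderOf_mk] at ht2
    have hu1 : orderOf (u (1 : F)) = 2 :=
      orderOf_eq_prime (by rw [pow_two, u_mul_self h2]) (u_ne_one one_ne_zero)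
    obtain ⟨c, hc⟩ := isConj_iff.1 (isConj_of_orderOf_two ht2 hu1)
    set S := {g : PSL(2, F) | u 1 ∈ conjS g H} with hS
    have hcS : c ∈ S := by rw [hS, Set.mem_setOf_eq, mem_conjS, ← hc]; simpa [mul_assoc] using ht
    set K := ⨅ g ∈ S, conjS g H with hKd
    have hK : IsInt H K := ⟨S, ⟨c, hcS⟩, rfl⟩
    have hu1K : u 1 ∈ K := by simp only [hKd, Subgroup.mem_iInf]; exact fun g hg => hg
    have hUN : ∀ v, u v ∈ Subgroup.normalizer (K : Set PSL(2, F)) := by
      intro v
      rw [← conjS_eq_self_iff]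
      refine Subgroup.eq_of_le_of_card_ge (fun y hy => ?_) (card_conjS _ _).ge
      rw [mem_conjS] at hy
      simp only [hKd, Subgroup.mem_iInf] at hy ⊢
      intro g hg
      have hg' : (u v)⁻¹ * g ∈ S := by
        rw [hS, Set.mem_setOf_eq, mem_conjS] at hg ⊢
        have e : u v * u 1 * (u v)⁻¹ = u (1 : F) := by
          rw [← u_add, ← u_neg, ← u_add, show v + 1 + -v = (1 : F) by ring]
        simpa [mul_assoc] using (show g⁻¹ * (u v * u 1 * (u v)⁻¹) * g ∈ H by rwa [e])
      have := hy _ hg'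
      rw [mem_conjS] at this ⊢
      simpa [mul_assoc] using this
    have hKB : ∀ y ∈ K, y ∈ BP := by
      intro y hy
      by_contra hyB
      have hyN : y ∈ Subgroup.normalizer (K : Set PSL(2, F)) := Subgroup.le_normalizer hy
      exact hK.ne_top hH (eq_top_of_normal h4
        (fun hb' => u_ne_one (one_ne_zero (α := F)) (Subgroup.mem_bot.1 (hb' ▸ hu1K)))
        (eq_top_of_upGroup hUN hyB fun v => mul_mem (mul_mem hyN (hUN v)) (inv_mem hyN)))
    obtain ⟨P, hPK, hP1, -, hPc⟩ := low K hK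
      (fun hb' => u_ne_one (one_ne_zero (α := F)) (Subgroup.mem_bot.1 (hb' ▸ hu1K)))
    rcases hPc with ⟨a, ha⟩ | ⟨h3, hcard⟩
    swap
    · obtain ⟨y, hy, hy1⟩ := (Subgroup.bot_or_exists_ne_one P).resolve_left hP1
      refine absurd (no_order_three_BP h2 h3 (hKB y (hPK hy)) ?_) hy1
      have h' := pow_card_eq_one' (x := (⟨y, hy⟩ : P))
      rw [hcard] at h'
      exact congrArg Subtype.val h'
    have hPU : P = upGroup := by
      refine Subgroup.eq_of_le_of_card_ge (fun y hy => ?_) (by rw [ha, card_conjS])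
      have hyy : y * y = 1 := by
        rw [ha, mem_conjS] at hy
        obtain ⟨w, hw⟩ := hy
        rw [show y = a * u w * a⁻¹ by rw [hw]; group]
        rw [show a * u w * a⁻¹ * (a * u w * a⁻¹) = a * (u w * u w) * a⁻¹ by group, u_mul_self h2]
        group
      obtain ⟨w, hw⟩ := eq_u_of_chi_eq_one (hKB y (hPK hy)) (chi_eq_one_of_sq h2 (hKB y (hPK hy)) hyy)
      exact ⟨w, hw.symm⟩
    set H' := conjS c H with hH'
    have hUH : ∀ v, u v ∈ H' := by
      intro v
      have : u v ∈ K := hPK (hPU ▸ ⟨v, rfl⟩)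
      simp only [hKd, Subgroup.mem_iInf] at this
      exact this c hcS
    refine ⟨c⁻¹, ?_⟩
    rw [← conjS_inv_conjS c H]
    congr 1
    rw [← hH']
    refine le_antisymm (fun y hy => ?_) (fun y hy => by obtain ⟨w, rfl⟩ := hy; exact hUH w)
    have hyB : y ∈ BP := by
      by_contra h
      exact (IsInt.ne_top hH (isInt_conjS c H))
        (eq_top_of_upGroup hUH h fun v => mul_mem (mul_mem hy (hUH v)) (inv_mem hy))
    by_contra hyU
    obtain ⟨D, W, hD, hDB, hDc, hWD, -, hdiag⟩ := exists_diag_inverted hUH hy hyB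
    have hD1 : D⁻¹ ≠ 1 := by
      rw [Ne, inv_eq_one]
      rintro rfl
      rw [chi_one] at hDc
      obtain ⟨w, rfl⟩ := eq_u_of_chi_eq_one hyB hDc.symm
      exact hyU ⟨w, rfl⟩
    have hDK : D⁻¹ ∈ H' ⊓ conjS W H' :=
      Subgroup.mem_inf.2 ⟨inv_mem hD, hWD ▸ (mem_conjS.2 (by simpa [mul_assoc] using hD) : W * D * W⁻¹ ∈ conjS W H')⟩
    have hBP : ∀ y ∈ H', y ∈ BP := fun z hz => by
      by_contra h
      exact (IsInt.ne_top hH (isInt_conjS c H))
        (eq_top_of_upGroup hUH h fun v => mul_mem (mul_mem hz (hUH v)) (inv_mem hz))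
    obtain ⟨Q, hQK, hQ1, -, hQc⟩ := low _ ((isInt_conjS c H).inf ((isInt_conjS c H).conj W))
      (fun hb' => hD1 (Subgroup.mem_bot.1 (hb' ▸ hDK)))
    obtain ⟨z, hz, hz1⟩ := (Subgroup.bot_or_exists_ne_one Q).resolve_left hQ1
    rcases hQc with ⟨b, hb'⟩ | ⟨h3, hcard⟩
    · rw [hb', mem_conjS] at hz
      obtain ⟨w, hw⟩ := hz
      have hzz : z * z = 1 := by
        rw [show z = b * u w * b⁻¹ by rw [hw]; group,
          show b * u w * b⁻¹ * (b * u w * b⁻¹) = b * (u w * u w) * b⁻¹ by group, u_mul_self h2]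
        group
      have hzQ : z ∈ Q := by rw [hb', mem_conjS]; exact ⟨w, hw⟩
      have hzB := hBP z (hQK hzQ).1
      obtain ⟨w', rfl⟩ := eq_u_of_chi_eq_one hzB (chi_eq_one_of_sq h2 hzB hzz)
      exact hz1 (by rw [hdiag _ hzB (hBP _ (mem_conjS.1 (hQK hzQ).2)) w' rfl, u_zero])
    · refine hz1 (no_order_three_BP h2 h3 (hBP z (hQK hz).1) ?_)
      have h' := pow_card_eq_one' (x := (⟨z, hz⟩ : Q))
      rw [hcard] at h'
      exact congrArg Subtype.val h'
  · right
    rcases hP₀c with ⟨a, rfl⟩ | ⟨h3, -⟩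
    · exact absurd ((even_card_upGroup h2 a).two_dvd.trans (Subgroup.card_dvd_of_le hP₀))
        (fun h => Nat.not_even_iff_odd.2 ho (even_iff_two_dvd.2 h))
    have htor : ∀ x ∈ H, x ≠ 1 → IsTor x := fun x hx hx1 => by
      rw [isTor_iff_pow 2, pow_two]
      exact fun h => hx1 (eq_one_of_sq ho hx h)
    have hgood : Good H := by
      refine good_of_ti hb (IsInt.self H) fun g x hx hxg hx1 => ?_
      have hle := le_torus_of_odd hH ho htor hx hx1
      refine Subgroup.eq_of_le_of_card_ge (fun y hy => ?_) (card_conjS _ _).ge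
      rw [mem_conjS] at hy hxg
      have hcases := mem_or_inverts (htor x hx hx1) (n := g⁻¹) (by simpa using hle hxg)
      rcases hcases with h | ⟨hg2, hinv⟩
      · have := torus_comm (htor x hx hx1) (inv_mem (inv_mem h)) (hle hy)
        rw [show g⁻¹ * y * g = y by
          have e : g⁻¹ * (g⁻¹ * y * g) = (g⁻¹ * y * g) * g⁻¹ := by simpa using this
          calc g⁻¹ * y * g = g * (g⁻¹ * (g⁻¹ * y * g)) := by group
            _ = g * ((g⁻¹ * y * g) * g⁻¹) := by rw [e]
            _ = y := by group] at hy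
        exact hy
      · have e := hinv _ (hle hy)
        have : y = (g⁻¹ * y * g)⁻¹ := by
          have hgg : g⁻¹ = g := inv_eq_of_mul_eq_one_right (by
            have := congrArg (·⁻¹) hg2; simpa [_root_.mul_inv_rev] using this)
          rw [← e]
          simp only [hgg, mul_assoc]
          rw [show g * g = 1 by rw [← hgg]; nth_rewrite 2 [hgg]; exact inv_mul_cancel g, mul_one,
            ← mul_assoc, show g * g = 1 by rw [← hgg]; nth_rewrite 2 [hgg]; exact inv_mul_cancel g,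
            one_mul]
        rw [this]
        exact inv_mem hy
    obtain ⟨-, h3', hc⟩ := odd_order_case h4 hgood h1 hH ho
    exact ⟨h3', hc⟩

/-- The unipotent group gives a binary action in even characteristic. -/
theorem isBin_upGroup (h2 : (2 : F) = 0) (c : PSL(2, F)) : IsBin (conjS c (upGroup (F := F))) := by
  have hg : Good (upGroup (F := F)) := by
    constructor
    · rintro g x ⟨w, rfl⟩ hxg hx1
      have hw : w ≠ 0 := fun e => hx1 (by rw [e, u_zero])
      rw [mem_conjS] at hxg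
      obtain ⟨v, hv⟩ := hxg
      have hv0 : v ≠ 0 := fun e => hw (u_injective (by
        rw [u_zero]; rw [e, u_zero] at hv
        simpa [mul_assoc] using congrArg (fun z => g * z * g⁻¹) hv.symm))
      have hgB : g ∈ BP := mem_BP_of_conj_u hv0 (v := w) (by rw [hv]; group)
      refine Subgroup.eq_of_le_of_card_ge ?_ (card_conjS _ _).ge
      intro y hy
      rw [mem_conjS] at hy
      obtain ⟨r, hr⟩ := hy
      exact ⟨chi g * r, by rw [← conj_u hgB r, hr]; group⟩
    · rintro x ⟨w, rfl⟩ hx1 a b y hy hxy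
      have sq : ∀ (a z : PSL(2, F)), z ∈ conjS a (upGroup (F := F)) → z * z = 1 := by
        intro a z hz
        rw [mem_conjS] at hz
        obtain ⟨r, hr⟩ := hz
        rw [show z = a * u r * a⁻¹ by rw [hr]; group,
          show a * u r * a⁻¹ * (a * u r * a⁻¹) = a * (u r * u r) * a⁻¹ by group, u_mul_self h2]
        group
      have hw : w ≠ 0 := fun e => hx1 (by rw [e, u_zero])
      have h1 := sq a y hy
      have h3 := sq b _ hxy
      have hcomm : y * u w = u w * y := by
        calc y * u w = (u w * u w) * (y * u w) * (y * y) := by rw [u_mul_self h2, h1, one_mul, mul_one]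
          _ = u w * (u w * y * (u w * y)) * y := by group
          _ = u w * y := by rw [h3, mul_one]
      obtain ⟨v, hv⟩ := exists_eq_u_of_comm hw hcomm
      exact ⟨v, hv.symm⟩
  have hgc := hg.conj c
  exact isBin_of_triangleFree hgc.ti hgc.nt

/-- For `q = 2 ^ odd` there are no two elements of order three with product of order three,
except in a common subgroup. -/
theorem eq_of_cubes (h2 : (2 : F) = 0) (h3 : Fintype.card F % 3 = 2) {x y : PSL(2, F)}
    (hx : x ^ 3 = 1) (hx1 : x ≠ 1) (hy : y ^ 3 = 1) (hy1 : y ≠ 1) (hxy : (x * y) ^ 3 = 1)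
    (hxy1 : x * y ≠ 1) : y = x := by
  haveI : CharP F 2 := CharTwo.of_one_ne_zero_of_two_eq_zero one_ne_zero h2
  have hone : ∀ g : SL(2, F), proj g ^ 3 = 1 → proj g ≠ 1 → tr g = 1 := fun g h h' => by
    have := tr_sq_eq_one h h'
    have e : (tr g - 1) * (tr g - 1) = 0 := by linear_combination this + (1 - tr g) * h2
    exact sub_eq_zero.1 (mul_self_eq_zero.1 e)
  obtain ⟨G, rfl⟩ := proj_surjective x
  have hG := hone G hx hx1
  have hG4 : tr G ^ 2 ≠ 4 := by
    rw [hG]; intro e; exact one_ne_zero (show (1 : F) = 0 by linear_combination e + 2 * h2)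
  obtain ⟨C, hC⟩ := isConj_iff.1 (isConj_companion G 1 hG (by rwa [← hG]))
  set y' := proj C * y * (proj C)⁻¹ with hy'
  obtain ⟨Y, hY⟩ := proj_surjective y'
  have hCG : proj C * proj G * (proj C)⁻¹ = proj (companion 1) := by
    rw [← proj_inv, ← proj_mul, ← proj_mul, hC]
  have hY1 : tr Y = 1 := hone Y (by rw [hY, hy', conj_pow, hy]; group)
    (by rw [hY, hy', Ne, conj_eq_one_iff]; exact hy1)
  have e : proj (companion 1 * Y) = proj C * (proj G * y) * (proj C)⁻¹ := by
    rw [proj_mul, ← hCG, hY, hy']; group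
  have hCY : tr (companion 1 * Y) = 1 := hone _ (by rw [e, conj_pow, hxy]; group)
    (by rw [e, Ne, conj_eq_one_iff]; exact hxy1)
  rw [tr_mul] at hCY
  simp [companion] at hCY
  rw [tr_eq] at hY1
  have hd := det_eq_one Y
  have hroot : ∀ z : F, z ^ 2 + z + 1 ≠ 0 := by
    classical
    intro z hz
    have hz0 : z ≠ 0 := fun e => by rw [e] at hz; simp at hz
    have hz1 : z ≠ 1 := fun e => by
      rw [e] at hz; exact one_ne_zero (show (1 : F) = 0 by linear_combination hz - h2)
    haveI := Fact.mk Nat.prime_three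
    have hw : orderOf (Units.mk0 z hz0) = 3 := orderOf_eq_prime
      (Units.ext (by simp; linear_combination (z - 1) * hz))
      (fun e => hz1 (by simpa using congrArg Units.val e))
    have := orderOf_dvd_card (x := Units.mk0 z hz0)
    rw [hw, Fintype.card_units] at this
    omega
  -- in terms of `B = b + 1`, `C = c + 1` the equations say `B² + B C + C² = 0`
  have hq : (Y.1 0 1 + 1) ^ 2 + (Y.1 0 1 + 1) * (Y.1 1 0 + 1) + (Y.1 1 0 + 1) ^ 2 = 0 := by
    grind
  have hc0 : Y.1 1 0 + 1 = 0 := by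
    by_contra h
    apply hroot ((Y.1 0 1 + 1) / (Y.1 1 0 + 1))
    field_simp
    linear_combination hq
  have hb0 : Y.1 0 1 + 1 = 0 := by
    rw [hc0] at hq
    exact eq_zero_of_pow_eq_zero (n := 2) (by linear_combination hq)
  have hY' : Y = companion 1 := by
    apply Subtype.ext
    show Y.1 = !![0, -1; 1, 1]
    ext i j
    fin_cases i <;> fin_cases j <;> simp <;> grind
  have : y' = proj C * proj G * (proj C)⁻¹ := by rw [hCG, ← hY, hY']
  rw [hy'] at this
  simpa using this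

theorem isBin_of_card_three (h2 : (2 : F) = 0) (h3 : Fintype.card F % 3 = 2)
    {H : Subgroup PSL(2, F)} (hH : Nat.card H = 3) : IsBin H := by
  haveI := Fact.mk Nat.prime_three
  have cube : ∀ a y : PSL(2, F), y ∈ conjS a H → y ^ 3 = 1 := by
    intro a y hy
    have h' := pow_card_eq_one' (x := (⟨y, hy⟩ : conjS a H))
    rw [card_conjS, hH] at h'
    exact congrArg Subtype.val h'
  refine isBin_of_triangleFree ?_ ?_
  · intro g x hx hxg hx1
    have hxo : orderOf x = 3 := orderOf_eq_prime (cube g x hxg) hx1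
    have h1 : Subgroup.zpowers x = H := Subgroup.eq_of_le_of_card_ge (Subgroup.zpowers_le.2 hx)
      (by rw [hH, Nat.card_zpowers, hxo])
    have h2 : Subgroup.zpowers x = conjS g H := Subgroup.eq_of_le_of_card_ge
      (Subgroup.zpowers_le.2 hxg) (by rw [card_conjS, hH, Nat.card_zpowers, hxo])
    exact h2.symm.trans h1
  · intro x hx hx1 a b y hy hxy
    have hx3 : x ^ 3 = 1 := cube 1 x (mem_conjS.2 (by simpa using hx))
    by_cases hy1 : y = 1
    · rw [hy1]; exact one_mem _
    by_cases hxy1 : x * y = 1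
    · rw [eq_inv_of_mul_eq_one_right hxy1]; exact inv_mem hx
    rw [eq_of_cubes h2 h3 hx3 hx1 (cube a y hy) hy1 (cube b _ hxy) hxy1]
    exact hx

end CfsgLib.DicksonPSL2.Binary
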