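import Cfsg.Agent.S0228
import Cfsg.Agent.S3669
import Cfsg.Agent.Small.Order24
import Cfsg.Agent.Classification.SimpleSixty
import Mathlib.GroupTheory.SpecificGroups.Alternating

/-!
# Recognition of `A₄`, `S₄` and `A₅` from the normaliser of a small cyclic subgroup
-/

set_option autoImplicit false

namespace CfsgLib.DicksonPSL2

variable {X : Type*} [Group X] [Finite X]

/-- Order twelve with a self-normalising subgroup of order three. -/
theorem nonempty_equiv_alt_four (hX : Nat.card X = 12) (C : Subgroup X) (_hC : Nat.card C = 3)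
    (hN : Nat.card (Subgroup.normalizer (C : Set X)) = 3) :
    Nonempty (X ≃* alternatingGroup (Fin 4)) := by
  refine Cfsg.Agent.S0228.result hX fun z hz hzc => ?_
  have hzN : z ∈ Subgroup.normalizer (C : Set X) := by
    rw [Subgroup.mem_normalizer_iff]
    intro y
    rw [← Subgroup.mem_center_iff.1 hzc y, mul_inv_cancel_right]
  have := Subgroup.orderOf_dvd_natCard _ hzN
  rw [hz, hN] at this
  norm_num at this

/-- Order sixty with a subgroup of order five which is not normal. -/
theorem nonempty_equiv_alt_five (hX : Nat.card X = 60) (C : Subgroup X) (hC : Nat.card C = 5)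
    (hN : Nat.card (Subgroup.normalizer (C : Set X)) ≠ 60) :
    Nonempty (X ≃* alternatingGroup (Fin 5)) := by
  by_cases hs : IsSimpleGroup X
  · exact CfsgLib.Classification.nonempty_equiv_alternating_five hX
  exfalso
  have : Fact (Nat.Prime 5) := ⟨by norm_num⟩
  have h1 := Cfsg.Agent.S3669.card_sylow_five_of_sixty hX hs
  obtain ⟨P, hP⟩ := (IsPGroup.of_card (n := 1) (by rw [hC]; norm_num) : IsPGroup 5 C).exists_le_sylow
  have : Subsingleton (Sylow 5 X) := (Nat.card_eq_one_iff_unique.mp h1).1
  have hPn : (P : Subgroup X).Normal := Sylow.normal_of_subsingleton P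
  have hP5 : Nat.card (P : Subgroup X) = 5 := by
    rw [CfsgLib.Small.card_sylow_eq (k := 1) (m := 12) (by rw [hX]; norm_num) (by norm_num) P]
    norm_num
  have hCP : C = (P : Subgroup X) := Subgroup.eq_of_le_of_card_ge hP (by rw [hC, hP5])
  apply hN
  rw [hCP, Subgroup.normalizer_eq_top, Subgroup.card_top, hX]

end CfsgLib.DicksonPSL2
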