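import Cfsg.Agent.DicksonPSL2.Components
import Cfsg.Agent.DicksonPSL2.Recognition

/-!
# Subgroups of `PSL(2, q)` of order prime to `q`

They normalise a torus or are `A₄`, `S₄` or `A₅`.
-/

set_option autoImplicit false
set_option linter.unusedSectionVars false

namespace CfsgLib.DicksonPSL2

open Matrix
open scoped MatrixGroups

/-- The term of a component of order `c` and index `d` in its normaliser. -/
theorem weight_ge_quarter {c : ℕ} (hc : 2 ≤ c) :
    (1 / 2 : ℚ) ≤ ((c : ℚ) - 1) / c ∧ (1 / 4 : ℚ) ≤ ((c : ℚ) - 1) / (2 * c) := by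
  have hc' : (2 : ℚ) ≤ c := by exact_mod_cast hc
  constructor
  · rw [le_div_iff₀ (by linarith)]; linarith
  · rw [le_div_iff₀ (by linarith)]; linarith

theorem half_over (c : ℕ) (hc : 2 ≤ c) : ((c : ℚ) - 1) / (2 * c) = 1 / 2 - 1 / (2 * c) := by
  have hc' : (2 : ℚ) ≤ c := by exact_mod_cast hc
  field_simp

theorem full_over (c : ℕ) (hc : 2 ≤ c) : ((c : ℚ) - 1) / c = 1 - 1 / (c : ℚ) := by
  have hc' : (2 : ℚ) ≤ c := by exact_mod_cast hc
  field_simp

/-- The solutions of `1/2a + 1/2b + 1/2c = 1/2 + 1/h` with `a ≤ b ≤ c`. -/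
theorem three_sorted {a b c h : ℕ} (ha : 2 ≤ a) (hab : a ≤ b) (hbc : b ≤ c) (hh : 0 < h)
    (e : 1 / (2 * a : ℚ) + 1 / (2 * b) + 1 / (2 * c) = 1 / 2 + 1 / h) :
    h = 2 * c ∨ (b = 3 ∧ c = 3) ∨ (a = 2 ∧ b = 3 ∧ c = 4 ∧ h = 24) ∨
      (a = 2 ∧ b = 3 ∧ c = 5 ∧ h = 60) := by
  have hhQ : (0 : ℚ) < h := by exact_mod_cast hh
  have hhp : (0 : ℚ) < 1 / h := by positivity
  have bound : ∀ n m : ℕ, 0 < m → m ≤ n → 1 / (2 * n : ℚ) ≤ 1 / (2 * m) := fun n m hm hn => by
    refine one_div_le_one_div_of_le (by positivity) ?_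
    exact mul_le_mul_of_nonneg_left (by exact_mod_cast hn) (by norm_num)
  obtain rfl : a = 2 := by
    by_contra hne
    have h1 := bound a 3 (by norm_num) (by omega)
    have h2 := bound b 3 (by norm_num) (by omega)
    have h3 := bound c 3 (by norm_num) (by omega)
    push_cast at h1 h2 h3
    linarith
  have hb : b ≤ 3 := by
    by_contra hne
    have h2 := bound b 4 (by norm_num) (by omega)
    have h3 := bound c 4 (by norm_num) (by omega)
    push_cast at h2 h3 e
    linarith
  rcases show b = 2 ∨ b = 3 by omega with rfl | rfl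
  · left
    have hc0 : (0 : ℚ) < c := by exact_mod_cast (by omega : 0 < c)
    push_cast at e
    field_simp at e
    exact_mod_cast (by linarith : (h : ℚ) = 2 * c)
  · have hc : c ≤ 5 := by
      by_contra hne
      have h3 := bound c 6 (by norm_num) (by omega)
      push_cast at h3 e
      linarith
    rcases show c = 3 ∨ c = 4 ∨ c = 5 by omega with rfl | rfl | rfl
    · exact Or.inr (Or.inl ⟨rfl, rfl⟩)
    · push_cast at e
      field_simp at e
      refine Or.inr (Or.inr (Or.inl ⟨rfl, rfl, rfl, ?_⟩))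
      exact_mod_cast (by linarith : (h : ℚ) = 24)
    · push_cast at e
      field_simp at e
      refine Or.inr (Or.inr (Or.inr ⟨rfl, rfl, rfl, ?_⟩))
      exact_mod_cast (by linarith : (h : ℚ) = 60)

/-- The solutions of `1/2a + 1/2b + 1/2c = 1/2 + 1/h`. -/
theorem three_cases {a b c h : ℕ} (ha : 2 ≤ a) (hb : 2 ≤ b) (hc : 2 ≤ c) (hh : 0 < h)
    (e : 1 / (2 * a : ℚ) + 1 / (2 * b) + 1 / (2 * c) = 1 / 2 + 1 / h) :
    (h = 2 * a ∨ h = 2 * b ∨ h = 2 * c) ∨ (a = 3 ∧ b = 3 ∨ a = 3 ∧ c = 3 ∨ b = 3 ∧ c = 3) ∨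
      (h = 24 ∧ (a = 2 ∨ b = 2 ∨ c = 2) ∧ a ≤ 4 ∧ b ≤ 4 ∧ c ≤ 4) ∨
      (h = 60 ∧ (a = 2 ∨ b = 2 ∨ c = 2) ∧ (a = 5 ∨ b = 5 ∨ c = 5)) := by
  rcases le_total a b with h1 | h1
  · rcases le_total b c with h2 | h2
    · rcases three_sorted ha h1 h2 hh e with h | h | h | h <;> omega
    · rcases le_total a c with h3 | h3
      · rcases three_sorted ha h3 h2 hh (by linarith) with h | h | h | h <;> omega
      · rcases three_sorted hc h3 h1 hh (by linarith) with h | h | h | h <;> omega
  · rcases le_total a c with h3 | h3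
    · rcases three_sorted hb h1 h3 hh (by linarith) with h | h | h | h <;> omega
    · rcases le_total b c with h2 | h2
      · rcases three_sorted hb h2 h3 hh (by linarith) with h | h | h | h <;> omega
      · rcases three_sorted hc h2 h1 hh (by linarith) with h | h | h | h <;> omega

variable {F : Type*} [Field F] [Fintype F] {H : Subgroup PSL(2, F)}

/-- Facts about a component used in the case analysis. -/
theorem comp_facts {R : Finset (Subgroup H)}
    (hR : ∀ C ∈ R, ∃ x : H, IsTor (x : PSL(2, F)) ∧ C = comp H x) {C : Subgroup H} (hC : C ∈ R) :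
    2 ≤ Nat.card C ∧ (Nat.card (Subgroup.normalizer (C : Set H)) = Nat.card C ∨
      Nat.card (Subgroup.normalizer (C : Set H)) = 2 * Nat.card C) := by
  obtain ⟨x, hx, rfl⟩ := hR C hC
  refine ⟨two_le_card_comp hx, ?_⟩
  rcases card_normalizer_comp hx with h | h
  · exact Or.inl h
  · exact Or.inr h.1

/-- The term of a component. -/
noncomputable def wt (C : Subgroup H) : ℚ :=
  ((Nat.card C : ℚ) - 1) / Nat.card (Subgroup.normalizer (C : Set H))

theorem wt_full {C : Subgroup H} (hc : 2 ≤ Nat.card C)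
    (h : Nat.card (Subgroup.normalizer (C : Set H)) = Nat.card C) :
    wt C = 1 - 1 / (Nat.card C : ℚ) ∧ (1 / 2 : ℚ) ≤ wt C := by
  rw [wt, h]
  exact ⟨full_over _ hc, (weight_ge_quarter hc).1⟩

theorem wt_half {C : Subgroup H} (hc : 2 ≤ Nat.card C)
    (h : Nat.card (Subgroup.normalizer (C : Set H)) = 2 * Nat.card C) :
    wt C = 1 / 2 - 1 / (2 * Nat.card C : ℚ) ∧ (1 / 4 : ℚ) ≤ wt C := by
  rw [wt, h, Nat.cast_mul, Nat.cast_two]
  exact ⟨half_over _ hc, (weight_ge_quarter hc).2⟩

theorem wt_ge {R : Finset (Subgroup H)}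
    (hR : ∀ C ∈ R, ∃ x : H, IsTor (x : PSL(2, F)) ∧ C = comp H x) {C : Subgroup H} (hC : C ∈ R) :
    (1 / 4 : ℚ) ≤ wt C := by
  obtain ⟨hc, h | h⟩ := comp_facts hR hC
  · linarith [(wt_full hc h).2]
  · exact (wt_half hc h).2

/-- A sum of less than one half has at most one term, with index two. -/
theorem rest_cases {R : Finset (Subgroup H)}
    (hR : ∀ C ∈ R, ∃ x : H, IsTor (x : PSL(2, F)) ∧ C = comp H x)
    (h : ∑ C ∈ R, wt C < 1 / 2) :
    R = ∅ ∨ ∃ C, R = {C} ∧ 2 ≤ Nat.card C ∧
      Nat.card (Subgroup.normalizer (C : Set H)) = 2 * Nat.card C ∧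
      wt C = 1 / 2 - 1 / (2 * Nat.card C : ℚ) := by
  have hcard : R.card ≤ 1 := by
    by_contra hcon
    have h1 := Finset.card_nsmul_le_sum R wt (1 / 4 : ℚ) fun C hC => wt_ge hR hC
    rw [nsmul_eq_mul] at h1
    have : (2 : ℚ) ≤ R.card := by exact_mod_cast Nat.lt_of_not_le hcon
    linarith
  rcases Nat.le_one_iff_eq_zero_or_eq_one.1 hcard with h0 | h1
  · exact Or.inl (Finset.card_eq_zero.1 h0)
  · obtain ⟨C, rfl⟩ := Finset.card_eq_one.1 h1
    rw [Finset.sum_singleton] at h
    obtain ⟨hc, hd | hd⟩ := comp_facts hR (Finset.mem_singleton_self C)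
    · linarith [(wt_full hc hd).2]
    · exact Or.inr ⟨C, rfl, hc, hd, (wt_half hc hd).1⟩

theorem normalizes_of_card {R : Finset (Subgroup H)}
    (hR : ∀ C ∈ R, ∃ x : H, IsTor (x : PSL(2, F)) ∧ C = comp H x) {C : Subgroup H} (hC : C ∈ R)
    (h : Nat.card (Subgroup.normalizer (C : Set H)) = Nat.card H) :
    ∃ x : PSL(2, F), IsTor x ∧ H ≤ Subgroup.normalizer (torus x : Set PSL(2, F)) := by
  obtain ⟨x, hx, rfl⟩ := hR C hC
  exact ⟨x, hx, le_normalizer_torus_of_card hx h⟩

/-- Elements of order six are excluded by small components. -/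
theorem orderOf_ne_six {R : Finset (Subgroup H)} (p : ℕ) [Fact p.Prime] [CharP F p]
    (hp : ¬ p ∣ Nat.card H)
    (hcov : ∀ x : H, IsTor (x : PSL(2, F)) → ∃ D ∈ R, ∃ g, conjS g D = comp H x)
    (hsmall : ∀ C ∈ R, ¬ 6 ∣ Nat.card C) (g : H) : orderOf g ≠ 6 := by
  intro hg
  have hp6 : ¬ p ∣ 6 := fun h => hp (h.trans (hg ▸ orderOf_dvd_natCard g))
  have htor : IsTor (g : PSL(2, F)) := by
    rw [isTor_iff_pow p]
    intro e
    have h1 := orderOf_dvd_of_pow_eq_one e
    rw [Subgroup.orderOf_coe, hg] at h1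
    rcases (Nat.dvd_prime (Fact.out : p.Prime)).1 h1 with h | h
    · exact absurd h (by norm_num)
    · exact hp6 (h ▸ dvd_refl 6)
  obtain ⟨D, hD, a, ha⟩ := hcov g htor
  refine hsmall D hD ?_
  rw [← card_conjS a D, ha, ← hg]
  exact Subgroup.orderOf_dvd_natCard _ (self_mem_comp g)

set_option maxHeartbeats 800000 in
/-- Subgroups of order prime to the characteristic. -/
theorem coprime_case (p : ℕ) [Fact p.Prime] [CharP F p] (hp : ¬ p ∣ Nat.card H) :
    H = ⊥ ∨ (∃ x : PSL(2, F), IsTor x ∧ H ≤ Subgroup.normalizer (torus x : Set PSL(2, F))) ∨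
      (Nat.card H = 12 ∧ p ≠ 2 ∧ Nonempty (H ≃* alternatingGroup (Fin 4))) ∨
      (Nat.card H = 24 ∧ p ≠ 2 ∧ Nonempty (H ≃* Equiv.Perm (Fin 4))) ∨
      (Nat.card H = 60 ∧ p ≠ 2 ∧ Nonempty (H ≃* alternatingGroup (Fin 5))) := by
  classical
  obtain ⟨P⟩ : Nonempty (Sylow p H) := inferInstance
  obtain ⟨R, hR, hcov, hnc, heq⟩ := class_equation p P
  have hP : Nat.card (P : Subgroup H) = 1 := by
    rw [P.card_eq_multiplicity, Nat.factorization_eq_zero_of_not_dvd hp, pow_zero]
  rw [hP, Nat.cast_one, sub_self, zero_div, zero_add] at heq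
  change 1 - 1 / (Nat.card H : ℚ) = ∑ C ∈ R, wt C at heq
  by_cases hbot : H = ⊥
  · exact Or.inl hbot
  right
  have hh1 : (2 : ℚ) ≤ Nat.card H := by
    exact_mod_cast (Subgroup.one_lt_card_iff_ne_bot H).2 hbot
  have hhpos : (0 : ℚ) < 1 / (Nat.card H : ℚ) := by positivity
  have hhhalf : 1 / (Nat.card H : ℚ) ≤ 1 / 2 := one_div_le_one_div_of_le (by norm_num) hh1
  have hdvd : ∀ C ∈ R, Nat.card (Subgroup.normalizer (C : Set H)) ≤ Nat.card H :=
    fun C _ => Nat.le_of_dvd Nat.card_pos (Subgroup.card_subgroup_dvd_card _)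
  have h2ne : ∀ C ∈ R, Nat.card C = 2 ∨ Nat.card C = 4 → p ≠ 2 := by
    rintro C hC h rfl
    obtain ⟨x, hx, rfl⟩ := hR C hC
    exact not_dvd_card_comp 2 hx (by rcases h with h | h <;> rw [h] <;> norm_num)
  by_cases hs : ∃ C ∈ R, Nat.card (Subgroup.normalizer (C : Set H)) = Nat.card C
  · -- some component is self-normalising
    obtain ⟨A, hA, hdA⟩ := hs
    obtain ⟨hcA, -⟩ := comp_facts hR hA
    have hwA := (wt_full hcA hdA).1
    rw [← Finset.add_sum_erase R wt hA, hwA] at heq
    have hcA' : (2 : ℚ) ≤ Nat.card A := by exact_mod_cast hcA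
    have hA2 : 1 / (Nat.card A : ℚ) ≤ 1 / 2 := one_div_le_one_div_of_le (by norm_num) hcA'
    rcases rest_cases (R := R.erase A) (fun C hC => hR C (Finset.mem_of_mem_erase hC))
      (by linarith) with h0 | ⟨B, hB, hcB, hdB, hwB⟩
    · left
      rw [h0, Finset.sum_empty, add_zero] at heq
      have : (Nat.card H : ℚ) = Nat.card A := by
        rw [sub_right_inj, one_div, one_div, _root_.inv_inj] at heq
        exact heq
      exact normalizes_of_card hR hA (by rw [hdA]; exact_mod_cast this.symm)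
    · have hBR : B ∈ R := Finset.mem_of_mem_erase (hB ▸ Finset.mem_singleton_self B)
      rw [hB, Finset.sum_singleton, hwB] at heq
      have hh : 1 / (Nat.card H : ℚ) = 1 / (Nat.card A : ℚ) + 1 / (2 * Nat.card B : ℚ) - 1 / 2 := by
        linarith
      have hB4 : 1 / (2 * Nat.card B : ℚ) ≤ 1 / 4 := by
        refine one_div_le_one_div_of_le (by norm_num) ?_
        have : (2 : ℚ) ≤ Nat.card B := by exact_mod_cast hcB
        linarith
      have hA3 : Nat.card A ≤ 3 := by
        by_contra hcon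
        have : 1 / (Nat.card A : ℚ) ≤ 1 / 4 :=
          one_div_le_one_div_of_le (by norm_num) (by exact_mod_cast Nat.lt_of_not_le hcon)
        linarith
      rcases show Nat.card A = 2 ∨ Nat.card A = 3 by omega with hA' | hA'
      · left
        rw [hA'] at hh
        push_cast at hh
        have : (Nat.card H : ℚ) = 2 * Nat.card B := by
          rw [add_sub_cancel_left, one_div, one_div, _root_.inv_inj] at hh
          exact hh
        exact normalizes_of_card hR hBR (by rw [hdB]; exact_mod_cast this.symm)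
      · right; left
        rw [hA'] at hh
        push_cast at hh
        have hB2 : Nat.card B = 2 := by
          by_contra hne
          have : 1 / (2 * Nat.card B : ℚ) ≤ 1 / 6 := by
            refine one_div_le_one_div_of_le (by norm_num) ?_
            have : (3 : ℚ) ≤ Nat.card B := by exact_mod_cast (by omega : 3 ≤ Nat.card B)
            linarith
          linarith
        rw [hB2] at hh
        push_cast at hh
        have h12 : Nat.card H = 12 := by
          have h0 : (Nat.card H : ℚ) ≠ 0 := by linarith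
          field_simp at hh
          exact_mod_cast (by linarith : (Nat.card H : ℚ) = 12)
        exact ⟨h12, h2ne B hBR (Or.inl hB2), nonempty_equiv_alt_four h12 A hA' (hdA.trans hA')⟩
  · -- all components have index two
    have hd : ∀ C ∈ R, Nat.card (Subgroup.normalizer (C : Set H)) = 2 * Nat.card C :=
      fun C hC => (comp_facts hR hC).2.resolve_left fun h => hs ⟨C, hC, h⟩
    have hw : ∀ C ∈ R, wt C = 1 / 2 - 1 / (2 * Nat.card C : ℚ) :=
      fun C hC => (wt_half (comp_facts hR hC).1 (hd C hC)).1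
    have hpos : ∀ C ∈ R, (0 : ℚ) < 1 / (2 * Nat.card C : ℚ) := fun C hC => by
      have : (2 : ℚ) ≤ Nat.card C := by exact_mod_cast (comp_facts hR hC).1
      positivity
    have hcard4 : R.card ≤ 3 := by
      by_contra hcon
      have h1 := Finset.card_nsmul_le_sum R wt (1 / 4 : ℚ) fun C hC => wt_ge hR hC
      rw [nsmul_eq_mul] at h1
      have : (4 : ℚ) ≤ R.card := by exact_mod_cast Nat.lt_of_not_le hcon
      linarith
    have hge : ∀ C ∈ R, 1 / (Nat.card H : ℚ) ≤ 1 / (2 * Nat.card C : ℚ) := fun C hC => by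
      refine one_div_le_one_div_of_le ?_ ?_
      · have : (2 : ℚ) ≤ Nat.card C := by exact_mod_cast (comp_facts hR hC).1
        linarith
      · have := hdvd C hC
        rw [hd C hC] at this
        exact_mod_cast this
    obtain ⟨A, B, C, hAB, hAC, hBC, hRe⟩ : ∃ A B C, A ≠ B ∧ A ≠ C ∧ B ≠ C ∧ R = {A, B, C} := by
      refine Finset.card_eq_three.1 ?_
      by_contra h3
      rcases show R.card = 0 ∨ R.card = 1 ∨ R.card = 2 by omega with h | h | h
      · rw [Finset.card_eq_zero.1 h, Finset.sum_empty] at heq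
        linarith
      · obtain ⟨A, rfl⟩ := Finset.card_eq_one.1 h
        rw [Finset.sum_singleton, hw A (by simp)] at heq
        linarith [hpos A (by simp)]
      · obtain ⟨A, B, hAB, rfl⟩ := Finset.card_eq_two.1 h
        rw [Finset.sum_pair hAB, hw A (by simp), hw B (by simp)] at heq
        linarith [hge A (by simp), hpos B (by simp)]
    clear hcard4
    have hmem : A ∈ R ∧ B ∈ R ∧ C ∈ R := by rw [hRe]; simp
    have hsum : 1 / (2 * Nat.card A : ℚ) + 1 / (2 * Nat.card B : ℚ) + 1 / (2 * Nat.card C : ℚ) =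
        1 / 2 + 1 / (Nat.card H : ℚ) := by
      have hB' : B ∉ ({C} : Finset (Subgroup H)) := by simpa using hBC
      have hA' : A ∉ insert B ({C} : Finset (Subgroup H)) := by simp [hAB, hAC]
      rw [hRe, Finset.sum_insert hA', Finset.sum_insert hB', Finset.sum_singleton, hw A hmem.1,
        hw B hmem.2.1, hw C hmem.2.2] at heq
      linarith
    have hconj3 : ∀ X Y, X ∈ R → Y ∈ R → X ≠ Y → ¬ (Nat.card X = 3 ∧ Nat.card Y = 3) := by
      rintro X Y hX hY hne ⟨h, h'⟩
      obtain ⟨x, hx, rfl⟩ := hR X hX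
      obtain ⟨y, hy, rfl⟩ := hR Y hY
      obtain ⟨g, hg⟩ := exists_conj_comp_of_gcd hx hy (by rw [h, h']; norm_num)
      exact hne (hnc _ hX _ hY g hg)
    obtain ⟨hA, hB, hC⟩ := hmem
    rcases three_cases (comp_facts hR hA).1 (comp_facts hR hB).1 (comp_facts hR hC).1 Nat.card_pos
      hsum with h | h | ⟨h24, h2, h4⟩ | ⟨h60, h2, h5⟩
    · left
      rcases h with h | h | h
      · exact normalizes_of_card hR hA (by rw [hd A hA, h])
      · exact normalizes_of_card hR hB (by rw [hd B hB, h])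
      · exact normalizes_of_card hR hC (by rw [hd C hC, h])
    · rcases h with h | h | h
      · exact absurd h (hconj3 A B hA hB hAB)
      · exact absurd h (hconj3 A C hA hC hAC)
      · exact absurd h (hconj3 B C hB hC hBC)
    · right; right; left
      refine ⟨h24, ?_, Small.equiv_perm_four_of_order24 h24
        (orderOf_ne_six p hp hcov fun X hX h6 => ?_)⟩
      · rcases h2 with h | h | h
        · exact h2ne A hA (Or.inl h)
        · exact h2ne B hB (Or.inl h)
        · exact h2ne C hC (Or.inl h)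
      · have h6' := Nat.le_of_dvd Nat.card_pos h6
        rw [hRe] at hX
        simp only [Finset.mem_insert, Finset.mem_singleton] at hX
        rcases hX with rfl | rfl | rfl <;> omega
    · right; right; right
      refine ⟨h60, ?_, ?_⟩
      · rcases h2 with h | h | h
        · exact h2ne A hA (Or.inl h)
        · exact h2ne B hB (Or.inl h)
        · exact h2ne C hC (Or.inl h)
      · rcases h5 with h | h | h
        · exact nonempty_equiv_alt_five h60 A h (by rw [hd A hA, h]; norm_num)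
        · exact nonempty_equiv_alt_five h60 B h (by rw [hd B hB, h]; norm_num)
        · exact nonempty_equiv_alt_five h60 C h (by rw [hd C hC, h]; norm_num)

end CfsgLib.DicksonPSL2
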