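import Cfsg.Agent.DicksonPSL2.SubfieldFacts

/-!
# Element orders in the small subgroups, and dihedral subgroups outside the Borel group
-/

set_option autoImplicit false
set_option linter.unusedSectionVars false

namespace CfsgLib.DicksonPSL2

open Matrix CfsgLib.SL2Trace
open scoped MatrixGroups

/-- Elements of `PGL(2, Q)` have order at most `Q + 1`. -/
theorem orderOf_PGL_le {K : Type*} [Field K] [Fintype K] (g : PGL(2, K)) :
    orderOf g ≤ Fintype.card K + 1 := by
  classical
  induction g using Matrix.ProjGenLinGroup.induction_on with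
  | mk M =>
    let f : Option K → PGL(2, K) := fun o => o.elim 1 fun s =>
      if h : (s • (1 : Matrix (Fin 2) (Fin 2) K) + M.1).det ≠ 0 then
        ProjGenLinGroup.mk (GeneralLinearGroup.mkOfDetNeZero _ h) else 1
    have hcayley : M.1 * M.1 = M.1.trace • M.1 - M.1.det • 1 := by
      ext i j
      fin_cases i <;> fin_cases j <;>
        simp [Matrix.mul_apply, Fin.sum_univ_two, Matrix.trace_fin_two, Matrix.det_fin_two] <;> ring
    have hspan : ∀ n : ℕ, ∃ x y : K, M.1 ^ n = x • (1 : Matrix (Fin 2) (Fin 2) K) + y • M.1 := by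
      intro n
      induction n with
      | zero => exact ⟨1, 0, by simp⟩
      | succ n ih =>
        obtain ⟨x, y, h⟩ := ih
        refine ⟨-(y * M.1.det), x + y * M.1.trace, ?_⟩
        rw [pow_succ, h, add_mul, smul_mul_assoc, smul_mul_assoc, one_mul, hcayley, smul_sub,
          smul_smul, smul_smul, neg_smul, add_smul]
        abel
    have hmem : ∀ z ∈ Subgroup.zpowers (ProjGenLinGroup.mk M : PGL(2, K)), z ∈ Set.range f := by
      intro z hz
      have : Finite PGL(2, K) := Finite.of_surjective _ ProjGenLinGroup.mk_surjective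
      obtain ⟨n, rfl⟩ := ((mem_powers_iff_mem_zpowers).2 hz)
      obtain ⟨x, y, h⟩ := hspan n
      by_cases hy : y = 0
      · refine ⟨none, ?_⟩
        simp only [f, Option.elim_none]
        rw [← map_pow, eq_comm, ProjGenLinGroup.mk_eq_one,
          GeneralLinearGroup.center_eq_range_scalar]
        have hd : (M ^ n).1.det ≠ 0 := fun h0 => (M ^ n).det_ne_zero h0
        have hM : (M ^ n).1 = x • 1 := by rw [Units.val_pow_eq_pow_val, h, hy, zero_smul, add_zero]
        have hx : x ≠ 0 := by
          rintro rfl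
          rw [hM] at hd
          simp at hd
        refine ⟨Units.mk0 x hx, Units.ext ?_⟩
        rw [hM, GeneralLinearGroup.coe_scalar]
        ext i j
        fin_cases i <;> fin_cases j <;> simp
      · refine ⟨some (x / y), ?_⟩
        have e : (M ^ n).1 = y • ((x / y) • (1 : Matrix (Fin 2) (Fin 2) K) + M.1) := by
          rw [Units.val_pow_eq_pow_val, h, smul_add, smul_smul, mul_div_cancel₀ _ hy]
        have hd : ((x / y) • (1 : Matrix (Fin 2) (Fin 2) K) + M.1).det ≠ 0 := by
          intro h0
          refine (M ^ n).det_ne_zero ?_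
          rw [e, Matrix.det_smul, h0, mul_zero]
        simp only [f, Option.elim_some, dif_pos hd]
        rw [← map_pow, ProjGenLinGroup.mk_eq_mk_iff]
        refine ⟨Units.mk0 y hy, Units.ext ?_⟩
        show ((x / y) • (1 : Matrix (Fin 2) (Fin 2) K) + M.1) * Matrix.scalar (Fin 2) y = (M ^ n).1
        rw [e]
        ext i j
        simp [mul_comm]
    rw [← Nat.card_zpowers]
    calc Nat.card (Subgroup.zpowers (ProjGenLinGroup.mk M : PGL(2, K)))
        ≤ Nat.card (Set.range f) := Nat.card_le_card_of_injective (fun z => ⟨z.1, hmem z.1 z.2⟩)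
          fun a b h => Subtype.ext (congrArg Subtype.val h :)
      _ ≤ Nat.card (Option K) := Finite.card_range_le f
      _ = Fintype.card K + 1 := by rw [Finite.card_option, Nat.card_eq_fintype_card]

theorem alt_four_pow : ∀ g : alternatingGroup (Fin 4), g ^ 2 = 1 ∨ g ^ 3 = 1 := by decide +kernel

theorem perm_four_pow : ∀ g : Equiv.Perm (Fin 4), g ^ 3 = 1 ∨ g ^ 4 = 1 := by decide +kernel

theorem alt_five_pow : ∀ g : alternatingGroup (Fin 5), g ^ 2 = 1 ∨ g ^ 3 = 1 ∨ g ^ 5 = 1 := by
  decide +kernel

/-- `A₄` has no subgroup isomorphic to `S₃`. -/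
theorem alt_four_no_inverting : ∀ a b : alternatingGroup (Fin 4),
    a ^ 3 = 1 → a ≠ 1 → b * a * b⁻¹ = a⁻¹ → False := by decide +kernel

variable {F : Type*} [Field F] [Fintype F]

/-- A subgroup with a semisimple element of order `> 2` and an element inverting it fixes no
point. -/
theorem not_inBorel_of_inverted {H : Subgroup PSL(2, F)} {t n : PSL(2, F)} (ht : IsTor t)
    (ht2 : t * t ≠ 1) (htH : t ∈ H) (hn : n ∈ H) (hinv : n * t * n⁻¹ = t⁻¹) : ¬ InBorel H := by
  rintro ⟨a, ha⟩
  have hm : ∀ x ∈ H, a * x * a⁻¹ ∈ BP := fun x hx => ha (mem_conjS.2 (by simpa [mul_assoc] using hx))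
  set t' := a * t * a⁻¹ with ht'
  set n' := a * n * a⁻¹ with hn'
  have e : n' * t' = t'⁻¹ * n' := by
    rw [ht', hn', show a * n * a⁻¹ * (a * t * a⁻¹) = a * (n * t * n⁻¹) * n * a⁻¹ by group, hinv]
    group
  have h1 : chi (t' * n' * t') = chi n' := by
    rw [mul_assoc, e, ← mul_assoc, mul_inv_cancel, one_mul]
  rw [chi_mul _ (hm t htH), chi_mul _ (hm n hn)] at h1
  have h2 : chi (t' * t') = 1 := by
    rw [chi_mul _ (hm t htH)]
    exact mul_right_cancel₀ (chi_ne_zero (hm n hn)) (by rw [one_mul]; linear_combination h1)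
  obtain ⟨v, hv⟩ := eq_u_of_chi_eq_one (mul_mem (hm t htH) (hm t htH)) h2
  have htor : IsTor (a * (t * t) * a⁻¹) :=
    (isTor_conj_iff _ _).2 (isTor_of_mem_torus ht
      (mul_mem (self_mem_torus t) (self_mem_torus t)) ht2).1
  rw [show a * (t * t) * a⁻¹ = t' * t' by rw [ht']; group, hv] at htor
  exact not_isTor_u v htor

/-- The orders of elements of a subfield group. -/
theorem IsSubfieldGroup.orderOf_le {p : ℕ} [Fact p.Prime] [CharP F p] {H : Subgroup PSL(2, F)}
    (h : IsSubfieldGroup p H) : H = ⊤ ∨ ∃ Q : ℕ, 2 ≤ Q ∧ Q ^ 2 ≤ Fintype.card F ∧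
      Nat.card H ≤ Q * (Q - 1) * (Q + 1) ∧ ∀ x ∈ H, orderOf x ≤ Q + 1 := by
  have h' := h
  obtain ⟨K, iK, iK', ι, a, w, h⟩ := h
  have hord : ∀ x ∈ H, orderOf x ≤ Fintype.card K + 1 := by
    intro x hx
    set f := (ProjectiveSpecialLinearGroup.toPGL (n := Fin 2) (R := F)).comp
      (MulAut.conj a).toMonoidHom with hf
    have hfi : Function.Injective f :=
      ProjectiveSpecialLinearGroup.toPGL_injective.comp (MulAut.conj a).injective
    have hx' : a * x * a⁻¹ ∈ conjS a H := mem_conjS.2 (by simpa [mul_assoc] using hx)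
    rw [← orderOf_injective f hfi x]
    obtain ⟨z, hz⟩ : f x ∈ (psiP ι w).range := by
      rcases h with h | ⟨-, h⟩
      · rw [h] at hx'
        obtain ⟨y, hy⟩ := hx'
        exact ⟨ProjectiveSpecialLinearGroup.toPGL y, by
          rw [← MonoidHom.comp_apply, ← toPGL_comp_psiS, MonoidHom.comp_apply, hy]; rfl⟩
      · rw [← h]
        exact ⟨_, hx', rfl⟩
    rw [← hz, orderOf_injective _ (psiP_injective ι w)]
    exact orderOf_PGL_le z
  letI : Algebra K F := ι.toAlgebra
  have hm : Fintype.card K ^ Module.finrank K F = Fintype.card F :=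
    (Module.card_eq_pow_finrank (K := K) (V := F)).symm
  rcases h'.eq_top_or_small with hT | -
  · exact Or.inl hT
  by_cases hHtop : H = ⊤
  · exact Or.inl hHtop
  right
  refine ⟨Fintype.card K, Fintype.one_lt_card, ?_, ?_, hord⟩
  · rw [← hm]
    refine Nat.pow_le_pow_right Fintype.card_pos ?_
    by_contra hlt
    have h1 : Module.finrank K F = 1 := by have := Module.finrank_pos (R := K) (M := F); omega
    apply hHtop
    refine Subgroup.eq_top_of_le_card _ ?_
    rw [h1, pow_one] at hm
    have hle : Nat.card PSL(2, K) ≤ Nat.card H := by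
      rw [← card_conjS a H]
      rcases h with h | ⟨-, h⟩
      · rw [h, ← Nat.card_congr (MonoidHom.ofInjective (psiS_injective ι w)).toEquiv]
      · rw [Nat.card_congr (Subgroup.equivMapOfInjective _ _
          ProjectiveSpecialLinearGroup.toPGL_injective).toEquiv, h,
          ← Nat.card_congr (MonoidHom.ofInjective (psiP_injective ι w)).toEquiv, Linear.card_PGL]
        exact Nat.card_le_card_of_surjective _ QuotientGroup.mk_surjective
    refine le_trans (le_of_eq ?_) hle
    refine Nat.eq_of_mul_eq_mul_left (Nat.gcd_pos_of_pos_left (Fintype.card F - 1) two_pos) ?_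
    rw [card_PSL_formula F]
    nth_rw 4 [← hm]
    rw [card_PSL_formula K, hm]
  · rw [← card_conjS a H]
    rcases h with h | ⟨-, h⟩
    · rw [h, ← Nat.card_congr (MonoidHom.ofInjective (psiS_injective ι w)).toEquiv, ← card_PSL_formula]
      exact Nat.le_mul_of_pos_left _ (Nat.gcd_pos_of_pos_left _ two_pos)
    · rw [Nat.card_congr (Subgroup.equivMapOfInjective _ _
        ProjectiveSpecialLinearGroup.toPGL_injective).toEquiv, h,
        ← Nat.card_congr (MonoidHom.ofInjective (psiP_injective ι w)).toEquiv, Linear.card_PGL,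
        Linear.card_SL_two, mul_assoc, mul_comm (Fintype.card K - 1), ← Nat.sq_sub_sq, one_pow]

end CfsgLib.DicksonPSL2
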