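import Cfsg.Agent.DicksonPSL2.Basic
import Cfsg.Agent.SL2Trace.Order

/-!
# Products of odd order of involutions of `PSL(2, F)`

For two involutions `x, y` whose product has even order there is an involution `z` such that
`x * z` and `z * y` both have odd order.
-/

set_option autoImplicit false
set_option linter.unusedSectionVars false

namespace CfsgLib.DicksonPSL2.InvolutionGraph

open Matrix CfsgLib.SL2Trace CfsgLib.DicksonPSL2
open CfsgLib.SL2Tori (tr)
open scoped MatrixGroups

variable {F : Type*} [Field F] [Fintype F]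

theorem scalar_eq_one_or {g : SL(2, F)} {c : F}
    (h : (g : Matrix (Fin 2) (Fin 2) F) = c • 1) : g = 1 ∨ g = -1 := by
  have hd : c ^ 2 = 1 := by
    have := g.2
    rw [h, Matrix.det_smul, Matrix.det_one] at this
    simpa using this
  rcases sq_eq_one_iff.1 hd with rfl | rfl
  · exact Or.inl (Subtype.ext (by simp [h]))
  · exact Or.inr (Subtype.ext (by simp [h]))

omit [Fintype F] in
theorem tr_eq' (g : SL(2, F)) : tr g = g 0 0 + g 1 1 := by simp [tr, Matrix.trace_fin_two]

/-- A lift of an involution has trace zero. -/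
theorem tr_eq_zero {g : SL(2, F)} (h : orderOf (proj g) = 2) : tr g = 0 := by
  have h1 : proj g ≠ 1 := fun e => by rw [e, orderOf_one] at h; omega
  have h2 : proj (g * g) = 1 := by
    rw [proj_mul, ← pow_two]; exact orderOf_dvd_iff_pow_eq_one.1 (dvd_of_eq h)
  by_contra ht
  obtain ⟨c, hc⟩ : ∃ c : F, ((g * g : SL(2, F)) : Matrix (Fin 2) (Fin 2) F) = c • 1 := by
    rcases (proj_eq_one_iff _).1 h2 with e | e
    · exact ⟨1, by simp [e]⟩
    · exact ⟨-1, by simp [e]⟩
  have hcl := cayley g (tr g) rfl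
  rw [Matrix.SpecialLinearGroup.coe_mul, ← pow_two] at hc
  rw [hc] at hcl
  have hg : (g : Matrix (Fin 2) (Fin 2) F) = ((c + 1) / tr g) • 1 := by
    have e : tr g • (g : Matrix (Fin 2) (Fin 2) F) = (c + 1) • 1 := by
      rw [add_smul, one_smul]
      exact eq_of_sub_eq_zero (by rw [← neg_eq_zero, ← hcl]; abel)
    rw [div_eq_inv_mul, mul_smul, ← e, smul_smul, inv_mul_cancel₀ ht, one_smul]
  exact h1 ((proj_eq_one_iff _).2 (scalar_eq_one_or hg))

theorem orderOf_eq_two {g : SL(2, F)} (ht : tr g = 0) (h1 : proj g ≠ 1) : orderOf (proj g) = 2 :=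
  haveI := Fact.mk Nat.prime_two
  orderOf_eq_prime (proj_sq_eq_one_of_trace_zero g ht) h1

/-- In odd characteristic all elements of trace zero have involutions as images. -/
theorem orderOf_eq_two_of_odd {g : SL(2, F)} (h2 : (2 : F) ≠ 0) (ht : tr g = 0) :
    orderOf (proj g) = 2 := by
  refine orderOf_eq_two ht fun e => h2 ?_
  rcases (proj_eq_one_iff _).1 e with rfl | rfl
  · rw [tr_eq'] at ht; simpa [one_add_one_eq_two] using ht
  · rw [tr_eq'] at ht
    simp at ht
    linear_combination -ht

theorem odd_of_pow_eq_one {M : Type*} [Monoid M] {a : M} {n : ℕ} (h : a ^ n = 1) (hn : Odd n) :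
    Odd (orderOf a) :=
  hn.of_dvd_nat (orderOf_dvd_of_pow_eq_one h)

theorem odd_orderOf_unipotent (h2 : (2 : F) ≠ 0) {g : SL(2, F)} (ht : tr g ^ 2 = 4) :
    Odd (orderOf (proj g)) := by
  obtain ⟨p, hp⟩ := CharP.exists F
  haveI : Fact p.Prime := ⟨CharP.char_is_prime F p⟩
  refine odd_of_pow_eq_one (proj_pow_char_eq_one p g ht) ?_
  rcases (Fact.out : p.Prime).eq_two_or_odd' with rfl | h
  · exact absurd (by exact_mod_cast CharP.cast_eq_zero F 2) h2
  · exact h

/-- `q ≡ 3 (mod 4)`: split semisimple and unipotent elements have odd order. -/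
theorem odd_orderOf_split (h2 : (2 : F) ≠ 0) (h3 : Fintype.card F % 4 = 3) {g : SL(2, F)} {s : F}
    (hs : tr g ^ 2 - 4 = s ^ 2) : Odd (orderOf (proj g)) := by
  rcases eq_or_ne s 0 with rfl | hs0
  · exact odd_orderOf_unipotent h2 (by linear_combination hs)
  have ht4 : tr g ^ 2 ≠ 4 := fun e => pow_ne_zero 2 hs0 (by linear_combination e - hs)
  have hl : ((tr g + s) / 2) ^ 2 - tr g * ((tr g + s) / 2) + 1 = 0 := by
    field_simp
    linear_combination -hs
  have hp := pow_card_sub_one g (tr g) _ rfl hl ht4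
  refine odd_of_pow_eq_one (n := (Fintype.card F - 1) / 2) ?_ (by rw [Nat.odd_iff]; omega)
  set k := g ^ ((Fintype.card F - 1) / 2) with hk
  have hk2 : k * k = 1 := by
    rw [hk, ← pow_add, show (Fintype.card F - 1) / 2 + (Fintype.card F - 1) / 2 =
      Fintype.card F - 1 by omega, hp]
  rw [show proj g ^ ((Fintype.card F - 1) / 2) = proj k from rfl]
  by_contra hk1
  have h20 := tr_eq_zero (orderOf_eq_prime (p := 2) (by rw [pow_two, ← proj_mul, hk2]; rfl) hk1)
  have hcl := cayley k 0 h20
  rw [pow_two, ← Matrix.SpecialLinearGroup.coe_mul, hk2, zero_smul, sub_zero] at hcl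
  have := congrFun (congrFun hcl 0) 0
  simp at this
  exact h2 (by linear_combination this)

theorem odd_orderOf_char_two (h2 : (2 : F) = 0) (hev : Fintype.card F % 2 = 0) {g : SL(2, F)}
    (ht : tr g ≠ 0) : Odd (orderOf (proj g)) := by
  have ht4 : tr g ^ 2 ≠ 4 := fun e =>
    pow_ne_zero 2 ht (by rw [e]; linear_combination 2 * h2)
  by_cases hl : ∃ l : F, l ^ 2 - tr g * l + 1 = 0
  · obtain ⟨l, hl⟩ := hl
    refine odd_of_pow_eq_one (n := Fintype.card F - 1) ?_
      (by rw [Nat.odd_iff]; have := Fintype.card_pos (α := F); omega)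
    show proj (g ^ (Fintype.card F - 1)) = 1
    rw [pow_card_sub_one g (tr g) l rfl hl ht4]; rfl
  · simp only [not_exists] at hl
    refine odd_of_pow_eq_one (n := Fintype.card F + 1) ?_ (by rw [Nat.odd_iff]; omega)
    show proj (g ^ (Fintype.card F + 1)) = 1
    rw [pow_card_add_one g (tr g) rfl hl]; rfl

omit [Fintype F] in
theorem tr_mul (g h : SL(2, F)) :
    tr (g * h) = g 0 0 * h 0 0 + g 0 1 * h 1 0 + g 1 0 * h 0 1 + g 1 1 * h 1 1 := by
  simp [tr, Matrix.SpecialLinearGroup.coe_mul, Matrix.trace_fin_two, Matrix.mul_apply,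
    Fin.sum_univ_two]
  ring

omit [Fintype F] in
theorem tr_eq (g : SL(2, F)) : tr g = g 0 0 + g 1 1 := by simp [tr, Matrix.trace_fin_two]

/-- An element of characteristic two whose image is an involution is conjugate to `!![1, 1; 0, 1]`. -/
theorem isConj_transvection (h2 : (2 : F) = 0) {g : SL(2, F)} (ht : tr g = 0) (h1 : proj g ≠ 1)
    {U : SL(2, F)} (hU : (U : Matrix (Fin 2) (Fin 2) F) = !![1, 1; 0, 1]) :
    IsConj (proj g) (proj U) := by
  haveI : CharP F 2 := CharTwo.of_one_ne_zero_of_two_eq_zero one_ne_zero h2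
  have hd := det_eq_one g
  rw [tr_eq] at ht
  have h11 : g 1 1 = g 0 0 := by linear_combination ht - g 0 0 * h2
  have hne : g 0 1 ≠ 0 ∨ g 1 0 ≠ 0 := by
    by_contra h
    simp only [not_or, not_not] at h
    refine h1 ((proj_eq_one_iff _).2 (scalar_eq_one_or (c := g 0 0) ?_))
    ext i j; fin_cases i <;> fin_cases j <;> simp [h.1, h.2, h11]
  obtain ⟨P, hP⟩ : ∃ P : SL(2, F), g * P = P * U := by
    rcases hne with h | h
    · obtain ⟨s, hs⟩ : ∃ s : F, s * s = (g 0 1)⁻¹ :=
        ⟨_, ((FiniteField.isSquare_of_char_two (by rw [ringChar.eq F 2]) (g 0 1)⁻¹).choose_spec).symm⟩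
      have hs' : s * s * g 0 1 = 1 := by rw [hs, inv_mul_cancel₀ h]
      refine ⟨⟨!![s * g 0 1, 0; s * (g 1 1 - 1), s],
        by rw [Matrix.det_fin_two_of]; linear_combination hs'⟩, ?_⟩
      apply Subtype.ext
      show (g : Matrix (Fin 2) (Fin 2) F) * !![s * g 0 1, 0; s * (g 1 1 - 1), s] = !![s * g 0 1, 0; s * (g 1 1 - 1), s] * (U : Matrix (Fin 2) (Fin 2) F)
      rw [hU]
      ext i j; fin_cases i <;> fin_cases j <;> simp [Matrix.mul_apply] <;>
        first | grind | linear_combination (0 : F) * h2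
    · obtain ⟨s, hs⟩ : ∃ s : F, s * s = (g 1 0)⁻¹ :=
        ⟨_, ((FiniteField.isSquare_of_char_two (by rw [ringChar.eq F 2]) (g 1 0)⁻¹).choose_spec).symm⟩
      have hs' : s * s * g 1 0 = 1 := by rw [hs, inv_mul_cancel₀ h]
      refine ⟨⟨!![s * (g 0 0 - 1), s; s * g 1 0, 0],
        by rw [Matrix.det_fin_two_of]; linear_combination hs' - (s * s * g 1 0) * h2⟩, ?_⟩
      apply Subtype.ext
      show (g : Matrix (Fin 2) (Fin 2) F) * !![s * (g 0 0 - 1), s; s * g 1 0, 0] = !![s * (g 0 0 - 1), s; s * g 1 0, 0] * (U : Matrix (Fin 2) (Fin 2) F)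
      rw [hU]
      ext i j; fin_cases i <;> fin_cases j <;> simp [Matrix.mul_apply] <;>
        first | grind | linear_combination (0 : F) * h2
  exact isConj_proj (isConj_iff.2 ⟨P⁻¹, by rw [inv_inv, mul_assoc, hP, inv_mul_cancel_left]⟩)

theorem isConj_of_orderOf_two {x y : PSL(2, F)} (hx : orderOf x = 2) (hy : orderOf y = 2) :
    IsConj x y := by
  obtain ⟨g, rfl⟩ := proj_surjective x
  obtain ⟨h, rfl⟩ := proj_surjective y
  have hg := tr_eq_zero hx
  have hh := tr_eq_zero hy
  by_cases h2 : (2 : F) = 0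
  · have one : ∀ z : PSL(2, F), orderOf z = 2 → z ≠ 1 := fun z hz e => by
      rw [e, orderOf_one] at hz; omega
    let U : SL(2, F) := ⟨!![1, 1; 0, 1], by simp [Matrix.det_fin_two_of]⟩
    exact (isConj_transvection h2 hg (one _ hx) (U := U) rfl).trans
      (isConj_transvection h2 hh (one _ hy) (U := U) rfl).symm
  · refine isConj_proj_of_trace g h ?_ (Or.inl (hg.trans hh.symm))
    change tr h ^ 2 ≠ 4
    rw [hh]
    intro e
    exact h2 (eq_zero_of_pow_eq_zero (show (2 : F) ^ 2 = 0 by linear_combination -e))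

/-- Key counting step for `q ≡ 3 (mod 4)`. -/
theorem exists_circle_point (h2 : (2 : F) ≠ 0) (hns : ¬ IsSquare (-1 : F)) (r a₀ s₀ c : F) (hr : r ≠ 0)
    (h0 : a₀ ≠ 0 ∨ s₀ ≠ 0) :
    ∃ a u : F, a ^ 2 + u ^ 2 = r ^ 2 ∧ IsSquare ((c - (a₀ * a + s₀ * u)) ^ 2 - 1) := by
  classical
  have hne : ∀ x y : F, x ^ 2 + y ^ 2 = 0 → x = 0 ∧ y = 0 := by
    intro x y h
    by_cases hy : y = 0
    · subst hy
      exact ⟨eq_zero_of_pow_eq_zero (n := 2) (by linear_combination h), rfl⟩
    · refine absurd ⟨x / y, ?_⟩ hns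
      field_simp
      linear_combination -h
  have hD : a₀ ^ 2 + s₀ ^ 2 ≠ 0 := fun h => by
    obtain ⟨h1, h1'⟩ := hne _ _ h
    exact h0.elim (· h1) (· h1')
  have hm : ∀ m : F, 1 + m ^ 2 ≠ 0 := fun m h => hns ⟨m, by linear_combination -h⟩
  set P : Finset (F × F) := Finset.univ.filter fun v => v.1 ^ 2 + v.2 ^ 2 = r ^ 2 with hP
  have hcardP : Fintype.card F + 1 ≤ P.card := by
    let f : Option F → F × F := fun o => o.elim (-r, 0)
      fun m => (r * (1 - m ^ 2) / (1 + m ^ 2), 2 * r * m / (1 + m ^ 2))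
    have hf : Function.Injective f := by
      rintro (_ | m) (_ | n) e
      · rfl
      · exfalso
        have e1 := congrArg Prod.fst e
        simp only [f, Option.elim] at e1
        rw [eq_div_iff (hm n)] at e1
        exact h2 (mul_left_cancel₀ hr (by linear_combination -e1))
      · exfalso
        have e1 := congrArg Prod.fst e
        simp only [f, Option.elim] at e1
        rw [div_eq_iff (hm m)] at e1
        exact h2 (mul_left_cancel₀ hr (by linear_combination e1))
      · have e1 := congrArg Prod.fst e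
        have e2 := congrArg Prod.snd e
        simp only [f, Option.elim] at e1 e2
        rw [div_eq_div_iff (hm m) (hm n)] at e1 e2
        have hmn : m ^ 2 = n ^ 2 := by
          have : 2 * r * (m ^ 2 - n ^ 2) = 0 := by linear_combination -e1
          simpa [h2, hr, sub_eq_zero] using this
        have : 2 * r * (1 + m ^ 2) * (m - n) = 0 := by
          linear_combination e2 + 2 * r * m * hmn
        rcases mul_eq_zero.1 this with h | h
        · exact absurd h (mul_ne_zero (mul_ne_zero h2 hr) (hm m))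
        · rw [sub_eq_zero.1 h]
    refine le_trans (le_of_eq ?_) (Finset.card_le_card_of_injOn f (s := Finset.univ)
      (fun o _ => ?_) hf.injOn)
    · simp
    · simp only [hP, Finset.coe_filter, Finset.mem_univ, true_and, Set.mem_setOf_eq]
      rcases o with _ | m
      · simp [f]
      · have := hm m
        simp only [f, Option.elim]
        field_simp
        ring
  set L : F × F → F := fun v => c - (a₀ * v.1 + s₀ * v.2) with hL
  have hfib : P.card ≤ 2 * (P.image L).card := by
    refine Finset.card_le_mul_card_image P 2 fun d _ => ?_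
    by_contra hc
    obtain ⟨u, v, w, hu, hv, hw, huv, huw, hvw⟩ := Finset.two_lt_card_iff.1 (not_le.1 hc)
    simp only [hP, Finset.mem_filter, Finset.mem_univ, true_and, hL] at hu hv hw
    -- two different points of a fibre are symmetric in the axis
    have key : ∀ x y : F × F, x.1 ^ 2 + x.2 ^ 2 = r ^ 2 → y.1 ^ 2 + y.2 ^ 2 = r ^ 2 →
        c - (a₀ * x.1 + s₀ * x.2) = c - (a₀ * y.1 + s₀ * y.2) → x ≠ y →
        (x.1 + y.1) * s₀ - (x.2 + y.2) * a₀ = 0 := by
      intro x y hx hy hxy hne'
      have h1 : a₀ * (x.1 - y.1) + s₀ * (x.2 - y.2) = 0 := by linear_combination -hxy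
      have h3 : (x.1 + y.1) * (x.1 - y.1) + (x.2 + y.2) * (x.2 - y.2) = 0 := by
        linear_combination hx - hy
      by_cases e : x.1 - y.1 = 0
      · have e' : x.2 - y.2 ≠ 0 := fun e' => hne' (Prod.ext (sub_eq_zero.1 e) (sub_eq_zero.1 e'))
        exact (mul_eq_zero.1 (show ((x.1 + y.1) * s₀ - (x.2 + y.2) * a₀) * (x.2 - y.2) = 0 by
          linear_combination (x.1 + y.1) * h1 - a₀ * h3)).resolve_right e'
      · exact (mul_eq_zero.1 (show ((x.1 + y.1) * s₀ - (x.2 + y.2) * a₀) * (x.1 - y.1) = 0 by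
          linear_combination s₀ * h3 - (x.2 + y.2) * h1)).resolve_right e
    have k1 := key u v hu.1 hv.1 (hu.2.trans hv.2.symm) huv
    have k2 := key u w hu.1 hw.1 (hu.2.trans hw.2.symm) huw
    have l : a₀ * (v.1 - w.1) + s₀ * (v.2 - w.2) = 0 := by
      linear_combination hw.2 - hv.2
    have l' : (v.1 - w.1) * s₀ - (v.2 - w.2) * a₀ = 0 := by linear_combination k1 - k2
    apply hvw
    refine Prod.ext ?_ ?_
    · exact sub_eq_zero.1 ((mul_eq_zero.1 (show (a₀ ^ 2 + s₀ ^ 2) * (v.1 - w.1) = 0 by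
        linear_combination a₀ * l + s₀ * l')).resolve_left hD)
    · exact sub_eq_zero.1 ((mul_eq_zero.1 (show (a₀ ^ 2 + s₀ ^ 2) * (v.2 - w.2) = 0 by
        linear_combination s₀ * l - a₀ * l')).resolve_left hD)
  -- at most `(q - 1) / 2` values `d` with `d² - 1` a non-square
  have hbad : ∀ d : F, ¬ IsSquare (d ^ 2 - 1) → ∃ m : F, m ≠ 0 ∧ d * (1 + m ^ 2) = 1 - m ^ 2 := by
    intro d hd
    obtain ⟨s, hs⟩ : IsSquare (1 - d ^ 2) := by
      have h3 := (quadraticChar_neg_one_iff_not_isSquare (a := d ^ 2 - 1)).2 hd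
      have h4 := (quadraticChar_neg_one_iff_not_isSquare (a := (-1 : F))).2 hns
      have hz : (1 : F) - d ^ 2 ≠ 0 := fun e => hd ⟨0, by linear_combination -e⟩
      refine (quadraticChar_one_iff_isSquare hz).1 ?_
      rw [show (1 : F) - d ^ 2 = (-1) * (d ^ 2 - 1) by ring, map_mul, h3, h4]
      norm_num
    have hs0 : s ≠ 0 := fun e => hd ⟨0, by rw [e] at hs; linear_combination -hs⟩
    have hd1 : 1 + d ≠ 0 := fun e => hs0 (mul_self_eq_zero.1 (by linear_combination -hs + (1 - d) * e))
    refine ⟨s / (1 + d), div_ne_zero hs0 hd1, ?_⟩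
    field_simp
    linear_combination -(1 + d) * hs
  have hB : 2 * (Finset.univ.filter fun d : F => ¬ IsSquare (d ^ 2 - 1)).card + 1 ≤
      Fintype.card F := by
    choose m hm0 hmeq using hbad
    set B := Finset.univ.filter fun d : F => ¬ IsSquare (d ^ 2 - 1) with hB
    let g : {d // d ∈ B} × Bool → {x : F // x ≠ 0} := fun v =>
      ⟨if v.2 then m v.1.1 (Finset.mem_filter.1 v.1.2).2 else -m v.1.1 (Finset.mem_filter.1 v.1.2).2,
        by split <;> simp [hm0]⟩
    have hg : Function.Injective g := by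
      rintro ⟨⟨d, hd⟩, b⟩ ⟨⟨d', hd'⟩, b'⟩ e
      have e' := congrArg Subtype.val e
      simp only [g] at e'
      have hsq : (m d (Finset.mem_filter.1 hd).2) ^ 2 = (m d' (Finset.mem_filter.1 hd').2) ^ 2 := by
        cases b <;> cases b' <;> simp at e'
        all_goals first
          | linear_combination (m d (Finset.mem_filter.1 hd).2 + m d' (Finset.mem_filter.1 hd').2) * e'
          | linear_combination (m d (Finset.mem_filter.1 hd).2 - m d' (Finset.mem_filter.1 hd').2) * e'
          | linear_combination -(m d (Finset.mem_filter.1 hd).2 - m d' (Finset.mem_filter.1 hd').2) * e'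
      have : d = d' := by
        have h3 := hmeq d (Finset.mem_filter.1 hd).2
        have h4 := hmeq d' (Finset.mem_filter.1 hd').2
        rw [hsq] at h3
        exact mul_right_cancel₀ (hm _) (h3.trans h4.symm)
      subst this
      have hz := hm0 d (Finset.mem_filter.1 hd).2
      cases b <;> cases b' <;> simp at e' ⊢
      · exact h2 (mul_right_cancel₀ hz (by linear_combination -e'))
      · exact h2 (mul_right_cancel₀ hz (by linear_combination e'))
    have := Fintype.card_le_of_injective g hg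
    simp only [Fintype.card_prod, Fintype.card_coe, Fintype.card_bool,
      Fintype.card_subtype_compl, Fintype.card_unique] at this
    have := Fintype.card_pos (α := F)
    omega
  by_contra hno
  simp only [not_exists, not_and] at hno
  have hsub : P.image L ⊆ Finset.univ.filter fun d : F => ¬ IsSquare (d ^ 2 - 1) := by
    intro d hd
    obtain ⟨v, hv, rfl⟩ := Finset.mem_image.1 hd
    simp only [hP, Finset.mem_filter, Finset.mem_univ, true_and] at hv
    simp only [Finset.mem_filter, Finset.mem_univ, true_and, hL]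
    exact hno v.1 v.2 hv
  have := Finset.card_le_card hsub
  omega

theorem exists_sq_sub_one (hF : 4 ≤ Fintype.card F) (h2 : (2 : F) ≠ 0) :
    ∃ γ r : F, r ≠ 0 ∧ γ ^ 2 - 1 = r ^ 2 := by
  classical
  obtain ⟨m, hm⟩ : ∃ m : F, m ∉ ({0, 1, -1} : Finset F) := by
    refine (Finset.exists_mem_notMem_of_card_lt_card (t := Finset.univ) ?_).imp fun _ h => h.2
    have := Finset.card_le_three (a := (0 : F)) (b := 1) (c := -1)
    rw [Finset.card_univ]; omega
  simp only [Finset.mem_insert, Finset.mem_singleton, not_or] at hm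
  refine ⟨(m + m⁻¹) / 2, (m - m⁻¹) / 2, ?_, ?_⟩
  · refine div_ne_zero (fun h => ?_) h2
    have : (m - 1) * (m + 1) = 0 := by
      linear_combination m * h + mul_inv_cancel₀ hm.1
    rcases mul_eq_zero.1 this with e | e
    · exact hm.2.1 (sub_eq_zero.1 e)
    · exact hm.2.2 (eq_neg_of_add_eq_zero_left e)
  · have := hm.1
    field_simp
    ring

/-- Normal form of the step: `x` is replaced by any conveniently chosen involution. -/
theorem exists_common_of_form (hF : 4 ≤ Fintype.card F) :
    ∃ A : SL(2, F), orderOf (proj A) = 2 ∧ ∀ B : SL(2, F), orderOf (proj B) = 2 →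
      proj A ≠ proj B → ∃ C : SL(2, F), orderOf (proj C) = 2 ∧
        Odd (orderOf (proj (A * C))) ∧ Odd (orderOf (proj (C * B))) := by
  by_cases h2 : (2 : F) = 0
  · -- characteristic two
    haveI : CharP F 2 := CharTwo.of_one_ne_zero_of_two_eq_zero one_ne_zero h2
    have hev : Fintype.card F % 2 = 0 := by
      rw [← FiniteField.even_card_iff_char_two, ringChar.eq F 2]
    let A : SL(2, F) := ⟨!![1, 1; 0, 1], by simp [Matrix.det_fin_two_of]⟩
    have hone : ∀ g : SL(2, F), (g 0 1 ≠ 0 ∨ g 1 0 ≠ 0) → proj g ≠ 1 := by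
      intro g hg e
      rcases (proj_eq_one_iff _).1 e with rfl | rfl <;> simp at hg
    refine ⟨A, orderOf_eq_two (by rw [tr_eq]; simp [A]; linear_combination h2) (hone A (by simp [A])), ?_⟩
    intro B hB hne
    have hBt := tr_eq_zero hB
    rw [tr_eq] at hBt
    by_cases hb : B 0 1 = 0
    · by_cases hc : B 1 0 = 0
      · exfalso
        have hd := det_eq_one B
        rw [hb, hc] at hd
        have : proj B = 1 := (proj_eq_one_iff _).2 (scalar_eq_one_or (c := B 0 0) (by
          ext i j
          fin_cases i <;> fin_cases j <;> simp [hb, hc]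
          linear_combination hBt - B 0 0 * h2))
        rw [this, orderOf_one] at hB; omega
      let C : SL(2, F) := ⟨!![0, 1; 1, 0], by simp [Matrix.det_fin_two_of, CharTwo.neg_eq]⟩
      refine ⟨C, orderOf_eq_two (by rw [tr_eq]; simp [C]) (hone C (by simp [C])),
        odd_orderOf_char_two h2 hev ?_, odd_orderOf_char_two h2 hev ?_⟩
      · (rw [tr_mul]; simp [A, C])
      · rw [tr_mul]; simp [C, hb, hc]
    · let C : SL(2, F) := ⟨!![1, 0; 1, 1], by simp [Matrix.det_fin_two_of]⟩
      refine ⟨C, orderOf_eq_two (by rw [tr_eq]; simp [C]; linear_combination h2) (hone C (by simp [C])),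
        odd_orderOf_char_two h2 hev ?_, odd_orderOf_char_two h2 hev ?_⟩
      · rw [tr_mul]; simp [A, C]
        intro e
        exact one_ne_zero (show (1 : F) = 0 by linear_combination e - h2)
      · rw [tr_mul]; simp [C]
        intro e
        exact hb (by linear_combination e - hBt)
  by_cases hsq : IsSquare (-1 : F)
  · -- `q ≡ 1 (mod 4)`
    obtain ⟨i, hi⟩ := hsq
    let A : SL(2, F) := ⟨!![i, 0; 0, -i], by rw [Matrix.det_fin_two_of]; linear_combination hi⟩
    refine ⟨A, orderOf_eq_two_of_odd h2 (by rw [tr_eq]; simp [A]), ?_⟩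
    intro B hB hne
    have hBt := tr_eq_zero hB
    rw [tr_eq] at hBt
    have hd := det_eq_one B
    by_cases hc : B 1 0 = 0
    · by_cases hb : B 0 1 = 0
      · exfalso
        apply hne
        have ha : B 0 0 = i ∨ B 0 0 = -i := mul_self_eq_mul_self_iff.1 (by
          rw [hb, hc] at hd; linear_combination hi - hd + B 0 0 * hBt)
        refine proj_eq_proj_iff.2 (ha.imp (fun e => ?_) (fun e => ?_)) <;>
          apply Subtype.ext <;> ext k l <;> (try rw [show (-A).1 k l = -(A.1 k l) from rfl]) <;> fin_cases k <;> fin_cases l <;> simp [A, hb, hc, e] <;>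
          linear_combination hBt - e
      let C : SL(2, F) := ⟨!![-i, 0; (2 + 2 * B 0 0 * i) / B 0 1, i],
        by rw [Matrix.det_fin_two_of]; linear_combination hi⟩
      refine ⟨C, orderOf_eq_two_of_odd h2 (by rw [tr_eq]; simp [C]),
        odd_orderOf_unipotent h2 ?_, odd_orderOf_unipotent h2 ?_⟩
      · have : tr (A * C) = 2 := by
          (rw [tr_mul]; simp [A, C]); linear_combination 2 * hi
        rw [this]; norm_num
      · have : tr (C * B) = 2 := by
          (rw [tr_mul]; simp [C, hc])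
          field_simp
          linear_combination i * hBt
        rw [this]; norm_num
    · let C : SL(2, F) := ⟨!![-i, (2 + 2 * B 0 0 * i) / B 1 0; 0, i],
        by rw [Matrix.det_fin_two_of]; linear_combination hi⟩
      refine ⟨C, orderOf_eq_two_of_odd h2 (by rw [tr_eq]; simp [C]),
        odd_orderOf_unipotent h2 ?_, odd_orderOf_unipotent h2 ?_⟩
      · have : tr (A * C) = 2 := by
          (rw [tr_mul]; simp [A, C]); linear_combination 2 * hi
        rw [this]; norm_num
      · have : tr (C * B) = 2 := by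
          (rw [tr_mul]; simp [C])
          field_simp
          linear_combination i * hBt
        rw [this]; norm_num
  · -- `q ≡ 3 (mod 4)`
    have h3 : Fintype.card F % 4 = 3 := by
      by_contra h
      exact hsq (FiniteField.isSquare_neg_one_iff.2 h)
    let A : SL(2, F) := ⟨!![0, 1; -1, 0], by simp [Matrix.det_fin_two_of]⟩
    refine ⟨A, orderOf_eq_two_of_odd h2 (by rw [tr_eq]; simp [A]), ?_⟩
    intro B hB hne
    have hBt := tr_eq_zero hB
    rw [tr_eq] at hBt
    have hd := det_eq_one B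
    obtain ⟨γ, r, hr, hγ⟩ := exists_sq_sub_one hF h2
    have h0 : B 0 0 ≠ 0 ∨ (B 0 1 + B 1 0) / 2 ≠ 0 := by
      by_contra h
      simp only [not_or, not_not, div_eq_zero_iff, h2, or_false] at h
      apply hne
      have hb : B 0 1 = 1 ∨ B 0 1 = -1 := sq_eq_one_iff.1 (by
        linear_combination hd + B 0 1 * h.2 - B 1 1 * h.1)
      refine proj_eq_proj_iff.2 (hb.imp (fun e => ?_) (fun e => ?_)) <;>
        apply Subtype.ext <;> ext k l <;> (try rw [show (-A).1 k l = -(A.1 k l) from rfl]) <;> fin_cases k <;> fin_cases l <;> simp [A, h.1, e] <;>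
        first | linear_combination hBt - h.1 | linear_combination h.2 - e
    obtain ⟨a, u, hau, ρ, hρ⟩ := exists_circle_point h2 hsq r (B 0 0) ((B 0 1 + B 1 0) / 2)
      ((B 0 1 - B 1 0) / 2 * γ) hr h0
    let C : SL(2, F) := ⟨!![a, γ + u; u - γ, -a],
      by rw [Matrix.det_fin_two_of]; linear_combination -hau + hγ⟩
    refine ⟨C, orderOf_eq_two_of_odd h2 (by rw [tr_eq]; simp [C]),
      odd_orderOf_split h2 h3 (s := 2 * r) ?_, odd_orderOf_split h2 h3 (s := 2 * ρ) ?_⟩
    · have : tr (A * C) = -2 * γ := by (rw [tr_mul]; simp [A, C]); ring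
      rw [this]; linear_combination 4 * hγ
    · have : tr (C * B) =
          -2 * ((B 0 1 - B 1 0) / 2 * γ - (B 0 0 * a + (B 0 1 + B 1 0) / 2 * u)) := by
        (rw [tr_mul]; simp [C])
        field_simp
        linear_combination -a * hBt
      rw [this]; linear_combination 4 * hρ

theorem exists_common (hF : 4 ≤ Fintype.card F) {x y : PSL(2, F)} (hx : orderOf x = 2)
    (hy : orderOf y = 2) (hne : x ≠ y) :
    ∃ z : PSL(2, F), orderOf z = 2 ∧ Odd (orderOf (x * z)) ∧ Odd (orderOf (z * y)) := by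
  obtain ⟨A, hA, key⟩ := exists_common_of_form (F := F) hF
  obtain ⟨c, hc⟩ := isConj_iff.1 (isConj_of_orderOf_two hx hA)
  obtain ⟨B, hB⟩ := proj_surjective (c * y * c⁻¹)
  obtain ⟨C, hC, h1, h2⟩ := key B (by rw [hB]; simpa [← MulAut.conj_apply] using hy)
    (by rw [hB, ← hc]; simpa using hne)
  refine ⟨c⁻¹ * proj C * c, ?_, ?_, ?_⟩
  · simpa [← MulAut.conj_symm_apply] using hC
  · rw [proj_mul, ← hc] at h1
    rwa [show c * x * c⁻¹ * proj C = MulAut.conj c (x * (c⁻¹ * proj C * c)) by
      simp [mul_assoc], MulEquiv.orderOf_eq] at h1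
  · rw [proj_mul, hB] at h2
    rwa [show proj C * (c * y * c⁻¹) = MulAut.conj c (c⁻¹ * proj C * c * y) by
      simp [mul_assoc], MulEquiv.orderOf_eq] at h2

/-- Two involutions with product of order two. -/
theorem exists_commuting (hF : 4 ≤ Fintype.card F) :
    ∃ x y : PSL(2, F), orderOf x = 2 ∧ orderOf y = 2 ∧ orderOf (x * y) = 2 := by
  by_cases h2 : (2 : F) = 0
  · classical
    obtain ⟨w, hw⟩ : ∃ w : F, w ∉ ({0, -1, 1} : Finset F) := by
      refine (Finset.exists_mem_notMem_of_card_lt_card (t := Finset.univ) ?_).imp fun _ h => h.2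
      have := Finset.card_le_three (a := (0 : F)) (b := -1) (c := 1)
      rw [Finset.card_univ]; omega
    simp only [Finset.mem_insert, Finset.mem_singleton, not_or] at hw
    let U : F → SL(2, F) := fun y => ⟨!![1, y; 0, 1], by simp [Matrix.det_fin_two_of]⟩
    have hU : ∀ y : F, y ≠ 0 → orderOf (proj (U y)) = 2 := by
      intro y hy
      refine orderOf_eq_two (by rw [tr_eq]; simp [U]; linear_combination h2) fun e => ?_
      rcases (proj_eq_one_iff _).1 e with e | e <;>
        have := congrArg (fun g : SL(2, F) => g 0 1) e <;> simp [U] at this <;> exact hy this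
    have hmul : U 1 * U w = U (w + 1) := by
      apply Subtype.ext
      rw [Matrix.SpecialLinearGroup.coe_mul]
      show (!![1, 1; 0, 1] : Matrix (Fin 2) (Fin 2) F) * !![1, w; 0, 1] = !![1, w + 1; 0, 1]
      simp [Matrix.mul_fin_two]
    refine ⟨proj (U 1), proj (U w), hU 1 one_ne_zero, hU w hw.1, ?_⟩
    rw [← proj_mul, hmul]
    exact hU _ fun e => hw.2.1 (eq_neg_of_add_eq_zero_left e)
  · obtain ⟨a, b, hab⟩ := exists_norm_eq (0 : F) (-1) (by
      intro e; exact h2 (eq_zero_of_pow_eq_zero (show (2 : F) ^ 2 = 0 by linear_combination -e)))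
    let A : SL(2, F) := ⟨!![0, 1; -1, 0], by simp [Matrix.det_fin_two_of]⟩
    let B : SL(2, F) := ⟨!![a, b; b, -a], by rw [Matrix.det_fin_two_of]; linear_combination -hab⟩
    refine ⟨proj A, proj B, orderOf_eq_two_of_odd h2 (by rw [tr_eq]; simp [A]),
      orderOf_eq_two_of_odd h2 (by rw [tr_eq]; simp [B]), ?_⟩
    rw [← proj_mul]
    exact orderOf_eq_two_of_odd h2 (by rw [tr_mul]; simp [A, B])

end CfsgLib.DicksonPSL2.InvolutionGraph
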