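import Cfsg.Agent.DicksonPSL2.SubfieldFacts
import Cfsg.Agent.FieldEmb.Basic

/-!
# Maximal subfield subgroups of `PSL(2, q)`

A maximal one is `PSL(2, q₀)` with `q = q₀ ^ r` for a prime `r` (odd when `q` is odd), or
`PGL(2, q₀)` with `q = q₀ ^ 2` in odd characteristic.
-/

set_option autoImplicit false
set_option linter.unusedSectionVars false

namespace CfsgLib.DicksonPSL2

open Matrix CfsgLib.SL2Trace
open scoped MatrixGroups

variable {F : Type*} [Field F]

theorem psiMat_comp {K E : Type*} [Field K] [Field E] (ι₁ : K →+* E) (ι₂ : E →+* F) (w : Fˣ)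
    (M : Matrix (Fin 2) (Fin 2) K) : psiMat ι₂ w (psiMat ι₁ 1 M) = psiMat (ι₂.comp ι₁) w M := by
  rw [psiMat_apply, psiMat_apply ι₁, psiMat_apply]
  simp

theorem psiS_range_le {K E : Type*} [Field K] [Field E] (ι₁ : K →+* E) (ι₂ : E →+* F) (w : Fˣ) :
    (psiS (ι₂.comp ι₁) w).range ≤ (psiS ι₂ w).range := by
  rintro _ ⟨x, rfl⟩
  obtain ⟨g, rfl⟩ := proj_surjective x
  refine ⟨proj (psiSL ι₁ 1 g), ?_⟩
  rw [psiS_proj, psiS_proj]
  exact congrArg proj (Subtype.ext (psiMat_comp ι₁ ι₂ w g.1))

theorem psiP_range_le {K E : Type*} [Field K] [Field E] (ι₁ : K →+* E) (ι₂ : E →+* F) (w : Fˣ) :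
    (psiP (ι₂.comp ι₁) w).range ≤ (psiP ι₂ w).range := by
  rintro _ ⟨x, rfl⟩
  induction x using Matrix.ProjGenLinGroup.induction_on with
  | mk g =>
    refine ⟨ProjGenLinGroup.mk (psiGL ι₁ 1 g), ?_⟩
    rw [psiP_mk, psiP_mk]
    exact congrArg ProjGenLinGroup.mk (Units.ext (psiMat_comp ι₁ ι₂ w g.1))

variable [Fintype F]

/-- A tower of fields with prescribed middle degree. -/
theorem exists_intermediate {K : Type} [Field K] [Fintype K] (ι : K →+* F) {r l : ℕ}
    (hF : Fintype.card F = Fintype.card K ^ (l * r)) (hl : 1 ≤ l) (hr : 1 ≤ r) :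
    ∃ (E : Type) (_ : Field E) (_ : Fintype E) (ι₁ : K →+* E) (ι₂ : E →+* F),
      Fintype.card E = Fintype.card K ^ l ∧ ι = ι₂.comp ι₁ := by
  obtain ⟨p, hp⟩ := CharP.exists K
  obtain ⟨a, hpp, hK⟩ := FiniteField.card K p
  haveI : Fact p.Prime := ⟨hpp⟩
  have hne : (a : ℕ) * l ≠ 0 := Nat.mul_ne_zero a.ne_zero (by omega)
  letI : Fintype (GaloisField p (a * l)) := Fintype.ofFinite _
  have hE : Fintype.card (GaloisField p (a * l)) = Fintype.card K ^ l := by
    rw [← Nat.card_eq_fintype_card, GaloisField.card p _ hne, hK, ← pow_mul]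
  obtain ⟨ι₂⟩ := FieldEmb.exists_ringHom (F := GaloisField p (a * l)) (K := F) hr hE
    (by rw [hF, ← pow_mul])
  have hmem : ∀ x : K, ι x ∈ Set.range ι₂ := by
    intro x
    rw [FieldEmb.mem_range_iff ι₂ hE, ← map_pow]
    congr 1
    exact FiniteField.pow_card_pow l x
  choose f hf using hmem
  let ι₁ : K →+* GaloisField p (a * l) :=
    { toFun := f
      map_one' := ι₂.injective (by rw [hf, map_one, map_one])
      map_mul' := fun x y => ι₂.injective (by rw [map_mul, hf, hf, hf, map_mul])
      map_zero' := ι₂.injective (by rw [hf, map_zero, map_zero])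
      map_add' := fun x y => ι₂.injective (by rw [map_add, hf, hf, hf, map_add]) }
  exact ⟨_, inferInstance, inferInstance, ι₁, ι₂, hE, RingHom.ext fun x => (hf x).symm⟩

theorem card_range_psiS {K : Type*} [Field K] [Fintype K] (ι : K →+* F) (w : Fˣ) :
    Nat.gcd 2 (Fintype.card K - 1) * Nat.card (psiS ι w).range =
      Fintype.card K * (Fintype.card K - 1) * (Fintype.card K + 1) := by
  rw [← Nat.card_congr (MonoidHom.ofInjective (psiS_injective ι w)).toEquiv, card_PSL_formula]

theorem card_range_psiP {K : Type*} [Field K] [Fintype K] (ι : K →+* F) (w : Fˣ) :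
    Nat.card (psiP ι w).range =
      Fintype.card K * (Fintype.card K - 1) * (Fintype.card K + 1) := by
  rw [← Nat.card_congr (MonoidHom.ofInjective (psiP_injective ι w)).toEquiv, Linear.card_PGL,
    Linear.card_SL_two, mul_assoc, mul_comm (Fintype.card K - 1), ← Nat.sq_sub_sq, one_pow]

/-- In even degree, `PGL` of the smaller field lies in `PSL` of the larger. -/
theorem psiP_range_le_range_toPGL {K : Type*} [Field K] [Fintype K] (ι : K →+* F) (w : Fˣ) {m : ℕ}
    (hm : Fintype.card K ^ m = Fintype.card F) (hev : Even m) :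
    (psiP ι w).range ≤ (ProjectiveSpecialLinearGroup.toPGL (n := Fin 2) (R := F)).range := by
  rintro _ ⟨x, rfl⟩
  induction x using Matrix.ProjGenLinGroup.induction_on with
  | mk g =>
    rw [psiP_mk]
    refine mem_range_toPGL_of_isSquare ?_
    rw [coe_psiGL, det_psiMat]
    by_cases hF2 : ringChar F = 2
    · exact FiniteField.isSquare_of_char_two hF2 _
    have hd : g.1.det ≠ 0 := fun h => g.det_ne_zero h
    rw [FiniteField.isSquare_iff hF2 (by simpa using hd)]
    have hKF : ringChar K = ringChar F := by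
      have : CharP K (ringChar F) := RingHom.charP ι ι.injective _
      exact ringChar.eq K (ringChar F)
    have hodd := FiniteField.odd_card_of_char_ne_two (F := K) (hKF ▸ hF2)
    have hdvd : Fintype.card K - 1 ∣ Fintype.card F / 2 := by
      obtain ⟨t, rfl⟩ := hev
      obtain ⟨j, hj⟩ := Nat.sub_one_dvd_pow_sub_one (Fintype.card K) t
      have h1 : 1 ≤ Fintype.card K ^ t := Nat.one_le_pow _ _ Fintype.card_pos
      have ho : Fintype.card K ^ t % 2 = 1 := by rw [Nat.pow_mod, hodd]; simp
      obtain ⟨b, hb⟩ : ∃ b, Fintype.card K ^ t = 2 * b + 1 := ⟨Fintype.card K ^ t / 2, by omega⟩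
      rw [← hm, pow_add, hb]
      refine ⟨j * (b + 1), ?_⟩
      rw [← mul_assoc, ← hj, hb, show (2 * b + 1) * (2 * b + 1) / 2 = 2 * (b * (b + 1)) by ring_nf; omega,
        show 2 * b + 1 - 1 = 2 * b by omega, mul_assoc]
    obtain ⟨j, hj⟩ := hdvd
    rw [hj, pow_mul, ← map_pow, FiniteField.pow_card_sub_one_eq_one _ hd, map_one, one_pow]

/-- The shape of a maximal subfield subgroup. -/
theorem IsSubfieldGroup.of_isCoatom {p : ℕ} [Fact p.Prime] [CharP F p] {M : Subgroup PSL(2, F)}
    (hM : IsCoatom M) (h : IsSubfieldGroup p M) :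
    ∃ (K : Type) (_ : Field K) (_ : Fintype K),
      (p ≠ 2 ∧ Fintype.card F = Fintype.card K ^ 2 ∧ Nonempty (M ≃* PGL(2, K))) ∨
      (∃ r : ℕ, r.Prime ∧ (p = 2 ∨ Odd r) ∧ Fintype.card F = Fintype.card K ^ r ∧
        Nonempty (M ≃* PSL(2, K))) := by
  obtain ⟨K, iK, iK', ι, a, w, h⟩ := h
  obtain ⟨e⟩ := nonempty_equiv_conjS a M
  have hM' : IsCoatom (conjS a M) :=
    ((MulAut.conj a).mapSubgroup).isCoatom_iff M |>.2 hM
  letI : Algebra K F := ι.toAlgebra
  set m := Module.finrank K F with hmdef
  have hm : Fintype.card K ^ m = Fintype.card F :=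
    (Module.card_eq_pow_finrank (K := K) (V := F)).symm
  have hm1 : 1 ≤ m := Module.finrank_pos
  have hQ2 : 2 ≤ Fintype.card K := Fintype.one_lt_card
  have hmono : ∀ {i j : ℕ}, i < j → Fintype.card K ^ i < Fintype.card K ^ j :=
    fun h => Nat.pow_lt_pow_right (by omega) h
  have hsize : ∀ {A B : ℕ}, 2 ≤ A → A * A ≤ B →
      2 * (A * (A - 1) * (A + 1)) < B * (B - 1) * (B + 1) := by
    intro A B hA hB
    have h1 : A * (A - 1) ≤ B := le_trans (Nat.mul_le_mul_left A (by omega)) hB
    have h2 : A + 1 ≤ B + 1 := by nlinarith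
    have h3 : 4 ≤ B := le_trans (Nat.mul_le_mul hA hA) hB
    calc 2 * (A * (A - 1) * (A + 1)) ≤ 2 * (B * (B + 1)) :=
          Nat.mul_le_mul_left 2 (Nat.mul_le_mul h1 h2)
      _ < 3 * (B * (B + 1)) := Nat.mul_lt_mul_of_pos_right (by norm_num) (Nat.mul_pos (by omega) (by omega))
      _ ≤ (B - 1) * (B * (B + 1)) := Nat.mul_le_mul_right _ (by omega)
      _ = B * (B - 1) * (B + 1) := by ring
  have hgcd : ∀ Q : ℕ, Nat.gcd 2 (Q - 1) ≤ 2 ∧ 0 < Nat.gcd 2 (Q - 1) := fun Q =>
    ⟨Nat.le_of_dvd two_pos (Nat.gcd_dvd_left _ _), Nat.gcd_pos_of_pos_left _ two_pos⟩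
  have hFcard := card_PSL_formula F
  refine ⟨K, iK, iK', ?_⟩
  rcases h with h | ⟨hp2, h⟩
  · right
    have hne : m ≠ 1 := by
      intro h1
      apply hM'.1
      refine Subgroup.eq_top_of_card_eq _ (Nat.eq_of_mul_eq_mul_left (hgcd (Fintype.card F)).2 ?_)
      rw [hFcard, h]
      have h3 := card_range_psiS ι w
      rw [h1, pow_one] at hm
      rwa [hm] at h3
    have hprime : m.Prime := by
      by_contra hnp
      obtain ⟨l, hl, hl2, hlm⟩ := Nat.exists_dvd_of_not_prime2 (by omega) hnp
      obtain ⟨r, hr⟩ := hl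
      have hr2 : 2 ≤ r := by
        rcases show r = 0 ∨ r = 1 ∨ 2 ≤ r by omega with rfl | rfl | h
        · rw [mul_zero] at hr; omega
        · rw [mul_one] at hr; omega
        · exact h
      obtain ⟨E, iE, iE', ι₁, ι₂, hE, hι⟩ :=
        exists_intermediate ι (l := l) (r := r) (by rw [← hm, hr]) (by omega) (by omega)
      rcases hM'.le_iff.1 (le_trans (le_of_eq h) (hι ▸ psiS_range_le ι₁ ι₂ w)) with hB | hB
      · have h1 := card_range_psiS ι₂ w
        rw [hB, Subgroup.card_top, hE] at h1
        have h2 : Fintype.card K ^ l * Fintype.card K ^ l ≤ Fintype.card F := by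
          rw [← pow_add, ← hm, hr]
          exact Nat.pow_le_pow_right (by omega) (by nlinarith)
        have h3 := hsize (by
          calc 2 ≤ Fintype.card K ^ 1 := by rwa [pow_one]
            _ ≤ _ := Nat.pow_le_pow_right (by omega) (by omega)) h2
        rw [← hFcard, ← h1, ← mul_assoc] at h3
        have h4 := Nat.lt_of_mul_lt_mul_right h3
        have := (hgcd (Fintype.card F)).1
        have := (hgcd (Fintype.card K ^ l)).2
        omega
      · have h1 := card_range_psiS ι₂ w
        rw [hB, h, hE] at h1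
        have h0 := card_range_psiS ι w
        have h3 := hsize hQ2 (show Fintype.card K * Fintype.card K ≤ Fintype.card K ^ l by
          rw [← pow_two]; exact Nat.pow_le_pow_right (by omega) hl2)
        rw [← h1, ← h0, ← mul_assoc] at h3
        have h4 := Nat.lt_of_mul_lt_mul_right h3
        have := (hgcd (Fintype.card K ^ l)).1
        have := (hgcd (Fintype.card K)).2
        omega
    refine ⟨m, hprime, ?_, hm.symm, ⟨e.trans ((MulEquiv.subgroupCongr h).trans
      (MonoidHom.ofInjective (psiS_injective ι w)).symm)⟩⟩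
    by_cases hp2 : p = 2
    · exact Or.inl hp2
    right
    rcases hprime.eq_two_or_odd' with hm2 | ho
    · exfalso
      have hle := psiP_range_le_range_toPGL ι w hm (hm2 ▸ even_two)
      set B := (psiP ι w).range.comap (ProjectiveSpecialLinearGroup.toPGL (n := Fin 2) (R := F)) with hB
      have hAB : conjS a M ≤ B := by
        rw [h]
        rintro _ ⟨x, rfl⟩
        exact ⟨ProjectiveSpecialLinearGroup.toPGL x, by
          rw [← MonoidHom.comp_apply, ← toPGL_comp_psiS]; rfl⟩
      have hBc : Nat.card B = Fintype.card K * (Fintype.card K - 1) * (Fintype.card K + 1) := by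
        rw [← card_range_psiP ι w, ← Subgroup.map_comap_eq_self hle]
        exact Nat.card_congr (Subgroup.equivMapOfInjective _ _
          ProjectiveSpecialLinearGroup.toPGL_injective).toEquiv
      have hKodd : Fintype.card K % 2 = 1 := by
        have : CharP K p := RingHom.charP ι ι.injective p
        exact FiniteField.odd_card_of_char_ne_two (by rw [ringChar.eq K p]; exact hp2)
      have hg : Nat.gcd 2 (Fintype.card K - 1) = 2 := Nat.gcd_eq_left (by omega)
      have hpos : 0 < Fintype.card K * (Fintype.card K - 1) * (Fintype.card K + 1) :=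
        Nat.mul_pos (Nat.mul_pos (by omega) (by omega)) (by omega)
      rcases hM'.le_iff.1 hAB with hB' | hB'
      · rw [hB', Subgroup.card_top] at hBc
        have h3 := hsize (A := Fintype.card K) hQ2 (le_of_eq (show Fintype.card K * Fintype.card K = Fintype.card F by
          rw [← hm, hm2, pow_two]))
        rw [← hFcard, ← hBc] at h3
        have h4 := Nat.lt_of_mul_lt_mul_right h3
        have := (hgcd (Fintype.card F)).1
        omega
      · have h0 := card_range_psiS ι w
        rw [← h, ← hB', hBc, hg] at h0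
        omega
    · exact ho
  · left
    have hev : Even m := by
      by_contra hev
      rw [Nat.not_even_iff_odd] at hev
      have hKp : CharP K p := RingHom.charP ι ι.injective p
      have h2 : ringChar K ≠ 2 := by rw [ringChar.eq K p]; exact hp2
      obtain ⟨z, hz⟩ := FiniteField.exists_nonsquare (F := K) h2
      have hz0 : z ≠ 0 := fun h0 => hz (h0 ▸ IsSquare.zero)
      have hd : Matrix.det !![z, 0; 0, 1] ≠ 0 := by simp [Matrix.det_fin_two, hz0]
      obtain ⟨x, -, hx⟩ : psiP ι w (ProjGenLinGroup.mk (GeneralLinearGroup.mkOfDetNeZero _ hd)) ∈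
          (conjS a M).map ProjectiveSpecialLinearGroup.toPGL := by
        rw [h]; exact ⟨_, rfl⟩
      rw [psiP_mk] at hx
      have hsq := isSquare_det_of_mem_range ⟨x, hx⟩
      rw [coe_psiGL, det_psiMat] at hsq
      refine not_isSquare_map ι hm hev h2 hz ?_
      simpa [Matrix.det_fin_two] using hsq
    obtain ⟨s, hs⟩ := hev
    have hs1 : s = 1 := by
      by_contra hne
      obtain ⟨E, iE, iE', ι₁, ι₂, hE, hι⟩ :=
        exists_intermediate ι (l := s) (r := 2) (by rw [← hm, hs]; ring_nf) (by omega) (by omega)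
      have hEF : Fintype.card E ^ 2 = Fintype.card F := by rw [hE, ← hm, hs, ← pow_mul]; ring_nf
      set B := (psiP ι₂ w).range.comap (ProjectiveSpecialLinearGroup.toPGL (n := Fin 2) (R := F)) with hB
      have hle := psiP_range_le_range_toPGL ι₂ w hEF even_two
      have hBc : Nat.card B = Fintype.card E * (Fintype.card E - 1) * (Fintype.card E + 1) := by
        rw [← card_range_psiP ι₂ w, ← Subgroup.map_comap_eq_self hle]
        exact Nat.card_congr (Subgroup.equivMapOfInjective _ _
          ProjectiveSpecialLinearGroup.toPGL_injective).toEquiv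
      have hAB : conjS a M ≤ B := by
        rw [← Subgroup.map_le_iff_le_comap, h, hι]
        exact psiP_range_le ι₁ ι₂ w
      have hMc : Nat.card (conjS a M) = Fintype.card K * (Fintype.card K - 1) * (Fintype.card K + 1) := by
        rw [← card_range_psiP ι w, ← h]
        exact Nat.card_congr (Subgroup.equivMapOfInjective _ _
          ProjectiveSpecialLinearGroup.toPGL_injective).toEquiv
      rcases hM'.le_iff.1 hAB with hB' | hB'
      · rw [hB', Subgroup.card_top] at hBc
        have h3 := hsize (A := Fintype.card E) (B := Fintype.card F) Fintype.one_lt_card (le_of_eq (by rw [← hEF, pow_two]))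
        rw [← hFcard, ← hBc] at h3
        have h4 := Nat.lt_of_mul_lt_mul_right h3
        have := (hgcd (Fintype.card F)).1
        omega
      · rw [hB', hMc] at hBc
        have h3 := hsize hQ2 (show Fintype.card K * Fintype.card K ≤ Fintype.card E by
          rw [hE, ← pow_two]; exact Nat.pow_le_pow_right (by omega) (by omega))
        omega
    exact ⟨hp2, by rw [← hm, hs, hs1], ⟨e.trans (((conjS a M).equivMapOfInjective _
      ProjectiveSpecialLinearGroup.toPGL_injective).trans ((MulEquiv.subgroupCongr h).trans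
      (MonoidHom.ofInjective (psiP_injective ι w)).symm))⟩⟩

end CfsgLib.DicksonPSL2
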