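import Cfsg.Agent.DicksonPSL2.MaximalExceptional
import Cfsg.Agent.DicksonPSL2.SubfieldMax
import Cfsg.Agent.Forms.KleinClasses

/-!
# `PSL(2, q)` inside `PGL(2, q)`

The automorphisms induced by `PGL(2, q)`, invariance of tori and translations under automorphisms,
and the embedding of `PGL(2, q)` in `PSL(2, q²)`.
-/

set_option autoImplicit false
set_option linter.unusedSectionVars false

namespace CfsgLib.DicksonPSL2

open Matrix CfsgLib.SL2Trace
open scoped MatrixGroups

variable {F : Type*} [Field F] [Fintype F]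

/-- The copy of `PSL(2, F)` in `PGL(2, F)`. -/
noncomputable def toG : PSL(2, F) →* PGL(2, F) := ProjectiveSpecialLinearGroup.toPGL

theorem toG_injective : Function.Injective (toG (F := F)) :=
  ProjectiveSpecialLinearGroup.toPGL_injective

theorem finite_PGL : Finite PGL(2, F) := Finite.of_surjective _ ProjGenLinGroup.mk_surjective

theorem range_mk_toGL :
    ((ProjGenLinGroup.mk (n := Fin 2) (R := F)).comp SpecialLinearGroup.toGL).range =
      (toG (F := F)).range := by
  ext x
  constructor
  · rintro ⟨g, rfl⟩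
    exact ⟨proj g, ProjectiveSpecialLinearGroup.toPGL_mk g⟩
  · rintro ⟨y, rfl⟩
    obtain ⟨g, rfl⟩ := proj_surjective y
    exact ⟨g, (ProjectiveSpecialLinearGroup.toPGL_mk g).symm⟩

theorem card_PGL_two :
    Nat.card PGL(2, F) = Fintype.card F * (Fintype.card F - 1) * (Fintype.card F + 1) := by
  rw [Linear.card_PGL, Linear.card_SL_two, mul_assoc]
  congr 1
  rw [mul_comm, ← Nat.sq_sub_sq, one_pow]

theorem card_range_toG : Nat.card (toG (F := F)).range = Nat.card PSL(2, F) :=
  (Nat.card_congr (MonoidHom.ofInjective toG_injective).toEquiv).symm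

theorem index_range_toG : (toG (F := F)).range.index = Nat.gcd 2 (Fintype.card F - 1) := by
  have := finite_PGL (F := F)
  have h := (toG (F := F)).range.card_mul_index
  rw [card_range_toG, card_PGL_two, ← card_PSL_formula F, mul_comm] at h
  exact Nat.eq_of_mul_eq_mul_right Nat.card_pos h

theorem index_range_toG_odd (hodd : Odd (Fintype.card F)) : (toG (F := F)).range.index = 2 := by
  rw [index_range_toG]
  rcases gcd_two_cases F with ⟨-, h, -⟩ | ⟨h, -⟩
  · exact h
  · exact absurd h (Nat.not_even_iff_odd.2 hodd)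

theorem normal_range_toG (hodd : Odd (Fintype.card F)) : (toG (F := F)).range.Normal :=
  Subgroup.normal_of_index_eq_two (index_range_toG_odd hodd)

/-- The automorphism induced by an element of `PGL(2, F)`. -/
theorem exists_aut (hodd : Odd (Fintype.card F)) (g : PGL(2, F)) :
    ∃ σ : MulAut PSL(2, F), ∀ x, toG (σ x) = g * toG x * g⁻¹ := by
  have := normal_range_toG hodd
  let e : PSL(2, F) ≃* (toG (F := F)).range := MonoidHom.ofInjective toG_injective
  refine ⟨e.trans ((MulAut.conjNormal g).trans e.symm), fun x => ?_⟩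
  have h : ∀ y, toG (e.symm y) = (y : PGL(2, F)) := fun y => by
    rw [show toG (e.symm y) = ((e (e.symm y) : (toG (F := F)).range) : PGL(2, F)) from rfl,
      e.apply_symm_apply]
  show toG (e.symm (MulAut.conjNormal g (e x))) = _
  rw [h, MulAut.conjNormal_apply]
  rfl

/-- `g` normalises the image of `W` as soon as its automorphism fixes `W`. -/
theorem mem_normalizer_of_aut (W : Subgroup PSL(2, F)) {g : PGL(2, F)} {σ : MulAut PSL(2, F)}
    (hσ : ∀ x, toG (σ x) = g * toG x * g⁻¹) (h : W.map σ.toMonoidHom = W) :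
    g ∈ Subgroup.normalizer (W.map toG : Set PGL(2, F)) := by
  have := finite_PGL (F := F)
  rw [← conjS_eq_self_iff, conjS, Subgroup.map_map]
  conv_rhs => rw [← h, Subgroup.map_map]
  congr 1
  exact MonoidHom.ext fun x => (hσ x).symm

theorem mem_normalizer_map_toG {W : Subgroup PSL(2, F)} {x : PSL(2, F)} :
    toG x ∈ Subgroup.normalizer (W.map toG : Set PGL(2, F)) ↔
      x ∈ Subgroup.normalizer (W : Set PSL(2, F)) := by
  have := finite_PGL (F := F)
  rw [← conjS_eq_self_iff, ← conjS_eq_self_iff]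
  have e : conjS (toG x) (W.map toG) = (conjS x W).map toG := by
    rw [conjS, conjS, Subgroup.map_map, Subgroup.map_map]
    congr 1
    exact MonoidHom.ext fun y => by simp
  rw [e]
  exact (Subgroup.map_injective toG_injective).eq_iff

variable (p : ℕ) [Fact p.Prime] [CharP F p]

theorem isTor_map_iff {E : Type*} [Field E] [Fintype E] [CharP E p] (f : PSL(2, F) →* PSL(2, E))
    (hf : Function.Injective f) (x : PSL(2, F)) : IsTor (f x) ↔ IsTor x := by
  rw [isTor_iff_pow p, isTor_iff_pow p, ← map_pow, ne_eq, ← map_one f, hf.eq_iff]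

include p in
/-- Automorphisms permute the tori. -/
theorem torus_map (σ : MulAut PSL(2, F)) {x : PSL(2, F)} (hx : IsTor x) :
    (torus x).map σ.toMonoidHom = torus (σ x) := by
  have key : ∀ (τ : MulAut PSL(2, F)) (y : PSL(2, F)), IsTor y →
      (torus y).map τ.toMonoidHom ≤ torus (τ y) := by
    intro τ y hy
    obtain ⟨⟨t, ht⟩, hgen⟩ := (isCyclic_torus hy).exists_generator
    rintro _ ⟨z, hz, rfl⟩
    have ht1 : t ≠ 1 := by
      rintro rfl
      obtain ⟨k, hk⟩ := hgen ⟨y, self_mem_torus y⟩
      exact ne_one_of_isTor hy (by simpa using (congrArg Subtype.val hk).symm)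
    have htor : IsTor (τ t) :=
      (isTor_map_iff p τ.toMonoidHom τ.injective t).2 (isTor_of_mem_torus hy ht ht1).1
    have hmem : ∀ w ∈ torus y, τ w ∈ torus (τ t) := by
      intro w hw
      obtain ⟨k, hk⟩ := hgen ⟨w, hw⟩
      have e : t ^ k = w := congrArg Subtype.val hk
      rw [← e, map_zpow]
      exact zpow_mem (self_mem_torus _) k
    have := (isTor_of_mem_torus htor (hmem y (self_mem_torus y))
      (fun e => ne_one_of_isTor hy (τ.injective (e.trans (map_one τ).symm)))).2
    rw [this]
    exact hmem z hz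
  refine le_antisymm (key σ x hx) ?_
  intro z hz
  have hσx : IsTor (σ x) := (isTor_map_iff p σ.toMonoidHom σ.injective x).2 hx
  have := key σ.symm (σ x) hσx ⟨z, hz, rfl⟩
  rw [σ.symm_apply_apply] at this
  exact ⟨σ.symm z, this, σ.apply_symm_apply z⟩

theorem normalizer_upGroup :
    Subgroup.normalizer (upGroup (F := F) : Set PSL(2, F)) = BP := by
  refine le_antisymm (fun n hn => ?_) (fun b hb => ?_)
  · obtain ⟨v, hv⟩ := (Subgroup.mem_normalizer_iff.1 hn (u 1)).1 ⟨1, rfl⟩
    exact mem_BP_of_conj_u one_ne_zero hv.symm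
  · rw [← conjS_eq_self_iff]
    refine Subgroup.eq_of_le_of_card_ge ?_ (card_conjS b _).ge
    intro y hy
    obtain ⟨v, hv⟩ := mem_conjS.1 hy
    refine ⟨chi b * v, ?_⟩
    rw [← conj_u hb, hv]
    simp [mul_assoc]

theorem mem_upGroup_of_not_isTor {x : PSL(2, F)} (hx : x ∈ BP) (h : ¬ IsTor x) : x ∈ upGroup := by
  obtain ⟨w, hw⟩ := eq_u_of_chi_eq_one hx (not_not.1 (mt (isTor_of_chi_ne_one hx) h))
  exact ⟨w, hw.symm⟩

theorem normalizer_conjS {X : Type*} [Group X] [Finite X] (g : X) (C : Subgroup X) :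
    Subgroup.normalizer (conjS g C : Set X) = conjS g (Subgroup.normalizer (C : Set X)) := by
  ext x
  rw [← conjS_eq_self_iff, mem_conjS, ← conjS_eq_self_iff, ← conjS_mul]
  constructor
  · intro h
    rw [mul_assoc, conjS_mul, h, conjS_inv_conjS]
  · intro h
    have h' := congrArg (conjS g) h
    rwa [← conjS_mul, ← mul_assoc, mul_inv_cancel_left] at h'

theorem isKleinFour_four (P : QuatPair F) : IsKleinFour P.four where
  card_four := P.card_four
  exponent_two := by
    have hle : Monoid.exponent P.four ∣ 2 := by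
      rw [Monoid.exponent_dvd_iff_forall_pow_eq_one]
      rintro ⟨z, hz⟩
      apply Subtype.ext
      show z ^ 2 = 1
      rw [pow_two]
      rcases P.mem_four.1 hz with rfl | rfl | rfl | rfl
      · exact one_mul 1
      · exact QuatPair.proj_sq _ P.ii
      · exact QuatPair.proj_sq _ P.jj
      · exact QuatPair.proj_sq _ P.kk
    refine ((Nat.dvd_prime Nat.prime_two).1 hle).resolve_left fun h => ?_
    have := Monoid.exp_eq_one_iff.1 h
    have h4 := P.card_four
    rw [Nat.card_of_subsingleton (1 : P.four)] at h4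
    omega

include p in
/-- `PGL(2, q)` sits in `PSL(2, q²)`. -/
theorem exists_embedding (hodd : Odd (Fintype.card F)) :
    ∃ (E : Type) (_ : Field E) (_ : Fintype E) (_ : CharP E p) (f : PSL(2, F) →* PSL(2, E))
      (Φ : PGL(2, F) →* PSL(2, E)), Function.Injective Φ ∧ Function.Injective f ∧
        (∀ x, Φ (toG x) = f x) ∧ Odd (Fintype.card E) ∧
        (Fintype.card E % 8 = 1 ∨ Fintype.card E % 8 = 7) := by
  obtain ⟨n, hp, hn⟩ := FiniteField.card F p
  have hne : (n : ℕ) * 2 ≠ 0 := by have := n.pos; omega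
  letI : Fintype (GaloisField p ((n : ℕ) * 2)) := Fintype.ofFinite _
  have hE : Fintype.card (GaloisField p ((n : ℕ) * 2)) = Fintype.card F ^ 2 := by
    rw [← Nat.card_eq_fintype_card, GaloisField.card p _ hne, hn, ← pow_mul]
  obtain ⟨ι⟩ := FieldEmb.exists_ringHom (F := F) (K := GaloisField p ((n : ℕ) * 2)) one_le_two rfl hE
  have hle : ∀ g : PGL(2, F), psiP ι 1 g ∈
      (ProjectiveSpecialLinearGroup.toPGL (n := Fin 2) (R := GaloisField p ((n : ℕ) * 2))).range :=
    fun g => psiP_range_le_range_toPGL ι 1 hE.symm even_two ⟨g, rfl⟩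
  let e := MonoidHom.ofInjective (ProjectiveSpecialLinearGroup.toPGL_injective
    (n := Fin 2) (R := GaloisField p ((n : ℕ) * 2)))
  refine ⟨GaloisField p ((n : ℕ) * 2), inferInstance, inferInstance, inferInstance, psiS ι 1,
    e.symm.toMonoidHom.comp ((psiP ι 1).codRestrict _ hle), ?_, psiS_injective ι 1, fun x => ?_,
    hE ▸ hodd.pow, ?_⟩
  · intro a b h
    exact psiP_injective ι 1 (congrArg Subtype.val (e.symm.injective h))
  · apply e.injective
    show e (e.symm ⟨psiP ι 1 (toG x), hle _⟩) = _
    rw [e.apply_symm_apply]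
    apply Subtype.ext
    show psiP ι 1 (toG x) = ProjectiveSpecialLinearGroup.toPGL (psiS ι 1 x)
    exact (DFunLike.congr_fun (toPGL_comp_psiS ι 1) x).symm
  · rw [hE, Nat.pow_mod]
    have h2 := Nat.odd_iff.1 hodd
    rcases show Fintype.card F % 8 = 1 ∨ Fintype.card F % 8 = 3 ∨ Fintype.card F % 8 = 5 ∨
      Fintype.card F % 8 = 7 by omega with h | h | h | h <;> rw [h] <;> norm_num

end CfsgLib.DicksonPSL2
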