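import Cfsg.Agent.DicksonPSL2.Orders

/-!
# Numerical facts on the subfield subgroups

`PGL(2, K)` only occurs in `PSL(2, F)` when every element of `K` is a square in `F`, that is when
`F` has even degree over `K`.
-/

set_option autoImplicit false
set_option linter.unusedSectionVars false

namespace CfsgLib.DicksonPSL2

open Matrix CfsgLib.SL2Trace
open scoped MatrixGroups

variable {F : Type*} [Field F]

/-- An element of `GL` coming from `PSL` up to a scalar has square determinant. -/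
theorem isSquare_det_of_mem_range {g : GL (Fin 2) F}
    (h : ProjGenLinGroup.mk g ∈ (ProjectiveSpecialLinearGroup.toPGL (n := Fin 2) (R := F)).range) :
    IsSquare g.1.det := by
  obtain ⟨x, hx⟩ := h
  obtain ⟨A, rfl⟩ := proj_surjective x
  rw [ProjectiveSpecialLinearGroup.toPGL_mk, ProjGenLinGroup.mk_eq_mk_iff] at hx
  obtain ⟨c, hc⟩ := hx
  refine ⟨(c : F), ?_⟩
  rw [← hc]
  have hA : (SpecialLinearGroup.toGL A).1.det = 1 := A.2
  rw [Units.val_mul, Matrix.det_mul, hA, GeneralLinearGroup.coe_scalar, one_mul]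
  simp [pow_two]

theorem mem_range_toPGL_of_isSquare {g : GL (Fin 2) F} (h : IsSquare g.1.det) :
    ProjGenLinGroup.mk g ∈ (ProjectiveSpecialLinearGroup.toPGL (n := Fin 2) (R := F)).range := by
  obtain ⟨c, hc⟩ := h
  have hd : g.1.det ≠ 0 := fun h0 => g.det_ne_zero h0
  have hc0 : c ≠ 0 := fun h0 => hd (by rw [hc, h0, zero_mul])
  obtain ⟨A, hA⟩ : ∃ A : SL(2, F), A.1 = c⁻¹ • g.1 :=
    ⟨⟨c⁻¹ • g.1, by rw [Matrix.det_smul, hc, Fintype.card_fin]; field_simp⟩, rfl⟩
  refine ⟨proj A, ?_⟩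
  rw [ProjectiveSpecialLinearGroup.toPGL_mk, ProjGenLinGroup.mk_eq_mk_iff]
  refine ⟨Units.mk0 c hc0, Units.ext ?_⟩
  show A.1 * Matrix.scalar (Fin 2) c = g.1
  rw [hA]
  ext i j
  simp
  field_simp

variable [Fintype F]

/-- In odd degree a non-square stays a non-square. -/
theorem not_isSquare_map {K : Type*} [Field K] [Fintype K] (ι : K →+* F) {m : ℕ}
    (hm : Fintype.card K ^ m = Fintype.card F) (hodd : Odd m) (h2 : ringChar K ≠ 2) {z : K}
    (hz : ¬ IsSquare z) : ¬ IsSquare (ι z) := by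
  have hz0 : z ≠ 0 := fun h => hz (h ▸ IsSquare.zero)
  have hchar : ringChar F = ringChar K := by
    have : CharP F (ringChar K) := charP_of_injective_ringHom ι.injective _
    exact ringChar.eq F (ringChar K)
  rw [FiniteField.isSquare_iff h2 hz0] at hz
  have hzm : z ^ (Fintype.card K / 2) = -1 :=
    (FiniteField.pow_dichotomy h2 hz0).resolve_left hz
  rw [FiniteField.isSquare_iff (hchar ▸ h2) (by simpa using hz0)]
  have hKodd : Fintype.card K % 2 = 1 := FiniteField.odd_card_of_char_ne_two h2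
  obtain ⟨r, hr⟩ := hodd
  obtain ⟨t, ht⟩ : ∃ t, Fintype.card K = 2 * t + 1 := ⟨Fintype.card K / 2, by omega⟩
  obtain ⟨s, hs⟩ : ∃ s, Fintype.card F / 2 = Fintype.card K / 2 * (2 * s + 1) := by
    have key : ∀ r : ℕ, ∃ s, (2 * t + 1) ^ (2 * r + 1) = 2 * (t * (2 * s + 1)) + 1 := by
      intro r
      induction r with
      | zero => exact ⟨0, by simp⟩
      | succ r ih =>
        obtain ⟨s, hs⟩ := ih
        refine ⟨(2 * t + 1) ^ 2 * s + 2 * t ^ 2 + 3 * t + 1, ?_⟩
        rw [show 2 * (r + 1) + 1 = 2 + (2 * r + 1) by ring, pow_add, hs]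
        ring
    obtain ⟨s, hs⟩ := key r
    refine ⟨s, ?_⟩
    rw [← hm, hr, ht, hs, show (2 * t + 1) / 2 = t by omega]
    omega
  rw [← map_pow, hs, pow_mul, hzm, Odd.neg_one_pow ⟨s, rfl⟩, map_neg, map_one]
  exact Ring.neg_one_ne_one_of_char_ne_two (hchar ▸ h2)

/-- The shape of a subfield subgroup. -/
theorem IsSubfieldGroup.card_cases {p : ℕ} [Fact p.Prime] [CharP F p] {H : Subgroup PSL(2, F)}
    (h : IsSubfieldGroup p H) :
    ∃ Q m : ℕ, 2 ≤ Q ∧ Q ^ m = Fintype.card F ∧ 1 ≤ m ∧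
      (Nat.gcd 2 (Q - 1) * Nat.card H = Q * (Q - 1) * (Q + 1) ∨
        (Odd Q ∧ Even m ∧ Nat.card H = Q * (Q - 1) * (Q + 1))) := by
  obtain ⟨K, iK, iK', ι, a, w, h⟩ := h
  letI : Algebra K F := ι.toAlgebra
  have hm : Fintype.card K ^ Module.finrank K F = Fintype.card F :=
    (Module.card_eq_pow_finrank (K := K) (V := F)).symm
  refine ⟨Fintype.card K, Module.finrank K F, Fintype.one_lt_card, hm, Module.finrank_pos, ?_⟩
  rcases h with h | ⟨hp2, h⟩
  · left
    rw [← card_conjS a H, h,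
      ← Nat.card_congr (MonoidHom.ofInjective (psiS_injective ι w)).toEquiv, card_PSL_formula]
  · right
    have hKp : CharP K p := RingHom.charP ι ι.injective p
    have h2 : ringChar K ≠ 2 := by rw [ringChar.eq K p]; exact hp2
    have hQ := FiniteField.odd_card_of_char_ne_two h2
    refine ⟨Nat.odd_iff.2 hQ, ?_, ?_⟩
    · by_contra hev
      rw [Nat.not_even_iff_odd] at hev
      obtain ⟨z, hz⟩ := FiniteField.exists_nonsquare (F := K) h2
      have hz0 : z ≠ 0 := fun h0 => hz (h0 ▸ IsSquare.zero)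
      have hd : Matrix.det !![z, 0; 0, 1] ≠ 0 := by simp [Matrix.det_fin_two, hz0]
      have hmem : psiP ι w (ProjGenLinGroup.mk (GeneralLinearGroup.mkOfDetNeZero _ hd)) ∈
          (conjS a H).map ProjectiveSpecialLinearGroup.toPGL := by
        rw [h]; exact ⟨_, rfl⟩
      obtain ⟨x, -, hx⟩ := hmem
      rw [psiP_mk] at hx
      have hsq := isSquare_det_of_mem_range ⟨x, hx⟩
      rw [coe_psiGL, det_psiMat] at hsq
      refine not_isSquare_map ι hm hev h2 hz ?_
      simpa [Matrix.det_fin_two] using hsq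
    · rw [← card_conjS a H, Nat.card_congr (Subgroup.equivMapOfInjective _ _
        ProjectiveSpecialLinearGroup.toPGL_injective).toEquiv, h,
        ← Nat.card_congr (MonoidHom.ofInjective (psiP_injective ι w)).toEquiv, Linear.card_PGL,
        Linear.card_SL_two, mul_assoc]
      congr 1
      rw [mul_comm, ← Nat.sq_sub_sq, one_pow]

/-- Either the whole group or small: `d |H| ≤ d √q (q - 1)` in squared form. -/
theorem IsSubfieldGroup.eq_top_or_small {p : ℕ} [Fact p.Prime] [CharP F p]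
    {H : Subgroup PSL(2, F)} (h : IsSubfieldGroup p H) :
    H = ⊤ ∨ ∃ Q : ℕ, 2 ≤ Q ∧ Q ^ 2 ≤ Fintype.card F ∧ Nat.card H ≤ Q * (Q - 1) * (Q + 1) := by
  obtain ⟨Q, m, hQ, hm, hm1, h⟩ := h.card_cases
  rcases eq_or_lt_of_le hm1 with hm' | hm'
  · left
    subst hm'
    rw [pow_one] at hm
    subst hm
    rcases h with h | ⟨-, he, -⟩
    · refine Subgroup.eq_top_of_card_eq _ ?_
      exact Nat.eq_of_mul_eq_mul_left (Nat.gcd_pos_of_pos_left _ two_pos) (h.trans (card_PSL_formula F).symm)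
    · exact absurd he (by decide)
  · right
    refine ⟨Q, hQ, hm ▸ Nat.pow_le_pow_right (by omega) hm', ?_⟩
    rcases h with h | ⟨-, -, h⟩
    · rw [← h]; exact Nat.le_mul_of_pos_left _ (Nat.gcd_pos_of_pos_left _ two_pos)
    · exact h.le

end CfsgLib.DicksonPSL2
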