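import Cfsg.Agent.DicksonPSL2.CharCase
import Cfsg.Agent.LocalEven50.PSL2Gen
import Mathlib.FieldTheory.Finite.GaloisField

/-!
# Subgroups with `Q + 1` Sylow subgroups are `PSL(2, Q)` or `PGL(2, Q)`

For a ring homomorphism `ι : K →+* F` and a scale `w` the maps `psiS` and `psiP` embed
`PSL(2, K)` and `PGL(2, K)`, entries being mapped by `ι` and conjugated by `diag (w, 1)`.
-/

set_option autoImplicit false
set_option linter.unusedSectionVars false

namespace CfsgLib.DicksonPSL2

open Matrix CfsgLib.SL2Trace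
open scoped MatrixGroups

variable {F : Type*} [Field F] {K : Type*} [Field K] (ι : K →+* F) (w : Fˣ)

/-- `g ↦ diag (w, 1) g diag (w, 1)⁻¹` on matrices, entries mapped by `ι`. -/
def psiMat : Matrix (Fin 2) (Fin 2) K →* Matrix (Fin 2) (Fin 2) F where
  toFun g := !![ι (g 0 0), w * ι (g 0 1); ι (g 1 0) / w, ι (g 1 1)]
  map_one' := by ext i j; fin_cases i <;> fin_cases j <;> simp
  map_mul' g h := by
    have hw : (w : F) ≠ 0 := w.ne_zero
    ext i j
    fin_cases i <;> fin_cases j <;> simp [Matrix.mul_apply, Fin.sum_univ_two] <;> field_simp <;> ring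

theorem psiMat_apply (g : Matrix (Fin 2) (Fin 2) K) :
    psiMat ι w g = !![ι (g 0 0), w * ι (g 0 1); ι (g 1 0) / w, ι (g 1 1)] := rfl

theorem det_psiMat (g : Matrix (Fin 2) (Fin 2) K) : (psiMat ι w g).det = ι g.det := by
  have hw : (w : F) ≠ 0 := w.ne_zero
  rw [psiMat_apply, Matrix.det_fin_two_of, Matrix.det_fin_two, map_sub, map_mul, map_mul]
  field_simp

theorem psiMat_injective : Function.Injective (psiMat ι w) := by
  intro g h e
  have hw : (w : F) ≠ 0 := w.ne_zero
  ext i j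
  have := congrFun (congrFun e i) j
  fin_cases i <;> fin_cases j <;> simp [psiMat_apply, hw, ι.injective.eq_iff] at this <;> exact this

/-- The embedding of `SL(2, K)`. -/
def psiSL : SL(2, K) →* SL(2, F) where
  toFun g := ⟨psiMat ι w g.1, by rw [det_psiMat, g.2, map_one]⟩
  map_one' := Subtype.ext (map_one (psiMat ι w))
  map_mul' g h := Subtype.ext (map_mul (psiMat ι w) g.1 h.1)

theorem coe_psiSL (g : SL(2, K)) : (psiSL ι w g).1 = psiMat ι w g.1 := rfl

theorem psiSL_injective : Function.Injective (psiSL ι w) :=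
  fun _ _ h => Subtype.ext (psiMat_injective ι w (congrArg Subtype.val h))

theorem psiSL_neg_one : psiSL ι w (-1) = -1 := by
  apply Subtype.ext
  rw [coe_psiSL, psiMat_apply]
  ext i j
  fin_cases i <;> fin_cases j <;> simp

/-- The embedding of `PSL(2, K)`. -/
def psiS : PSL(2, K) →* PSL(2, F) :=
  QuotientGroup.map _ _ (psiSL ι w) fun g hg => by
    rcases (mem_center_iff_eq g).1 hg with rfl | rfl
    · rw [Subgroup.mem_comap, map_one]; exact one_mem _
    · rw [Subgroup.mem_comap, psiSL_neg_one]; exact neg_one_mem_center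

theorem psiS_proj (g : SL(2, K)) : psiS ι w (proj g) = proj (psiSL ι w g) := rfl

theorem psiS_injective : Function.Injective (psiS ι w) := by
  rw [injective_iff_map_eq_one]
  intro x hx
  obtain ⟨g, rfl⟩ := proj_surjective x
  rw [psiS_proj, proj_eq_one_iff] at hx
  rw [proj_eq_one_iff]
  exact hx.imp (fun h => psiSL_injective ι w (h.trans (map_one _).symm))
    fun h => psiSL_injective ι w (h.trans (psiSL_neg_one ι w).symm)

/-- The embedding of `GL(2, K)`. -/
def psiGL : GL (Fin 2) K →* GL (Fin 2) F := Units.map (psiMat ι w)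

theorem coe_psiGL (g : GL (Fin 2) K) : (psiGL ι w g).1 = psiMat ι w g.1 := rfl

theorem psiGL_scalar (a : Kˣ) :
    psiGL ι w (GeneralLinearGroup.scalar (Fin 2) a) =
      GeneralLinearGroup.scalar (Fin 2) (Units.map (ι : K →* F) a) := by
  apply Units.ext
  rw [coe_psiGL, psiMat_apply]
  ext i j
  fin_cases i <;> fin_cases j <;> simp

/-- The embedding of `PGL(2, K)`. -/
def psiP : PGL(2, K) →* PGL(2, F) :=
  ProjGenLinGroup.lift ((ProjGenLinGroup.mk).comp (psiGL ι w)) (by
    ext a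
    simp only [MonoidHom.comp_apply, MonoidHom.one_apply]
    rw [psiGL_scalar, ProjGenLinGroup.mk_scalar])

theorem psiP_mk (g : GL (Fin 2) K) :
    psiP ι w (ProjGenLinGroup.mk g) = ProjGenLinGroup.mk (psiGL ι w g) := rfl

theorem psiP_injective : Function.Injective (psiP ι w) := by
  rw [injective_iff_map_eq_one]
  intro x hx
  induction x using Matrix.ProjGenLinGroup.induction_on with
  | mk g =>
    rw [psiP_mk, ← map_one (ProjGenLinGroup.mk (n := Fin 2) (R := F)),
      ProjGenLinGroup.mk_eq_mk_iff] at hx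
    obtain ⟨u, hu⟩ := hx
    have hu' : psiMat ι w g.1 * Matrix.scalar (Fin 2) (u : F) = 1 := congrArg Units.val hu
    have hw : (w : F) ≠ 0 := w.ne_zero
    have e01 := congrFun (congrFun hu' 0) 1
    have e10 := congrFun (congrFun hu' 1) 0
    have e00 := congrFun (congrFun hu' 0) 0
    have e11 := congrFun (congrFun hu' 1) 1
    simp [psiMat_apply, Matrix.mul_apply, Fin.sum_univ_two, hw] at e01 e10 e00 e11
    have hdiag : g.1 0 0 = g.1 1 1 :=
      ι.injective (mul_right_cancel₀ u.ne_zero (e00.trans e11.symm))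
    have hne : g.1 0 0 ≠ 0 := fun h => by simp [h] at e00
    rw [ProjGenLinGroup.mk_eq_one, GeneralLinearGroup.center_eq_range_scalar]
    refine ⟨Units.mk0 _ hne, Units.ext ?_⟩
    ext i j
    fin_cases i <;> fin_cases j <;> simp [e01, e10, hdiag]

theorem toPGL_comp_psiS :
    (ProjectiveSpecialLinearGroup.toPGL).comp (psiS ι w) =
      (psiP ι w).comp ProjectiveSpecialLinearGroup.toPGL := by
  apply MonoidHom.ext
  intro x
  obtain ⟨g, rfl⟩ := proj_surjective x
  simp only [MonoidHom.comp_apply, psiS_proj, ProjectiveSpecialLinearGroup.toPGL_mk, psiP_mk]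
  congr 1
  exact Units.ext rfl

theorem toPGL_proj_mem_range {g : SL(2, F)} (M : Matrix (Fin 2) (Fin 2) K) (s : F) (hs : s ≠ 0)
    (h : g.1 = s • psiMat ι w M) :
    ProjectiveSpecialLinearGroup.toPGL (proj g) ∈ (psiP ι w).range := by
  have hd : M.det ≠ 0 := by
    intro h0
    have := g.2
    rw [h, Matrix.det_smul, det_psiMat, h0, map_zero, mul_zero] at this
    exact zero_ne_one this
  refine ⟨ProjGenLinGroup.mk (GeneralLinearGroup.mkOfDetNeZero M hd), ?_⟩
  rw [psiP_mk, ProjectiveSpecialLinearGroup.toPGL_mk, ProjGenLinGroup.mk_eq_mk_iff]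
  refine ⟨Units.mk0 s hs, Units.ext ?_⟩
  show psiMat ι w M * Matrix.scalar (Fin 2) s = g.1
  rw [h]
  ext i j
  simp [mul_comm]

theorem coe_upperHom {R : Type*} [Field R] (t : Multiplicative R) :
    (LocalEven50.upperHom R t).1 = !![1, t.toAdd; 0, 1] := rfl

theorem coe_lowerHom {R : Type*} [Field R] (t : Multiplicative R) :
    (LocalEven50.lowerHom R t).1 = !![1, 0; t.toAdd, 1] := rfl

variable (H : Subgroup PSL(2, F))

/-- All slopes are translations. -/
def IsCentred : Prop := ∀ s ∈ slopes H, s ∈ trans H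

variable {H}

theorem exists_slope_zero (hc : IsCentred H) (hne : ¬ H ≤ BP) :
    ∃ x ∈ H, x ∉ BP ∧ slope x = 0 := by
  obtain ⟨x, hx, hxB⟩ := SetLike.not_le_iff_exists.1 hne
  refine ⟨u (-slope x) * x, mul_mem ?_ hx, ?_, ?_⟩
  · exact (trans H).neg_mem (hc _ ⟨x, ⟨hx, hxB⟩, rfl⟩)
  · exact fun h => hxB ((mul_mem_cancel_left (u_mem_BP _)).1 h)
  · rw [slope_u_mul hxB, neg_add_cancel]

/-- An element of slope zero in a centred group. -/
theorem slope_zero_facts (hc : IsCentred H) {g : SL(2, F)} (hg : proj g ∈ H) (ha : g.1 0 0 = 0)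
    {w : F} (hw : w ∈ trans H) (hw0 : w ≠ 0) :
    g.1 1 0 ≠ 0 ∧ g.1 1 1 / g.1 1 0 ∈ trans H ∧ -1 / (g.1 1 0 ^ 2 * w) ∈ trans H ∧
      ∃ g₀ : SL(2, F), proj g₀ ∈ H ∧ g₀.1 = !![0, -(g.1 1 0)⁻¹; g.1 1 0, 0] := by
  have hd := det_eq_one g
  have hc0 : g.1 1 0 ≠ 0 := fun h => by rw [ha, h] at hd; simp at hd
  have hinv : proj g⁻¹ ∉ BP := by
    rw [proj_mem_BP_iff, SL2Tori.coe_inv_eq]
    simpa using hc0
  have hdc : g.1 1 1 / g.1 1 0 ∈ trans H := by
    have := hc _ ⟨proj g⁻¹, ⟨inv_mem hg, hinv⟩, rfl⟩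
    rw [slope_proj, SL2Tori.coe_inv_eq] at this
    have h2 := (trans H).neg_mem this
    simpa [SL2Tori.tr, Matrix.trace_fin_two, ha, neg_div, div_neg] using h2
  obtain ⟨g₀, hg₀, hg₀e⟩ : ∃ g₀ : SL(2, F), proj g₀ ∈ H ∧
      g₀.1 = !![0, -(g.1 1 0)⁻¹; g.1 1 0, 0] := by
    refine ⟨g * upSL (-(g.1 1 1 / g.1 1 0)), mul_mem hg ((trans H).neg_mem hdc), ?_⟩
    rw [Matrix.SpecialLinearGroup.coe_mul, coe_upSL]
    ext i j
    fin_cases i <;> fin_cases j <;> simp [Matrix.mul_apply, Fin.sum_univ_two, ha]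
    · rw [ha, zero_mul, zero_sub] at hd
      field_simp
      linear_combination -hd
    · field_simp
      ring
  refine ⟨hc0, hdc, ?_, g₀, hg₀, hg₀e⟩
  have hconj : proj (g₀ * upSL w * g₀⁻¹) ∈ H := mul_mem (mul_mem hg₀ hw) (inv_mem hg₀)
  have hm : (g₀ * upSL w * g₀⁻¹).1 = !![1, 0; -(g.1 1 0 ^ 2 * w), 1] := by
    rw [Matrix.SpecialLinearGroup.coe_mul, Matrix.SpecialLinearGroup.coe_mul, SL2Tori.coe_inv_eq,
      coe_upSL, hg₀e]
    ext i j
    fin_cases i <;> fin_cases j <;>
      simp [Matrix.mul_apply, Fin.sum_univ_two, SL2Tori.tr, Matrix.trace_fin_two, hc0, hg₀e]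
    ring
  have hnB : proj (g₀ * upSL w * g₀⁻¹) ∉ BP := by
    rw [proj_mem_BP_iff, hm]
    simp [hc0, hw0]
  have := hc _ ⟨_, ⟨hconj, hnB⟩, rfl⟩
  rw [slope_proj, hm] at this
  simpa [div_neg, neg_div] using this

section Embed

variable (hT : ∀ x : F, x ∈ trans H ↔ ∃ a : K, x = w * ι a)

include hT

/-- A centred group contains the image of `PSL(2, K)`. -/
theorem range_psiS_le (hc : IsCentred H) (hne : ¬ H ≤ BP) : (psiS ι w).range ≤ H := by
  obtain ⟨x, hx, hxB, hx0⟩ := exists_slope_zero hc hne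
  obtain ⟨g, rfl⟩ := proj_surjective x
  rw [proj_mem_BP_iff] at hxB
  rw [slope_proj, div_eq_zero_iff, or_iff_left hxB] at hx0
  have hw : (w : F) ∈ trans H := (hT _).2 ⟨1, by simp⟩
  obtain ⟨-, -, h3, g₀, hg₀, hg₀e⟩ := slope_zero_facts hc hx hx0 hw w.ne_zero
  obtain ⟨r, hr⟩ := (hT _).1 h3
  have hr0 : r ≠ 0 := by
    rintro rfl
    rw [map_zero, mul_zero, div_eq_zero_iff] at hr
    simp [hxB] at hr
  rintro _ ⟨y, rfl⟩
  obtain ⟨k, rfl⟩ := proj_surjective y
  refine LocalEven50.closure_upper_lower K (H.comap ((projHom).comp (psiSL ι w))) (fun t => ?_)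
    (fun t => ?_) k
  · rw [Subgroup.mem_comap, MonoidHom.comp_apply, projHom_apply]
    have e : psiSL ι w (LocalEven50.upperHom K t) = upSL ((w : F) * ι t.toAdd) := by
      apply Subtype.ext
      rw [coe_psiSL, psiMat_apply, coe_upSL, coe_upperHom]
      ext i j
      fin_cases i <;> fin_cases j <;> simp
    rw [e]
    exact (hT _).2 ⟨_, rfl⟩
  · rw [Subgroup.mem_comap, MonoidHom.comp_apply, projHom_apply]
    have hv : (w : F) * ι (t.toAdd * r) ∈ trans H := (hT _).2 ⟨_, rfl⟩
    have e : psiSL ι w (LocalEven50.lowerHom K t) =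
        g₀ * upSL ((w : F) * ι (t.toAdd * r)) * g₀⁻¹ := by
      apply Subtype.ext
      rw [coe_psiSL, psiMat_apply, coe_lowerHom, Matrix.SpecialLinearGroup.coe_mul,
        Matrix.SpecialLinearGroup.coe_mul, SL2Tori.coe_inv_eq, coe_upSL, hg₀e, map_mul]
      have hr' : ι r * (g.1 1 0 ^ 2 * (w : F) * w) = -1 := by
        have hw' : (w : F) ≠ 0 := w.ne_zero
        field_simp at hr
        linear_combination -hr
      ext i j
      fin_cases i <;> fin_cases j <;>
        simp [Matrix.mul_apply, Fin.sum_univ_two, SL2Tori.tr, Matrix.trace_fin_two, hxB, hg₀e]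
      have hw' : (w : F) ≠ 0 := w.ne_zero
      field_simp
      linear_combination (ι t.toAdd) * hr'
    rw [e]
    exact mul_mem (mul_mem hg₀ hv) (inv_mem hg₀)

/-- A centred group whose multipliers lie in `K` lands in `PGL(2, K)`. -/
theorem map_toPGL_le (hc : IsCentred H) (hne : ¬ H ≤ BP)
    (hM : ∀ a ∈ mults H, ∃ b : K, ι b = (a : F)) :
    H.map ProjectiveSpecialLinearGroup.toPGL ≤ (psiP ι w).range := by
  set R := (psiP ι w).range.comap (ProjectiveSpecialLinearGroup.toPGL (n := Fin 2) (R := F)) with hR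
  rw [Subgroup.map_le_iff_le_comap, ← hR]
  have hw : (w : F) ∈ trans H := (hT _).2 ⟨1, by simp⟩
  have hw' : (w : F) ≠ 0 := w.ne_zero
  have h0 : ∀ g : SL(2, F), proj g ∈ H → g.1 0 0 = 0 → proj g ∈ R := by
    intro g hg ha
    obtain ⟨hc0, hdc, h3, -⟩ := slope_zero_facts hc hg ha hw w.ne_zero
    obtain ⟨y, hy⟩ := (hT _).1 h3
    obtain ⟨z, hz⟩ := (hT _).1 hdc
    refine toPGL_proj_mem_range ι w !![0, y; 1, z] (g.1 1 0 * w) (mul_ne_zero hc0 hw') ?_
    have hd := det_eq_one g
    rw [ha, zero_mul, zero_sub] at hd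
    rw [psiMat_apply]
    ext i j
    fin_cases i <;> fin_cases j <;> simp [ha]
    · field_simp at hy
      apply mul_left_cancel₀ hc0
      linear_combination -hd + hy
    · field_simp at hz
      linear_combination hz
  obtain ⟨x₀, hx₀, hx₀B, hx₀0⟩ := exists_slope_zero hc hne
  obtain ⟨g₀, rfl⟩ := proj_surjective x₀
  rw [proj_mem_BP_iff] at hx₀B
  rw [slope_proj, div_eq_zero_iff, or_iff_left hx₀B] at hx₀0
  have hBP : ∀ g : SL(2, F), proj g ∈ H → g.1 1 0 = 0 → proj g ∈ R := by
    intro g hg hc'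
    have hd := diag_mul hc'
    have ha : g.1 0 0 ≠ 0 := left_ne_zero_of_mul_eq_one hd
    obtain ⟨b, hb⟩ := hM (Units.mk0 _ (pow_ne_zero 2 ha))
      ((mem_mults H).2 ⟨proj g, hg, (proj_mem_BP_iff g).2 hc', chi_proj g⟩)
    have hnB : proj (g * g₀) ∉ BP := by
      rw [proj_mem_BP_iff, Matrix.SpecialLinearGroup.coe_mul]
      simp [Matrix.mul_apply, Fin.sum_univ_two, hc', hx₀B, right_ne_zero_of_mul_eq_one hd]
    have hs := hc _ ⟨proj (g * g₀), ⟨mul_mem hg hx₀, hnB⟩, rfl⟩
    rw [slope_proj, Matrix.SpecialLinearGroup.coe_mul] at hs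
    simp [Matrix.mul_apply, Fin.sum_univ_two, hc', hx₀0] at hs
    rw [mul_div_mul_right _ _ hx₀B] at hs
    obtain ⟨y, hy⟩ := (hT _).1 hs
    refine toPGL_proj_mem_range ι w !![b, y; 0, 1] (g.1 1 1) (right_ne_zero_of_mul_eq_one hd) ?_
    rw [psiMat_apply]
    ext i j
    fin_cases i <;> fin_cases j <;> simp [hc']
    · simp only [Units.val_mk0] at hb
      rw [hb]
      linear_combination -(g.1 0 0) * hd
    · rw [← hy]
      have hd1 := right_ne_zero_of_mul_eq_one hd
      field_simp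
  intro x hx
  by_cases hxB : x ∈ BP
  · obtain ⟨g, rfl⟩ := proj_surjective x
    exact hBP g hx ((proj_mem_BP_iff g).1 hxB)
  · have hs : slope x ∈ trans H := hc _ ⟨x, ⟨hx, hxB⟩, rfl⟩
    have hu : u (slope x) ∈ R := hBP _ hs (by simp [coe_upSL])
    have hrest : u (-slope x) * x ∈ R := by
      have hm : u (-slope x) * x ∈ H := mul_mem ((trans H).neg_mem hs) hx
      have hz : slope (u (-slope x) * x) = 0 := by rw [slope_u_mul hxB, neg_add_cancel]
      have hnB : u (-slope x) * x ∉ BP := fun h => hxB ((mul_mem_cancel_left (u_mem_BP _)).1 h)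
      obtain ⟨g, hg⟩ := proj_surjective (u (-slope x) * x)
      rw [← hg] at hm hz hnB ⊢
      rw [proj_mem_BP_iff] at hnB
      rw [slope_proj, div_eq_zero_iff, or_iff_left hnB] at hz
      exact h0 g hm hz
    have := mul_mem hu hrest
    rwa [u_neg, mul_inv_cancel_left] at this

end Embed

section Finite

variable [Fintype F]

theorem isCentred_conjS {e : F} (he : ∀ s ∈ slopes H, s - e ∈ trans H) :
    IsCentred (conjS (u (-e)) H) := by
  rintro _ ⟨x, ⟨hx, hxB⟩, rfl⟩
  rw [mem_conjS] at hx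
  have hyB : (u (-e))⁻¹ * x * u (-e) ∉ BP := by
    rw [mul_mem_cancel_right (u_mem_BP _), mul_mem_cancel_left (inv_mem (u_mem_BP _))]
    exact hxB
  have h := he _ ⟨_, ⟨hx, hyB⟩, rfl⟩
  have hyB' : (u (-e))⁻¹ * x ∉ BP := by
    rwa [mul_mem_cancel_left (inv_mem (u_mem_BP _))]
  rw [slope_mul_BP hyB' (u_mem_BP _), ← u_neg, neg_neg, slope_u_mul hxB, add_sub_cancel_left] at h
  rw [mem_trans, mem_conjS]
  rw [mem_trans] at h
  rwa [← u_neg, neg_neg, ← u_add, ← u_add, show e + slope x + -e = slope x by ring]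

theorem trans_conjS_u (e : F) : trans (conjS (u e) H) = trans H := by
  ext v
  rw [mem_trans, mem_trans, mem_conjS, ← u_neg, ← u_add, ← u_add,
    show -e + v + e = v by ring]

theorem mults_conjS_u (e : F) : mults (conjS (u e) H) = mults H := by
  ext a
  rw [mem_mults, mem_mults]
  constructor
  · rintro ⟨x, hx, hxB, h⟩
    refine ⟨_, mem_conjS.1 hx, mul_mem (mul_mem (inv_mem (u_mem_BP e)) hxB) (u_mem_BP e), ?_⟩
    rw [chi_mul _ (u_mem_BP e), chi_mul _ hxB, ← u_neg, chi_u, chi_u, one_mul, mul_one, h]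
  · rintro ⟨x, hx, hxB, h⟩
    refine ⟨u e * x * (u e)⁻¹, mem_conjS.2 (by simpa [mul_assoc] using hx),
      mul_mem (mul_mem (u_mem_BP e) hxB) (inv_mem (u_mem_BP e)), ?_⟩
    rw [← u_neg, chi_mul _ (u_mem_BP _), chi_mul _ hxB, chi_u, chi_u, one_mul, mul_one, h]

/-- The multipliers of `W`, as a subfield. -/
def scalarsOf (W : AddSubgroup F) : Subring F where
  carrier := {a | ∀ v ∈ W, a * v ∈ W}
  one_mem' := by intro v hv; simpa using hv
  zero_mem' := by intro v _; simp [W.zero_mem]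
  mul_mem' := by intro a b ha hb v hv; rw [mul_assoc]; exact ha _ (hb v hv)
  add_mem' := by intro a b ha hb v hv; rw [add_mul]; exact W.add_mem (ha v hv) (hb v hv)
  neg_mem' := by intro a ha v hv; rw [neg_mul]; exact W.neg_mem (ha v hv)

variable (p : ℕ) [Fact p.Prime] [CharP F p]

include p in
/-- The translations form a line over a subfield. -/
theorem exists_field (hk : Nat.card (mults H) = Nat.card (trans H) - 1 ∨
      2 * Nat.card (mults H) = Nat.card (trans H) - 1) {w₀ : F} (hw₀ : u w₀ ∈ H) (h0 : w₀ ≠ 0) :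
    ∃ (K : Type) (_ : Field K) (_ : Fintype K) (ι : K →+* F) (w : Fˣ),
      Fintype.card K = Nat.card (trans H) ∧ (∀ x : F, x ∈ trans H ↔ ∃ a : K, x = w * ι a) ∧
      ∀ a ∈ mults H, ∃ b : K, ι b = (a : F) := by
  classical
  set L := scalarsOf (trans H) with hL
  letI : Fintype L := Fintype.ofFinite L
  letI : Field L := Fintype.fieldOfDomain L
  have hML : ∀ a ∈ mults H, (a : F) ∈ L := fun a ha v hv => mults_mul_mem H ha hv
  let f : L → trans H := fun a => ⟨(a : F) * w₀, a.2 w₀ hw₀⟩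
  have hf : Function.Injective f := fun a b h =>
    Subtype.ext (mul_right_cancel₀ h0 (congrArg Subtype.val h))
  have hle : Fintype.card L ≤ Nat.card (trans H) := by
    rw [← Nat.card_eq_fintype_card]; exact Nat.card_le_card_of_injective f hf
  obtain ⟨e, he⟩ : ∃ e, Nat.card (trans H) = p ^ e := by
    obtain ⟨e, he⟩ := (isPGroup_upGroup_subgroupOf p (H := H)).exists_card_eq
    exact ⟨e, by rw [← card_upGroup_subgroupOf, he]⟩
  have : CharP L p := RingHom.charP L.subtype Subtype.val_injective p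
  obtain ⟨a, hp, ha⟩ := FiniteField.card L p
  have hklt : Nat.card (mults H) + 1 ≤ Fintype.card L := by
    let g : Option (mults H) → L := fun o => o.elim 0 fun m => ⟨((m : Fˣ) : F), hML _ m.2⟩
    have hg : Function.Injective g := by
      rintro (_ | m) (_ | m') h <;> simp only [g, Option.elim_none, Option.elim_some] at h
      · rfl
      · exact absurd (congrArg Subtype.val h).symm (m' : Fˣ).ne_zero
      · exact absurd (congrArg Subtype.val h) (m : Fˣ).ne_zero
      · exact congrArg some (Subtype.ext (Units.ext (congrArg Subtype.val h :)))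
    rw [← Finite.card_option, ← Nat.card_eq_fintype_card]
    exact Nat.card_le_card_of_injective g hg
  have hQ2 : 2 ≤ Nat.card (trans H) := le_trans Fintype.one_lt_card hle
  have hcard : Fintype.card L = Nat.card (trans H) := by
    have hae : (a : ℕ) ≤ e := (Nat.pow_le_pow_iff_right hp.one_lt).1 (by rw [← ha, ← he]; exact hle)
    rcases eq_or_lt_of_le hae with h | h
    · rw [ha, he, h]
    · exfalso
      have h1 : p * Fintype.card L ≤ Nat.card (trans H) := by
        rw [ha, he, ← pow_succ']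
        exact Nat.pow_le_pow_right hp.pos h
      have h2 := Nat.mul_le_mul_right (Fintype.card L) hp.two_le
      rcases hk with hk | hk <;> omega
  obtain ⟨w, hw⟩ : ∃ w : Fˣ, (w : F) = w₀ := ⟨Units.mk0 _ h0, rfl⟩
  letI : Fintype (GaloisField p a) := Fintype.ofFinite _
  have hcard' : Fintype.card (GaloisField p a) = Fintype.card L := by
    rw [← Nat.card_eq_fintype_card, GaloisField.card p a a.ne_zero, ha]
  let φ := FiniteField.ringEquivOfCardEq hcard'
  refine ⟨GaloisField p a, inferInstance, inferInstance, L.subtype.comp φ.toRingHom, w,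
    hcard'.trans hcard, fun x => ⟨fun hx => ?_, ?_⟩, fun m hm => ?_⟩
  · obtain ⟨y, hy⟩ := (hf.bijective_of_nat_card_le (by rw [← hcard, Nat.card_eq_fintype_card])).2
      ⟨x, hx⟩
    refine ⟨φ.symm y, ?_⟩
    have := congrArg Subtype.val hy
    simp only [f] at this
    rw [← this, hw, mul_comm]
    simp
  · rintro ⟨y, rfl⟩
    rw [hw, mul_comm]
    exact (φ y).2 w₀ hw₀
  · exact ⟨φ.symm ⟨_, hML m hm⟩, by simp⟩

theorem card_PSL_formula (K : Type*) [Field K] [Fintype K] :
    Nat.gcd 2 (Fintype.card K - 1) * Nat.card PSL(2, K) =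
      Fintype.card K * (Fintype.card K - 1) * (Fintype.card K + 1) := by
  rw [Linear.card_PSL_two_mul, mul_assoc]
  congr 1
  rw [mul_comm, ← Nat.sq_sub_sq, one_pow]

include p in
/-- The subgroups with `Q + 1` Sylow subgroups of order `Q`. -/
theorem subfield_case (hH : IsSubfieldType H) {w₀ : F} (hw₀ : u w₀ ∈ H) (h0 : w₀ ≠ 0) :
    ∃ (K : Type) (_ : Field K) (_ : Fintype K) (ι : K →+* F) (a : PSL(2, F)) (w : Fˣ),
      conjS a H = (psiS ι w).range ∨
        (p ≠ 2 ∧ (conjS a H).map ProjectiveSpecialLinearGroup.toPGL = (psiP ι w).range) := by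
  obtain ⟨hcard, hk, e, he⟩ := hH
  set H' := conjS (u (-e)) H with hH'
  have hw₀' : u w₀ ∈ H' := by rw [← mem_trans, hH', trans_conjS_u]; exact hw₀
  have hc : IsCentred H' := isCentred_conjS he
  have hk' : Nat.card (mults H') = Nat.card (trans H') - 1 ∨
      2 * Nat.card (mults H') = Nat.card (trans H') - 1 := by
    rw [hH', trans_conjS_u, mults_conjS_u]; exact hk
  obtain ⟨K, instK, instK', ι, w, hKcard, hT, hM⟩ := exists_field p hk' hw₀' h0
  rw [hH', trans_conjS_u] at hKcard
  have hQ2 : 2 ≤ Nat.card (trans H) := hKcard ▸ Fintype.one_lt_card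
  have hH'card : Nat.card H' = Nat.card H := card_conjS _ _
  have hne : ¬ H' ≤ BP := by
    intro hle
    have h1 : (BP.subgroupOf H').index = 1 := by
      rw [Subgroup.index_eq_one, Subgroup.subgroupOf_eq_top]; exact hle
    have h2 := (BP.subgroupOf H').card_mul_index
    rw [h1, mul_one, card_BP_subgroupOf, hH'card, hH', trans_conjS_u, mults_conjS_u, hcard] at h2
    have h0' : 0 < Nat.card (trans H) * Nat.card (mults H) := Nat.mul_pos (by omega) Nat.card_pos
    nlinarith
  have hS := range_psiS_le ι w hT hc hne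
  have hrange : Nat.card (psiS ι w).range = Nat.card PSL(2, K) :=
    (Nat.card_congr (MonoidHom.ofInjective (psiS_injective ι w)).toEquiv).symm
  have hform := card_PSL_formula K
  rw [hKcard] at hform
  refine ⟨K, instK, instK', ι, u (-e), w, ?_⟩
  rcases hk with hk1 | hk2
  · have : Finite PGL(2, F) := Finite.of_surjective _ ProjGenLinGroup.mk_surjective
    by_cases hp2 : p = 2
    · left
      refine (Subgroup.eq_of_le_of_card_ge hS ?_).symm
      have hg : Nat.gcd 2 (Nat.card (trans H) - 1) = 1 := by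
        subst hp2
        obtain ⟨e₀, he₀⟩ : ∃ e₀, Nat.card (trans H) = 2 ^ e₀ := by
          obtain ⟨e₀, he₀⟩ := (isPGroup_upGroup_subgroupOf 2 (H := H)).exists_card_eq
          exact ⟨e₀, by rw [← card_upGroup_subgroupOf, he₀]⟩
        obtain ⟨d, rfl⟩ : ∃ d, e₀ = d + 1 := ⟨e₀ - 1, by
          rcases Nat.eq_zero_or_pos e₀ with rfl | h
          · rw [pow_zero] at he₀; omega
          · omega⟩
        rw [he₀]
        refine (Nat.prime_two.coprime_iff_not_dvd).2 ?_
        have := Nat.one_le_two_pow (n := d + 1)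
        have : 2 ∣ 2 ^ (d + 1) := dvd_pow_self 2 (by omega)
        omega
      rw [hg, one_mul] at hform
      rw [hH'card, hcard, hrange, hform, hk1]
    · right
      refine ⟨hp2, ?_⟩
      refine Subgroup.eq_of_le_of_card_ge (map_toPGL_le ι w hT hc hne hM) (le_of_eq ?_)
      rw [Nat.card_congr (Subgroup.equivMapOfInjective _ _
        ProjectiveSpecialLinearGroup.toPGL_injective).toEquiv.symm,
        Nat.card_congr (MonoidHom.ofInjective (psiP_injective ι w)).toEquiv.symm, hH'card, hcard,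
        Linear.card_PGL, Linear.card_SL_two, hKcard, hk1, mul_assoc,
        show Nat.card (trans H) ^ 2 - 1 = (Nat.card (trans H) - 1) * (Nat.card (trans H) + 1) by
          rw [mul_comm, ← Nat.sq_sub_sq, one_pow]]
  · left
    refine (Subgroup.eq_of_le_of_card_ge hS ?_).symm
    have hg : Nat.gcd 2 (Nat.card (trans H) - 1) = 2 :=
      Nat.gcd_eq_left ⟨_, hk2.symm⟩
    rw [hg, ← hk2] at hform
    rw [hH'card, hcard, hrange]
    nlinarith

end Finite

end CfsgLib.DicksonPSL2
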