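import Cfsg.Agent.DicksonPSL2.Basic

/-!
# The Borel subgroup of `PSL(2, F)` and the upper unitriangular elements

`BP` is the image of the upper triangular matrices, `u w` the image of `[[1, w], [0, 1]]`,
`chi` the square of the top-left entry and `slope` the ratio of the entries of the first column.
-/

set_option autoImplicit false
set_option linter.unusedSectionVars false

namespace CfsgLib.DicksonPSL2

open Matrix CfsgLib.SL2Trace
open CfsgLib.SL2Tori (tr)
open scoped MatrixGroups

variable {F : Type*} [Field F]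

/-- `[[1, w], [0, 1]]`. -/
def upSL (w : F) : SL(2, F) := ⟨!![1, w; 0, 1], by simp [Matrix.det_fin_two]⟩

theorem coe_upSL (w : F) : (upSL w).1 = !![1, w; 0, 1] := rfl

/-- The image of `[[1, w], [0, 1]]`. -/
def u (w : F) : PSL(2, F) := proj (upSL w)

theorem upSL_add (v w : F) : upSL (v + w) = upSL v * upSL w := by
  apply Subtype.ext
  rw [Matrix.SpecialLinearGroup.coe_mul, coe_upSL, coe_upSL, coe_upSL]
  ext i j
  fin_cases i <;> fin_cases j <;> simp [Matrix.mul_apply, Fin.sum_univ_two, add_comm]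

theorem upSL_zero : upSL (0 : F) = 1 := by
  apply Subtype.ext
  ext i j
  fin_cases i <;> fin_cases j <;> simp [coe_upSL]

theorem u_add (v w : F) : u (v + w) = u v * u w := by rw [u, upSL_add, proj_mul]; rfl

theorem u_zero : u (0 : F) = 1 := by rw [u, upSL_zero]; rfl

theorem u_neg (w : F) : u (-w) = (u w)⁻¹ :=
  eq_inv_of_mul_eq_one_left (by rw [← u_add, neg_add_cancel, u_zero])

theorem u_injective : Function.Injective (u : F → PSL(2, F)) := by
  intro v w h
  rcases proj_eq_proj_iff.1 h with e | e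
  · have := congrArg (fun m : SL(2, F) => m.1 0 1) e
    simp [coe_upSL] at this
    exact this.symm
  · have e0 := congrArg (fun m : SL(2, F) => m.1 0 0) e
    have e1 := congrArg (fun m : SL(2, F) => m.1 0 1) e
    simp [coe_upSL] at e0 e1
    linear_combination -e1 + v * e0

theorem u_ne_one {w : F} (hw : w ≠ 0) : u w ≠ 1 := fun e => hw (u_injective (e.trans u_zero.symm))

theorem not_isTor_u (w : F) : ¬ IsTor (u w) := by
  rw [u, isTor_proj, not_not]
  simp [tr, coe_upSL, Matrix.trace_fin_two]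
  norm_num

/-- The upper triangular matrices of determinant one. -/
def borelSL : Subgroup SL(2, F) where
  carrier := {g | g.1 1 0 = 0}
  one_mem' := by simp
  mul_mem' := by
    intro g h hg hh
    simp only [Set.mem_ofPred_eq] at hg hh ⊢
    simp [Matrix.SpecialLinearGroup.coe_mul, Matrix.mul_apply, Fin.sum_univ_two, hg, hh]
  inv_mem' := by
    intro g hg
    simp only [Set.mem_ofPred_eq] at hg ⊢
    rw [SL2Tori.coe_inv_eq]
    simp [hg]

/-- The image of the upper triangular matrices. -/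
def BP : Subgroup PSL(2, F) := borelSL.map projHom

theorem proj_mem_BP_iff (g : SL(2, F)) : proj g ∈ BP ↔ g.1 1 0 = 0 := by
  constructor
  · rintro ⟨h, hh, e⟩
    have hh' : h.1 1 0 = 0 := hh
    rcases proj_eq_proj_iff.1 e with rfl | rfl
    · exact hh'
    · simp [hh']
  · exact fun h => ⟨g, h, rfl⟩

theorem u_mem_BP (w : F) : u w ∈ BP := (proj_mem_BP_iff _).2 (by simp [coe_upSL])

/-- The square of the top-left entry. -/
noncomputable def chi (x : PSL(2, F)) : F := (Quotient.out x).1 0 0 ^ 2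

theorem chi_proj (g : SL(2, F)) : chi (proj g) = g.1 0 0 ^ 2 := by
  rcases proj_eq_proj_iff.1 (Quotient.out_eq (proj g)).symm with h | h <;>
    rw [chi, h] <;> simp

theorem chi_u (w : F) : chi (u w) = 1 := by simp [u, chi_proj, coe_upSL]

theorem chi_one : chi (1 : PSL(2, F)) = 1 := by rw [← u_zero, chi_u]

theorem chi_mul (x : PSL(2, F)) {y : PSL(2, F)} (hy : y ∈ BP) : chi (x * y) = chi x * chi y := by
  obtain ⟨g, rfl⟩ := proj_surjective x
  obtain ⟨h, rfl⟩ := proj_surjective y
  rw [proj_mem_BP_iff] at hy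
  rw [← proj_mul, chi_proj, chi_proj, chi_proj, Matrix.SpecialLinearGroup.coe_mul]
  simp [Matrix.mul_apply, Fin.sum_univ_two, hy]
  ring

theorem diag_mul {g : SL(2, F)} (h : g.1 1 0 = 0) : g.1 0 0 * g.1 1 1 = 1 := by
  have := det_eq_one g
  rw [h, mul_zero, sub_zero] at this
  exact this

theorem chi_ne_zero {x : PSL(2, F)} (hx : x ∈ BP) : chi x ≠ 0 := by
  obtain ⟨g, rfl⟩ := proj_surjective x
  rw [proj_mem_BP_iff] at hx
  rw [chi_proj]
  exact pow_ne_zero 2 (left_ne_zero_of_mul_eq_one (diag_mul hx))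

theorem conj_u {x : PSL(2, F)} (hx : x ∈ BP) (w : F) : x * u w * x⁻¹ = u (chi x * w) := by
  obtain ⟨g, rfl⟩ := proj_surjective x
  rw [proj_mem_BP_iff] at hx
  rw [mul_inv_eq_iff_eq_mul, chi_proj, u, u, ← proj_mul, ← proj_mul]
  congr 1
  apply Subtype.ext
  have hd := diag_mul hx
  rw [Matrix.SpecialLinearGroup.coe_mul, Matrix.SpecialLinearGroup.coe_mul, coe_upSL, coe_upSL]
  ext i j
  fin_cases i <;> fin_cases j <;> simp [Matrix.mul_apply, Fin.sum_univ_two, hx]
  linear_combination -(g.1 0 0 * w) * hd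

theorem eq_u_of_chi_eq_one {x : PSL(2, F)} (hx : x ∈ BP) (h1 : chi x = 1) : ∃ w, x = u w := by
  obtain ⟨g, rfl⟩ := proj_surjective x
  rw [proj_mem_BP_iff] at hx
  rw [chi_proj] at h1
  have hd := diag_mul hx
  refine ⟨g.1 0 1 * g.1 0 0, ?_⟩
  rw [u, proj_eq_proj_iff]
  rcases sq_eq_one_iff.1 h1 with ha | ha
  · left
    apply Subtype.ext
    ext i j
    fin_cases i <;> fin_cases j <;> simp [coe_upSL, hx, ha]
    rw [ha, one_mul] at hd
    exact hd.symm
  · right
    apply Subtype.ext
    ext i j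
    fin_cases i <;> fin_cases j <;> simp [coe_upSL, hx, ha]
    rw [ha] at hd
    linear_combination -hd

theorem isTor_of_chi_ne_one {x : PSL(2, F)} (hx : x ∈ BP) (h1 : chi x ≠ 1) : IsTor x := by
  obtain ⟨g, rfl⟩ := proj_surjective x
  rw [proj_mem_BP_iff] at hx
  rw [chi_proj] at h1
  rw [isTor_proj]
  have hd := diag_mul hx
  intro e
  rw [tr, Matrix.trace_fin_two] at e
  have h2 : (g.1 0 0 - g.1 1 1) ^ 2 = 0 := by linear_combination e - 4 * hd
  have h3 := sub_eq_zero.1 (pow_eq_zero_iff (n := 2) two_ne_zero |>.1 h2)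
  exact h1 (by rw [pow_two]; nth_rw 2 [h3]; exact hd)

/-- A non-trivial element which is not semisimple is conjugate to an upper unitriangular one. -/
theorem exists_conj_u {x : PSL(2, F)} (hx : ¬ IsTor x) :
    ∃ (a : PSL(2, F)) (w : F), a * x * a⁻¹ = u w := by
  obtain ⟨g, rfl⟩ := proj_surjective x
  rw [isTor_proj, not_not, tr, Matrix.trace_fin_two] at hx
  have hd := det_eq_one g
  by_cases hc : g.1 1 0 = 0
  · have hm : proj g ∈ BP := (proj_mem_BP_iff g).2 hc
    refine ⟨1, ?_⟩
    rw [one_mul, inv_one, mul_one]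
    refine eq_u_of_chi_eq_one hm (by_contra fun h1 => isTor_proj.1 (isTor_of_chi_ne_one hm h1) ?_)
    rw [tr, Matrix.trace_fin_two, hx]
  · obtain ⟨ε, hε, ht⟩ : ∃ ε : F, ε ^ 2 = 1 ∧ g.1 0 0 + g.1 1 1 = 2 * ε := by
      have h' : (g.1 0 0 + g.1 1 1 - 2) * (g.1 0 0 + g.1 1 1 + 2) = 0 := by linear_combination hx
      rcases mul_eq_zero.1 h' with h'' | h''
      · exact ⟨1, one_pow 2, by linear_combination h''⟩
      · exact ⟨-1, by ring, by linear_combination h''⟩
    set s := (ε - g.1 1 1) / g.1 1 0 with hs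
    have hsc : g.1 1 0 * s = ε - g.1 1 1 := by rw [hs]; field_simp
    -- `(s, 1)` spans the eigenline
    let A : SL(2, F) := ⟨!![0, 1; -1, s], by simp [Matrix.det_fin_two]⟩
    have hA : A.1 = !![0, 1; -1, s] := rfl
    have he : (A * g * A⁻¹).1 1 0 = 0 := by
      rw [Matrix.SpecialLinearGroup.coe_mul, Matrix.SpecialLinearGroup.coe_mul, SL2Tori.coe_inv_eq]
      simp [Matrix.mul_apply, Fin.sum_univ_two, Matrix.vecMul, dotProduct, hA, tr, Matrix.trace_fin_two]
      apply mul_left_cancel₀ hc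
      linear_combination (g.1 1 0 * s + ε - g.1 0 0) * hsc + hd - ε * ht - hε
    have hm : proj (A * g * A⁻¹) ∈ BP := (proj_mem_BP_iff _).2 he
    refine ⟨proj A, ?_⟩
    rw [← proj_inv, ← proj_mul, ← proj_mul]
    refine eq_u_of_chi_eq_one hm (by_contra fun h1 => isTor_proj.1 (isTor_of_chi_ne_one hm h1) ?_)
    rw [tr_conj, tr, Matrix.trace_fin_two, hx]

theorem exists_eq_u_of_comm {x : PSL(2, F)} {w : F} (hw : w ≠ 0) (h : x * u w = u w * x) :
    ∃ v, x = u v := by
  obtain ⟨g, rfl⟩ := proj_surjective x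
  have hd := det_eq_one g
  rw [u, ← proj_mul, ← proj_mul] at h
  rcases proj_eq_proj_iff.1 h with e | e
  · have e01 := congrArg (fun m : SL(2, F) => m.1 0 1) e
    have e00 := congrArg (fun m : SL(2, F) => m.1 0 0) e
    simp [Matrix.SpecialLinearGroup.coe_mul, Matrix.mul_apply, Fin.sum_univ_two, coe_upSL] at e00 e01
    have hc : g.1 1 0 = 0 := e00.resolve_left hw
    have had : g.1 0 0 = g.1 1 1 := mul_right_cancel₀ hw (by linear_combination -e01)
    refine eq_u_of_chi_eq_one ((proj_mem_BP_iff g).2 hc) ?_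
    rw [chi_proj]
    linear_combination hd + g.1 0 1 * hc + g.1 0 0 * had
  · have e00 := congrArg (fun m : SL(2, F) => m.1 0 0) e
    have e10 := congrArg (fun m : SL(2, F) => m.1 1 0) e
    simp [Matrix.SpecialLinearGroup.coe_mul, Matrix.mul_apply, Fin.sum_univ_two, coe_upSL] at e00 e10
    by_cases h2 : (2 : F) = 0
    · -- here `-1 = 1`
      have hn : -(g * upSL w) = g * upSL w := by
        apply Subtype.ext
        ext i j
        simp only [Matrix.SpecialLinearGroup.coe_neg, Matrix.neg_apply]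
        linear_combination -((g * upSL w).1 i j) * h2
      rw [hn] at e
      have e01 := congrArg (fun m : SL(2, F) => m.1 0 1) e
      have e00' := congrArg (fun m : SL(2, F) => m.1 0 0) e
      simp [Matrix.SpecialLinearGroup.coe_mul, Matrix.mul_apply, Fin.sum_univ_two, coe_upSL] at e00' e01
      have hc : g.1 1 0 = 0 := e00'.resolve_left hw
      have had : g.1 0 0 = g.1 1 1 := mul_right_cancel₀ hw (by linear_combination -e01)
      refine eq_u_of_chi_eq_one ((proj_mem_BP_iff g).2 hc) ?_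
      rw [chi_proj]
      linear_combination hd + g.1 0 1 * hc + g.1 0 0 * had
    · exfalso
      have hc : g.1 1 0 = 0 := by
        have : (2 : F) * g.1 1 0 = 0 := by linear_combination e10
        exact (mul_eq_zero.1 this).resolve_left h2
      have ha : g.1 0 0 = 0 := by
        have : (2 : F) * g.1 0 0 = 0 := by linear_combination e00 - w * hc
        exact (mul_eq_zero.1 this).resolve_left h2
      rw [hc, ha] at hd
      simp at hd

theorem mem_BP_of_conj_u {x : PSL(2, F)} {v w : F} (hw : w ≠ 0) (h : x * u w * x⁻¹ = u v) :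
    x ∈ BP := by
  obtain ⟨g, rfl⟩ := proj_surjective x
  rw [mul_inv_eq_iff_eq_mul, u, u, ← proj_mul, ← proj_mul] at h
  rw [proj_mem_BP_iff]
  rcases proj_eq_proj_iff.1 h with e | e
  · have e11 := congrArg (fun m : SL(2, F) => m.1 1 1) e
    simp [Matrix.SpecialLinearGroup.coe_mul, Matrix.mul_apply, Fin.sum_univ_two, coe_upSL] at e11
    exact e11.resolve_right hw
  · have e10 := congrArg (fun m : SL(2, F) => m.1 1 0) e
    have e11 := congrArg (fun m : SL(2, F) => m.1 1 1) e
    simp [Matrix.SpecialLinearGroup.coe_mul, Matrix.mul_apply, Fin.sum_univ_two, coe_upSL] at e10 e11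
    by_cases h2 : (2 : F) = 0
    · have : g.1 1 0 * w = 0 := by linear_combination e11 - g.1 1 1 * h2
      exact (mul_eq_zero.1 this).resolve_right hw
    · have : (2 : F) * g.1 1 0 = 0 := by linear_combination e10
      exact (mul_eq_zero.1 this).resolve_left h2

theorem torus_le_BP {x y : PSL(2, F)} (hx : IsTor x) (hxB : x ∈ BP) (hy : y ∈ torus x) :
    y ∈ BP := by
  obtain ⟨g, rfl, hg⟩ := hx
  obtain ⟨h, rfl⟩ := proj_surjective y
  rw [proj_mem_torus_iff] at hy
  rw [proj_mem_BP_iff] at hxB ⊢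
  have e := congrArg (fun m : SL(2, F) => m.1 1 0) hy
  simp [Matrix.SpecialLinearGroup.coe_mul, Matrix.mul_apply, Fin.sum_univ_two, hxB] at e
  have hd := diag_mul hxB
  have hne : g.1 0 0 - g.1 1 1 ≠ 0 := by
    intro h0
    apply hg
    rw [tr, Matrix.trace_fin_two]
    linear_combination (g.1 0 0 - g.1 1 1) * h0 + 4 * hd
  have : h.1 1 0 * (g.1 0 0 - g.1 1 1) = 0 := by linear_combination e
  exact (mul_eq_zero.1 this).resolve_right hne

/-- The ratio of the entries of the first column. -/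
noncomputable def slope (x : PSL(2, F)) : F := (Quotient.out x).1 0 0 / (Quotient.out x).1 1 0

theorem slope_proj (g : SL(2, F)) : slope (proj g) = g.1 0 0 / g.1 1 0 := by
  rcases proj_eq_proj_iff.1 (Quotient.out_eq (proj g)).symm with h | h <;>
    rw [slope, h] <;> simp

theorem slope_u_mul {x : PSL(2, F)} (hx : x ∉ BP) (w : F) : slope (u w * x) = w + slope x := by
  obtain ⟨g, rfl⟩ := proj_surjective x
  rw [proj_mem_BP_iff] at hx
  rw [u, ← proj_mul, slope_proj, slope_proj, Matrix.SpecialLinearGroup.coe_mul, coe_upSL]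
  simp [Matrix.mul_apply, Fin.sum_univ_two]
  field_simp
  ring

theorem slope_mul_BP {x y : PSL(2, F)} (hx : x ∉ BP) (hy : y ∈ BP) : slope (x * y) = slope x := by
  obtain ⟨g, rfl⟩ := proj_surjective x
  obtain ⟨h, rfl⟩ := proj_surjective y
  rw [proj_mem_BP_iff] at hx hy
  rw [← proj_mul, slope_proj, slope_proj, Matrix.SpecialLinearGroup.coe_mul]
  simp [Matrix.mul_apply, Fin.sum_univ_two, hy]
  rw [mul_div_mul_right _ _ (left_ne_zero_of_mul_eq_one (diag_mul hy))]

theorem inv_mul_mem_BP_of_slope {x y : PSL(2, F)} (hx : x ∉ BP) (hy : y ∉ BP)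
    (h : slope x = slope y) : x⁻¹ * y ∈ BP := by
  obtain ⟨g, rfl⟩ := proj_surjective x
  obtain ⟨k, rfl⟩ := proj_surjective y
  rw [proj_mem_BP_iff] at hx hy
  rw [slope_proj, slope_proj, div_eq_div_iff hx hy] at h
  rw [← proj_inv, ← proj_mul, proj_mem_BP_iff, Matrix.SpecialLinearGroup.coe_mul, SL2Tori.coe_inv_eq]
  simp [Matrix.mul_apply, Fin.sum_univ_two, tr, Matrix.trace_fin_two]
  linear_combination h

end CfsgLib.DicksonPSL2
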