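import Cfsg.Agent.DicksonPSL2.Classification
import Cfsg.Agent.Characters.Burnside

/-!
# Orders and solvability of the subgroups in Dickson's list
-/

set_option autoImplicit false
set_option linter.unusedSectionVars false

namespace CfsgLib.DicksonPSL2

open Matrix CfsgLib.SL2Trace
open scoped MatrixGroups

variable (F : Type*) [Field F] [Fintype F]

theorem card_ge_two : 2 ≤ Fintype.card F := Fintype.one_lt_card

theorem gcd_two_cases :
    (Odd (Fintype.card F) ∧ Nat.gcd 2 (Fintype.card F - 1) = 2 ∧ 3 ≤ Fintype.card F) ∨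
      (Even (Fintype.card F) ∧ Nat.gcd 2 (Fintype.card F - 1) = 1) := by
  have h2 := card_ge_two F
  rcases Nat.even_or_odd (Fintype.card F) with h | h
  · right
    refine ⟨h, (Nat.prime_two.coprime_iff_not_dvd).2 fun hd => ?_⟩
    obtain ⟨k, hk⟩ := h
    omega
  · left
    obtain ⟨k, hk⟩ := h
    exact ⟨⟨k, hk⟩, Nat.gcd_eq_left (by omega), by omega⟩

theorem card_upGroup : Nat.card (upGroup (F := F)) = Fintype.card F := by
  rw [← Nat.card_eq_fintype_card]
  exact (Nat.card_congr (Equiv.ofBijective (fun w : F => (⟨u w, w, rfl⟩ : upGroup (F := F)))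
    ⟨fun v w h => u_injective (congrArg Subtype.val h), fun ⟨_, w, rfl⟩ => ⟨w, rfl⟩⟩)).symm

/-- The number of conjugates of the triangular group. -/
theorem index_BP : (BP (F := F)).index = Fintype.card F + 1 := by
  have h := index_BP_subgroupOf (⊤ : Subgroup PSL(2, F))
  have hs : slopes (⊤ : Subgroup PSL(2, F)) = Set.univ := by
    ext s
    simp only [Set.mem_univ, iff_true]
    obtain ⟨g, hg⟩ : ∃ g : SL(2, F), g.1 = !![s, -1; 1, 0] :=
      ⟨⟨!![s, -1; 1, 0], by simp [Matrix.det_fin_two]⟩, rfl⟩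
    refine ⟨proj g, ⟨Subgroup.mem_top _, ?_⟩, ?_⟩
    · rw [proj_mem_BP_iff, hg]; simp
    · rw [slope_proj, hg]; simp
  rw [hs, Nat.card_congr (Equiv.Set.univ F), Nat.card_eq_fintype_card] at h
  rw [← h, ← Subgroup.relIndex_top_right]
  rfl

/-- The triangular group has order `q (q - 1) / d`. -/
theorem card_BP : Nat.gcd 2 (Fintype.card F - 1) * Nat.card (BP (F := F)) =
    Fintype.card F * (Fintype.card F - 1) := by
  have h := (BP (F := F)).card_mul_index
  rw [index_BP] at h
  have h2 := card_PSL_formula F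
  rw [← h, ← mul_assoc] at h2
  exact Nat.eq_of_mul_eq_mul_right (by omega) h2

theorem card_PSL_pos : 0 < Nat.card PSL(2, F) := Nat.card_pos

variable {F}

theorem InBorel.card_dvd {H : Subgroup PSL(2, F)} (h : InBorel H) :
    Nat.card H ∣ Nat.card (BP (F := F)) := by
  obtain ⟨a, ha⟩ := h
  rw [← card_conjS a H]
  exact Subgroup.card_dvd_of_le ha

theorem card_normalizer_torus {x : PSL(2, F)} (hx : IsTor x) :
    Nat.card (Subgroup.normalizer (torus x : Set PSL(2, F))) = 2 * Nat.card (torus x) ∧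
      Nonempty (Subgroup.normalizer (torus x : Set PSL(2, F)) ≃*
        DihedralGroup (Nat.card (torus x))) := by
  set N := Subgroup.normalizer (torus x : Set PSL(2, F)) with hN
  obtain ⟨g, rfl, hg⟩ := hx
  obtain ⟨n, hn⟩ := SL2Tori.exists_inverting (g := g) hg
  have hgx : IsTor (proj g) := isTor_proj.2 hg
  have hnN : proj n ∈ N := by
    rw [hN, mem_normalizer_torus_iff hgx, ← proj_inv, ← proj_mul, ← proj_mul, hn, proj_inv]
    exact inv_mem (self_mem_torus _)
  have hnT : proj n ∉ torus (proj g) := by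
    rw [proj_mem_torus_iff]
    intro e
    rw [e, mul_inv_cancel_right] at hn
    exact SL2Tori.inv_ne_self hg hn.symm
  obtain ⟨k, -, h | ⟨h1, h2⟩⟩ := cyclic_or_dihedral hgx (le_of_eq hN)
  · exact absurd (h.1 hnN) hnT
  · have hk : k = Nat.card (torus (proj g)) := by
      obtain ⟨hn2, hinv⟩ := (mem_or_inverts hgx ((mem_normalizer_torus_iff hgx).1 hnN)).resolve_left hnT
      have hle : torus (proj g) ≤ N := Subgroup.le_normalizer
      have hlt : 2 * Nat.card (torus (proj g)) ≤ Nat.card N := by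
        rw [two_mul, ← Nat.card_sum]
        refine Nat.card_le_card_of_injective
          (Sum.elim (fun c => ⟨c.1, hle c.2⟩) (fun c => ⟨proj n * c.1, mul_mem hnN (hle c.2)⟩)) ?_
        rintro (⟨a, ha⟩ | ⟨a, ha⟩) (⟨b, hb⟩ | ⟨b, hb⟩) e <;>
          simp only [Sum.elim_inl, Sum.elim_inr, Subtype.mk.injEq] at e
        · subst e; rfl
        · exact absurd (by rw [show proj n = a * b⁻¹ by rw [e]; group]; exact mul_mem ha (inv_mem hb)) hnT
        · exact absurd (by rw [show proj n = b * a⁻¹ by rw [← e]; group]; exact mul_mem hb (inv_mem ha)) hnT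
        · obtain rfl := mul_left_cancel e
          rfl
      have hup : Nat.card N ≤ 2 * Nat.card (torus (proj g)) := by
        obtain ⟨k', hk', h | h⟩ := cyclic_or_dihedral hgx (le_of_eq hN)
        · exact absurd (h.1 hnN) hnT
        · rw [h.1]
          exact Nat.mul_le_mul_left 2 (Nat.le_of_dvd Nat.card_pos hk')
      omega
    subst hk
    exact ⟨h1, h2⟩

theorem InTorusNormalizer.card_le {H : Subgroup PSL(2, F)} (h : InTorusNormalizer H) :
    Nat.gcd 2 (Fintype.card F - 1) * Nat.card H ≤ 2 * (Fintype.card F + 1) := by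
  obtain ⟨x, hx, hle⟩ := h
  have h1 := Subgroup.card_le_of_le hle
  rw [(card_normalizer_torus hx).1] at h1
  have h2 := Nat.mul_le_mul_left (Nat.gcd 2 (Fintype.card F - 1)) h1
  rw [mul_left_comm] at h2
  rcases card_torus hx with e | e <;> rw [e] at h2 <;> omega

variable (F)

/-- A torus of order `(q + 1) / d`. -/
theorem exists_torus_plus : ∃ x : PSL(2, F), IsTor x ∧
    Nat.gcd 2 (Fintype.card F - 1) * Nat.card (torus x) = Fintype.card F + 1 ∧
    (∀ a : PSL(2, F), a * x * a⁻¹ ∉ BP) := by
  obtain ⟨g, hg, hno⟩ := SL2Tori.exists_nonsplit (F := F)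
  have hgx : IsTor (proj g) := isTor_proj.2 hg
  refine ⟨proj g, hgx, ?_, fun a ha => ?_⟩
  · rw [card_torus_mul, SL2Tori.card_centralizer_nonsplit hg hno]
  · obtain ⟨A, rfl⟩ := proj_surjective a
    rw [← proj_inv, ← proj_mul, ← proj_mul, proj_mem_BP_iff] at ha
    set g' := A * g * A⁻¹ with hg'
    have ht : SL2Tori.tr g' = SL2Tori.tr g := tr_conj g A
    have hd := diag_mul ha
    rw [SL2Tori.tr, Matrix.trace_fin_two] at ht
    refine hno (-g'.1 0 0) ?_
    rw [← ht]
    linear_combination -hd

/-- A torus of order `(q - 1) / d` inside the triangular group. -/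
theorem exists_torus_minus (h : 4 ≤ Fintype.card F) : ∃ x : PSL(2, F), IsTor x ∧ x ∈ BP ∧
    Nat.gcd 2 (Fintype.card F - 1) * Nat.card (torus x) = Fintype.card F - 1 := by
  classical
  obtain ⟨a, ha⟩ : ∃ a : F, a ∉ ({0, 1, -1} : Finset F) := by
    by_contra hcon
    push Not at hcon
    have := (Finset.card_le_card (fun a _ => hcon a : (Finset.univ : Finset F) ⊆ _)).trans
      Finset.card_le_three
    rw [Finset.card_univ] at this
    omega
  simp only [Finset.mem_insert, Finset.mem_singleton, not_or] at ha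
  let g : SL(2, F) := ⟨!![a, 0; 0, a⁻¹], by simp [Matrix.det_fin_two, ha.1]⟩
  have hg : g.1 = !![a, 0; 0, a⁻¹] := rfl
  have hB : proj g ∈ BP := (proj_mem_BP_iff g).2 (by simp [hg])
  have hchi : chi (proj g) ≠ 1 := by
    rw [chi_proj, hg]
    simp
    exact ⟨ha.2.1, ha.2.2⟩
  have hx : IsTor (proj g) := isTor_of_chi_ne_one hB hchi
  refine ⟨proj g, hx, hB, ?_⟩
  rcases card_torus hx with e | e
  · exact e
  · exfalso
    have hle : torus (proj g) ≤ BP := fun y hy => torus_le_BP hx hB hy
    have h1 : Nat.card (torus (proj g)) ∣ Nat.card (BP (F := F)) := Subgroup.card_dvd_of_le hle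
    have h2 : Fintype.card F + 1 ∣ Fintype.card F * (Fintype.card F - 1) := by
      rw [← card_BP, ← e]
      exact Nat.mul_dvd_mul_left _ h1
    have h3 : Fintype.card F + 1 ∣ Fintype.card F - 1 :=
      (Nat.Coprime.symm (by simp)).dvd_of_dvd_mul_left h2
    have := Nat.le_of_dvd (by omega) h3
    omega

theorem isSolvable_BP : Group.IsSolvable (BP (F := F)) := by
  let f : BP (F := F) →* Fˣ :=
    { toFun := fun b => Units.mk0 (chi (b : PSL(2, F))) (chi_ne_zero b.2)
      map_one' := Units.ext (by simp [chi_one])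
      map_mul' := fun a b => Units.ext (by simpa using chi_mul (a : PSL(2, F)) b.2) }
  have hf : ∀ b : f.ker, ∃ w, u w = ((b : BP (F := F)) : PSL(2, F)) := fun b => by
    obtain ⟨w, hw⟩ := eq_u_of_chi_eq_one b.1.2 (congrArg Units.val (MonoidHom.mem_ker.1 b.2))
    exact ⟨w, hw.symm⟩
  have : Group.IsSolvable f.ker := Group.isSolvable_of_comm fun a b => by
    obtain ⟨v, hv⟩ := hf a
    obtain ⟨w, hw⟩ := hf b
    refine Subtype.ext (Subtype.ext ?_)
    simp only [Subgroup.coe_mul]
    rw [← hv, ← hw, ← u_add, ← u_add, add_comm]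
  exact Group.isSolvable_of_ker_le_range f.ker.subtype f (by simp)

variable {F}

theorem InBorel.isSolvable {H : Subgroup PSL(2, F)} (h : InBorel H) : Group.IsSolvable H := by
  obtain ⟨a, ha⟩ := h
  have := isSolvable_BP F
  obtain ⟨e⟩ := nonempty_equiv_conjS a H
  exact Group.isSolvable_of_isSolvable_injective (f := (Subgroup.inclusion ha).comp e.toMonoidHom)
    ((Subgroup.inclusion_injective ha).comp e.injective)

theorem isSolvable_dihedral (k : ℕ) : Group.IsSolvable (DihedralGroup k) := by
  let f : DihedralGroup k →* ℤˣ :=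
    MonoidHom.mk' (fun | .r _ => 1 | .sr _ => -1) (by rintro (i | i) (j | j) <;> simp)
  have : Group.IsSolvable f.ker := Group.isSolvable_of_comm fun a b => by
    obtain ⟨a | a, ha⟩ := a
    · obtain ⟨b | b, hb⟩ := b
      · exact Subtype.ext (by simp [add_comm])
      · simp [f] at hb
    · simp [f] at ha
  exact Group.isSolvable_of_ker_le_range f.ker.subtype f (by simp)

theorem InTorusNormalizer.isSolvable {H : Subgroup PSL(2, F)} (h : InTorusNormalizer H) :
    Group.IsSolvable H := by
  obtain ⟨x, hx, hle⟩ := h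
  obtain ⟨k, -, ⟨hT, hc, -⟩ | ⟨-, ⟨e⟩⟩⟩ := cyclic_or_dihedral hx hle
  · exact Group.isSolvable_of_comm fun a b => Subtype.ext (torus_comm hx (hT a.2) (hT b.2))
  · have : Group.IsSolvable (DihedralGroup k) := isSolvable_dihedral k
    exact Group.isSolvable_of_isSolvable_injective (f := e.toMonoidHom) e.injective

theorem isSolvable_of_card_twelve {H : Subgroup PSL(2, F)}
    (h : Nat.card H = 12 ∨ Nat.card H = 24) : Group.IsSolvable H := by
  rcases h with h | h
  · exact CfsgLib.Characters.isSolvable_of_card_eq_primePow_mul 2 3 2 1 Nat.prime_two Nat.prime_three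
      (by rw [h]; norm_num)
  · exact CfsgLib.Characters.isSolvable_of_card_eq_primePow_mul 2 3 3 1 Nat.prime_two Nat.prime_three
      (by rw [h]; norm_num)

end CfsgLib.DicksonPSL2
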