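import Cfsg.Agent.DicksonPSL2.BinaryCriterion
import Cfsg.Agent.DicksonPSL2.InvolutionGraph
import Cfsg.Agent.DicksonPSL2.ElementOrders
import Cfsg.Agent.DicksonPSL2.Orders
import Cfsg.Agent.Linear.Perfect

/-!
# Triangle-free subgroups of `PSL(2, q)` and binary coset actions

A proper non-trivial TI subgroup of `PSL(2, q)` without triangle is the unipotent group for even
`q`, or of order three for `q ≡ 2 (mod 3)` even.
-/

set_option autoImplicit false
set_option linter.unusedSectionVars false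

namespace CfsgLib.DicksonPSL2.Binary

open Matrix CfsgLib.SL2Trace CfsgLib.DicksonPSL2
open CfsgLib.SL2Tori (tr)
open CfsgLib.DicksonPSL2.InvolutionGraph (tr_eq tr_mul)
open scoped MatrixGroups

variable {F : Type*} [Field F] [Fintype F]

/-- Trace `±1` gives order dividing three. -/
theorem proj_cube {X : SL(2, F)} (h : tr X ^ 2 = 1) : proj X ^ 3 = 1 := by
  have hc := cayley X (tr X) rfl
  have h3 : (X.1) ^ 3 = (-tr X) • (1 : Matrix (Fin 2) (Fin 2) F) := by
    have e2 : X.1 ^ 2 = tr X • X.1 - 1 := by rw [← sub_eq_zero, ← hc]; abel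
    rw [pow_succ, e2, sub_mul, smul_mul_assoc, one_mul, ← pow_two, e2, smul_sub, smul_smul,
      ← pow_two, h, one_smul, neg_smul]
    abel
  show proj (X ^ 3) = 1
  rw [proj_eq_one_iff]
  exact InvolutionGraph.scalar_eq_one_or (c := -tr X) (by rw [Matrix.SpecialLinearGroup.coe_pow, h3])

theorem tr_sq_eq_one {X : SL(2, F)} (h3 : proj X ^ 3 = 1) (h1 : proj X ≠ 1) : tr X ^ 2 = 1 := by
  by_contra ht
  have hc := cayley X (tr X) rfl
  have h3' : proj (X ^ 3) = 1 := h3
  obtain ⟨c, hc3⟩ : ∃ c : F, X.1 ^ 3 = c • (1 : Matrix (Fin 2) (Fin 2) F) := by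
    rcases (proj_eq_one_iff _).1 h3' with e | e
    · exact ⟨1, by rw [← Matrix.SpecialLinearGroup.coe_pow, e]; simp⟩
    · exact ⟨-1, by rw [← Matrix.SpecialLinearGroup.coe_pow, e]; simp⟩
  have e2 : X.1 ^ 2 = tr X • X.1 - 1 := by rw [← sub_eq_zero, ← hc]; abel
  rw [pow_succ, e2, sub_mul, smul_mul_assoc, one_mul, ← pow_two, e2, smul_sub, smul_smul,
    ← pow_two] at hc3
  have h0 : tr X ^ 2 - 1 ≠ 0 := sub_ne_zero.2 ht
  have : X.1 = ((c + tr X) / (tr X ^ 2 - 1)) • (1 : Matrix (Fin 2) (Fin 2) F) := by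
    have e : (tr X ^ 2 - 1) • X.1 = (c + tr X) • (1 : Matrix (Fin 2) (Fin 2) F) := by
      rw [add_smul, ← hc3, sub_smul, one_smul]; abel
    rw [div_eq_inv_mul, mul_smul, ← e, smul_smul, inv_mul_cancel₀ h0, one_smul]
  exact h1 ((proj_eq_one_iff _).2 (InvolutionGraph.scalar_eq_one_or this))

/-- The order three trick. -/
theorem Good.conj_mem {P : Subgroup PSL(2, F)} (hP : Good P) {x g : PSL(2, F)} (hx : x ∈ P)
    (hx1 : x ≠ 1) (hg : g ^ 3 = 1) (hxg : (x * g) ^ 3 = 1) : g * x * g⁻¹ ∈ P := by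
  refine hP.nt x hx hx1 g g⁻¹ _ (mem_conjS.2 (by simpa [mul_assoc] using hx)) ?_
  have e2 : (x * g) ^ 2 = (x * g)⁻¹ := eq_inv_of_mul_eq_one_left (by rw [← pow_succ]; exact hxg)
  have e : g⁻¹ = g ^ 2 := (eq_inv_of_mul_eq_one_left (by rw [← pow_succ]; exact hg)).symm
  have : x * (g * x * g⁻¹) = g⁻¹ * x⁻¹ * g := by
    rw [show g⁻¹ * x⁻¹ = (x * g)⁻¹ by group, ← e2, e, pow_two, pow_two]; group
  rw [this, mem_conjS]
  simpa [mul_assoc] using inv_mem hx

theorem exists_order_three {G : SL(2, F)} (hG : proj G ≠ 1) (τ t s : F) (hτ : tr G = τ)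
    (ht : t ^ 2 = 1) (hs : s ^ 2 = 1)
    (h : τ ^ 2 ≠ 4 ∨ (∃ ε : F, ε ^ 2 = 1 ∧ τ = 2 * ε ∧ s ≠ ε * t)) :
    ∃ X : SL(2, F), tr X = t ∧ tr (X⁻¹ * G) = s ∧ (proj X)⁻¹ ^ 3 = 1 ∧
      (proj G * (proj X)⁻¹) ^ 3 = 1 := by
  obtain ⟨X, h1, h2⟩ := exists_pair G (nonScalar_of_proj_ne_one hG) τ t s hτ
    (h.elim Or.inl fun h => Or.inr (Or.inl h))
  have h1' : tr X = t := h1
  have h2' : tr (X⁻¹ * G) = s := h2
  refine ⟨X, h1', h2', ?_, ?_⟩
  · rw [inv_pow, proj_cube (by rw [h1', ht]), inv_one]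
  · rw [← proj_inv, ← proj_mul]
    refine proj_cube ?_
    rw [show tr (G * X⁻¹) = tr (X⁻¹ * G) by
      rw [tr, tr, Matrix.SpecialLinearGroup.coe_mul, Matrix.SpecialLinearGroup.coe_mul,
        Matrix.trace_mul_comm], h2', hs]

theorem card_conjS_odd {P : Subgroup PSL(2, F)} (h : Odd (Nat.card P)) (a : PSL(2, F)) :
    Odd (Nat.card (conjS a P)) := by rwa [card_conjS]

theorem eq_one_of_sq {P : Subgroup PSL(2, F)} (h : Odd (Nat.card P)) {y : PSL(2, F)} (hy : y ∈ P)
    (h2 : y * y = 1) : y = 1 := by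
  have h1 : orderOf y ∣ 2 := orderOf_dvd_of_pow_eq_one (by rw [pow_two, h2])
  have h3 : orderOf y ∣ Nat.card P := Subgroup.orderOf_dvd_natCard _ hy
  rcases (Nat.dvd_prime Nat.prime_two).1 h1 with e | e
  · exact orderOf_eq_one_iff.1 e
  · rw [e] at h3
    exact absurd (even_iff_two_dvd.2 h3) (Nat.not_even_iff_odd.2 h)

/-- Subgroups of odd order fix a point or normalise a torus. -/
theorem odd_cases {P : Subgroup PSL(2, F)} (hne : P ≠ ⊤) (hodd : Odd (Nat.card P)) :
    InBorel P ∨ InTorusNormalizer P := by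
  obtain ⟨p, hp⟩ := CharP.exists F
  haveI : Fact p.Prime := ⟨CharP.char_is_prime F p⟩
  rcases subgroup_cases_sharp p P with h | h | ⟨h, -⟩ | ⟨h, -⟩ | ⟨h, -⟩ | h
  · exact Or.inl h
  · exact Or.inr h
  all_goals try (rw [h] at hodd; exact absurd hodd (by decide))
  obtain ⟨Q, m, hQ, hm, -, hc⟩ := h.card_cases
  have heven : Even (Q * (Q - 1) * (Q + 1)) := by
    rcases Nat.even_or_odd Q with he | ho
    · exact (he.mul_right _).mul_right _
    · exact (ho.add_one).mul_left _
  exfalso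
  rcases hc with hc | ⟨-, -, hc⟩
  · rcases Nat.even_or_odd Q with he | ho
    · have : Nat.gcd 2 (Q - 1) = 1 :=
        (Nat.prime_two.coprime_iff_not_dvd).2 fun hd => by
          rw [← even_iff_two_dvd] at hd
          rcases he with ⟨a, ha⟩
          rcases hd with ⟨b, hb⟩
          omega
      rw [this, one_mul] at hc
      exact Nat.not_even_iff_odd.2 hodd (hc ▸ heven)
    · obtain ⟨k, rfl⟩ := ho
      have : Nat.gcd 2 (2 * k + 1 - 1) = 2 := Nat.gcd_eq_left (by omega)
      rw [this] at hc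
      have h4 : 4 ∣ (2 * k + 1) * (2 * k + 1 - 1) * (2 * k + 1 + 1) :=
        ⟨(2 * k + 1) * k * (k + 1), by rw [Nat.add_sub_cancel]; ring⟩
      rw [← hc] at h4
      obtain ⟨j, hj⟩ := hodd
      omega
  · exact Nat.not_even_iff_odd.2 hodd (hc ▸ heven)

/-- A subgroup of odd order of semisimple elements lies in a torus. -/
theorem le_torus_of_odd {P : Subgroup PSL(2, F)} (hne : P ≠ ⊤) (hodd : Odd (Nat.card P))
    (htor : ∀ x ∈ P, x ≠ 1 → IsTor x) {x : PSL(2, F)} (hx : x ∈ P) (hx1 : x ≠ 1) : P ≤ torus x := by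
  intro y hy
  rcases odd_cases hne hodd with hB | ⟨z, hz, hle⟩
  · obtain ⟨a, ha⟩ := hB
    have hm : ∀ v ∈ P, a * v * a⁻¹ ∈ BP := fun v hv =>
      ha (mem_conjS.2 (by simpa [mul_assoc] using hv))
    have hcP : y * x * y⁻¹ * x⁻¹ ∈ P := mul_mem (mul_mem (mul_mem hy hx) (inv_mem hy)) (inv_mem hx)
    have hchi : chi (a * (y * x * y⁻¹ * x⁻¹) * a⁻¹) = 1 := by
      have hy' := hm y hy
      have hx' := hm x hx
      have i1 : chi (a * y * a⁻¹) * chi (a * y⁻¹ * a⁻¹) = 1 := by
        rw [← chi_mul _ (hm _ (inv_mem hy)), show a * y * a⁻¹ * (a * y⁻¹ * a⁻¹) = 1 by group, chi_one]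
      have i2 : chi (a * x * a⁻¹) * chi (a * x⁻¹ * a⁻¹) = 1 := by
        rw [← chi_mul _ (hm _ (inv_mem hx)), show a * x * a⁻¹ * (a * x⁻¹ * a⁻¹) = 1 by group, chi_one]
      rw [show a * (y * x * y⁻¹ * x⁻¹) * a⁻¹ =
        (a * y * a⁻¹) * (a * x * a⁻¹) * (a * y⁻¹ * a⁻¹) * (a * x⁻¹ * a⁻¹) by group,
        chi_mul _ (hm _ (inv_mem hx)), chi_mul _ (hm _ (inv_mem hy)), chi_mul _ hx']
      linear_combination (chi (a * x * a⁻¹) * chi (a * x⁻¹ * a⁻¹)) * i1 + i2
    obtain ⟨v, hv⟩ := eq_u_of_chi_eq_one (hm _ hcP) hchi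
    have hc1 : y * x * y⁻¹ * x⁻¹ = 1 := by
      by_contra hne'
      have := (isTor_conj_iff a _).2 (htor _ hcP hne')
      rw [hv] at this
      exact not_isTor_u v this
    have hcomm : y * x * y⁻¹ = x := mul_inv_eq_one.1 hc1
    rcases mem_or_inverts (htor x hx hx1) (n := y) (by rw [hcomm]; exact self_mem_torus x) with h | ⟨h, -⟩
    · exact h
    · rw [eq_one_of_sq hodd hy h]; exact one_mem _
  · have hT : ∀ v ∈ P, v ∈ torus z := by
      intro v hv
      rcases mem_or_inverts hz ((mem_normalizer_torus_iff hz).1 (hle hv)) with h | ⟨h, -⟩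
      · exact h
      · rw [eq_one_of_sq hodd hv h]; exact one_mem _
    rw [(isTor_of_mem_torus hz (hT x hx) hx1).2]
    exact hT y hy

theorem mem_torus_of_conj {x g : PSL(2, F)} (hx : IsTor x) (h3 : g ^ 3 = 1)
    (h : g * x * g⁻¹ ∈ torus x) : g ∈ torus x := by
  rcases mem_or_inverts hx h with h' | ⟨h', -⟩
  · exact h'
  · have : g = 1 := by
      rw [pow_succ, pow_two, h', one_mul] at h3; exact h3
    rw [this]; exact one_mem _

theorem card_cube_roots {x : PSL(2, F)} (hx : IsTor x) {g : PSL(2, F)} (h3 : g ^ 3 = 1)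
    (hg : g ∈ torus x) (hx3 : x ^ 3 = 1) : g = 1 ∨ g = x ∨ g = x⁻¹ := by
  classical
  have := isCyclic_torus hx
  have hx1 := ne_one_of_isTor hx
  by_contra h
  simp only [not_or] at h
  have hle := IsCyclic.card_pow_eq_one_le (α := torus x) (n := 3) (by norm_num)
  have hsub : ({1, ⟨x, self_mem_torus x⟩, ⟨x⁻¹, inv_mem (self_mem_torus x)⟩, ⟨g, hg⟩} :
      Finset (torus x)) ⊆ Finset.univ.filter fun a => a ^ 3 = 1 := by
    intro a ha
    simp only [Finset.mem_insert, Finset.mem_singleton] at ha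
    rw [Finset.mem_filter]
    refine ⟨Finset.mem_univ _, Subtype.ext ?_⟩
    rcases ha with rfl | rfl | rfl | rfl <;> simp [hx3, h3]
  have hxi : x ≠ x⁻¹ := fun e => hx1 (by
    have : x * x = 1 := by rw [eq_inv_iff_mul_eq_one] at e; exact e
    rw [pow_succ, pow_two, this, one_mul] at hx3; exact hx3)
  have h4 : ({1, ⟨x, self_mem_torus x⟩, ⟨x⁻¹, inv_mem (self_mem_torus x)⟩, ⟨g, hg⟩} :
      Finset (torus x)).card = 4 := by
    rw [Finset.card_insert_of_notMem, Finset.card_insert_of_notMem, Finset.card_insert_of_notMem,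
      Finset.card_singleton]
    · simp [Subtype.ext_iff, Ne.symm h.2.2]
    · simp [Subtype.ext_iff, hxi, Ne.symm h.2.1]
    · simp [Subtype.ext_iff, hx1, Ne.symm hx1, Ne.symm h.1]
  have := Finset.card_le_card hsub
  omega

theorem exists_cube_root_of_unity (hq : Fintype.card F % 3 = 1) :
    ∃ w : F, w ^ 2 + w + 1 = 0 := by
  classical
  haveI := Fact.mk Nat.prime_three
  have h3 : 3 ∣ Fintype.card Fˣ := by rw [Fintype.card_units]; omega
  obtain ⟨w, hw⟩ := exists_prime_orderOf_dvd_card 3 h3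
  have hw3 : (w : F) ^ 3 = 1 := by
    rw [← Units.val_pow_eq_pow_val, ← hw, pow_orderOf_eq_one, Units.val_one]
  have hw1 : (w : F) ≠ 1 := fun e => by
    rw [Units.val_eq_one] at e; rw [e, orderOf_one] at hw; omega
  refine ⟨w, (mul_eq_zero.1 (show ((w : F) - 1) * ((w : F) ^ 2 + w + 1) = 0 by
    linear_combination hw3)).resolve_left (sub_ne_zero.2 hw1)⟩

theorem even_card_iff : Fintype.card F % 2 = 0 ↔ (2 : F) = 0 := by
  constructor
  · intro h
    have := FiniteField.even_card_iff_char_two.2 h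
    haveI := ringChar.of_eq this
    exact_mod_cast CharP.cast_eq_zero F 2
  · intro h
    haveI : CharP F 2 := CharTwo.of_one_ne_zero_of_two_eq_zero one_ne_zero h
    rw [← FiniteField.even_card_iff_char_two, ringChar.eq F 2]

/-- The explicit element for three dividing `q - 1`, `q` even. -/
theorem false_of_card_three_split {P : Subgroup PSL(2, F)} (hP : Good P) (hne : P ≠ ⊤)
    (hodd : Odd (Nat.card P)) (htor : ∀ x ∈ P, x ≠ 1 → IsTor x) (h2 : (2 : F) = 0) {w : F}
    (hw : w ^ 2 + w + 1 = 0) {D : SL(2, F)} (hD : D.1 = !![w, 0; 0, w ^ 2]) (hx : proj D ∈ P) :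
    False := by
  let X : SL(2, F) := ⟨!![w ^ 2, 1; 0, w],
    by rw [Matrix.det_fin_two_of]; linear_combination (w - 1) * hw⟩
  have hX : X.1 = !![w ^ 2, 1; 0, w] := rfl
  have hDX : tr D = 1 := by rw [tr_eq, hD]; simp; linear_combination hw - h2
  have hD1 : proj D ≠ 1 := fun e => by
    rcases (proj_eq_one_iff _).1 e with rfl | rfl <;> rw [tr_eq] at hDX <;> simp at hDX <;>
      exact one_ne_zero (show (1 : F) = 0 by first | linear_combination hDX | linear_combination -h2 - hDX)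
  have t1 : tr X = 1 := by rw [tr_eq, hX]; simp; linear_combination hw - h2
  have t2 : tr (D * X⁻¹) = 1 := by
    rw [tr_mul, Matrix.SpecialLinearGroup.coe_inv, hX, Matrix.adjugate_fin_two_of, hD]
    simp
    linear_combination (w ^ 2 - w + 1) * hw - h2
  have hg : (proj X)⁻¹ ^ 3 = 1 := by rw [inv_pow, proj_cube (by rw [t1, one_pow]), inv_one]
  have hxg : (proj D * (proj X)⁻¹) ^ 3 = 1 := by
    rw [← proj_inv, ← proj_mul]; exact proj_cube (by rw [t2, one_pow])
  have hT : IsTor (proj D) := htor _ hx hD1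
  have hgT := mem_torus_of_conj hT hg
    (le_torus_of_odd hne hodd htor hx hD1 (hP.conj_mem hx hD1 hg hxg))
  have hc := (proj_mem_torus_iff D X).1 (by simpa using inv_mem hgT)
  have hc' := congrArg (fun g : SL(2, F) => g.1 0 1) hc
  simp [Matrix.mul_apply, hX, hD] at hc'
  have : w = 1 := by
    have : (w - 1) * w = 0 := by first | linear_combination hc' | linear_combination -hc'
    exact sub_eq_zero.1 ((mul_eq_zero.1 this).resolve_right fun e => by
      rw [e] at hw; simp at hw)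
  rw [this] at hw
  exact one_ne_zero (show (1 : F) = 0 by linear_combination hw - h2)

/-- Triangle-free TI subgroups of odd order. -/
theorem odd_order_case (h4 : 4 ≤ Fintype.card F) {P : Subgroup PSL(2, F)} (hP : Good P)
    (h1 : P ≠ ⊥) (hne : P ≠ ⊤) (hodd : Odd (Nat.card P)) :
    Fintype.card F % 2 = 0 ∧ Fintype.card F % 3 = 2 ∧ Nat.card P = 3 := by
  by_cases hu : ∃ x ∈ P, x ≠ 1 ∧ ¬ IsTor x
  · exfalso
    obtain ⟨x, hx, hx1, hnt⟩ := hu
    have h2 : (2 : F) ≠ 0 := by
      intro h2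
      haveI : CharP F 2 := CharTwo.of_one_ne_zero_of_two_eq_zero one_ne_zero h2
      haveI := Fact.mk Nat.prime_two
      rw [isTor_iff_pow 2, not_not] at hnt
      exact hx1 (eq_one_of_sq hodd hx (by rw [← pow_two]; exact hnt))
    rcases odd_cases hne hodd with ⟨a, ha⟩ | ⟨z, hz, hle⟩
    · have hx' : a * x * a⁻¹ ∈ conjS a P := mem_conjS.2 (by simpa [mul_assoc] using hx)
      have hne1 : a * x * a⁻¹ ≠ 1 := by rwa [Ne, conj_eq_one_iff]
      have hchi : chi (a * x * a⁻¹) = 1 := by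
        by_contra h
        exact hnt ((isTor_conj_iff a x).1 (isTor_of_chi_ne_one (ha hx') h))
      obtain ⟨w, hw⟩ := eq_u_of_chi_eq_one (ha hx') hchi
      rw [hw] at hx' hne1
      have hw0 : w ≠ 0 := fun e => hne1 (e ▸ u_zero)
      have hτ : tr (upSL w) = 2 := by rw [tr_eq, coe_upSL]; simp; norm_num
      obtain ⟨X, t1, t2, g3, xg3⟩ := exists_order_three (G := upSL w) hne1 2 1 (-1) hτ (one_pow 2)
        (by ring) (Or.inr ⟨1, one_pow 2, (mul_one 2).symm, fun e => h2 (by linear_combination -e)⟩)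
      have hB := ha ((hP.conj a).conj_mem hx' hne1 g3 xg3)
      rw [u, inv_inv, ← proj_inv, ← proj_mul, ← proj_mul, proj_mem_BP_iff] at hB
      simp [Matrix.mul_apply, Matrix.SpecialLinearGroup.coe_inv, Matrix.adjugate_fin_two, coe_upSL,
        Fin.sum_univ_two] at hB
      have hc : X.1 1 0 = 0 := by
        have : X.1 1 0 * X.1 1 0 * w = 0 := by first | linear_combination hB | linear_combination -hB
        simpa [hw0] using this
      have hd := diag_mul hc
      rw [tr_eq] at t1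
      rw [tr_mul, Matrix.SpecialLinearGroup.coe_inv, Matrix.adjugate_fin_two, coe_upSL] at t2
      simp [hc] at t2
      exact h2 (by linear_combination t2 - t1)
    · rcases mem_or_inverts hz ((mem_normalizer_torus_iff hz).1 (hle hx)) with h | ⟨h, -⟩
      · exact hnt (isTor_of_mem_torus hz h hx1).1
      · exact hx1 (eq_one_of_sq hodd hx h)
  simp only [not_exists, not_and, not_not] at hu
  have hle := fun {x : PSL(2, F)} (hx : x ∈ P) (hx1 : x ≠ 1) => le_torus_of_odd hne hodd hu hx hx1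
  have hcube : ∀ x ∈ P, x ^ 3 = 1 := by
    intro x hx
    by_cases hx1 : x = 1
    · simp [hx1]
    obtain ⟨G, rfl⟩ := proj_surjective x
    have hT := hu _ hx hx1
    obtain ⟨X, t1, t2, g3, xg3⟩ := exists_order_three hx1 (tr G) 1 1 rfl (one_pow 2) (one_pow 2)
      (Or.inl (isTor_proj.1 hT))
    have hgT := mem_torus_of_conj hT g3 (hle hx hx1 (hP.conj_mem hx hx1 g3 xg3))
    rw [(show Commute (proj G) (proj X)⁻¹ from
      torus_comm hT (self_mem_torus _) hgT).mul_pow, g3, mul_one] at xg3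
    exact xg3
  obtain ⟨x, hx, hx1⟩ := (Subgroup.bot_or_exists_ne_one P).resolve_left h1
  have hT := hu x hx hx1
  have hcard : Nat.card P = 3 := by
    have hsub : ∀ y ∈ P, y ∈ Subgroup.zpowers x := fun y hy => by
      rcases card_cube_roots hT (hcube y hy) (hle hx hx1 hy) (hcube x hx) with rfl | rfl | rfl
      · exact one_mem _
      · exact Subgroup.mem_zpowers _
      · exact inv_mem (Subgroup.mem_zpowers _)
    have hP' : P = Subgroup.zpowers x :=
      le_antisymm hsub ((Subgroup.zpowers_le).2 hx)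
    haveI := Fact.mk Nat.prime_three
    rw [hP', Nat.card_zpowers, orderOf_eq_prime (hcube x hx) hx1]
  obtain ⟨p, hp⟩ := CharP.exists F
  haveI : Fact p.Prime := ⟨CharP.char_is_prime F p⟩
  have hp3 : p ≠ 3 := by
    rintro rfl
    exact (isTor_iff_pow 3 x).1 hT (hcube x hx)
  obtain ⟨G, rfl⟩ := proj_surjective x
  wlog hτ : tr G = 1 generalizing G
  · refine this (-G) (by rwa [proj_neg]) (by rwa [proj_neg]) (by rwa [proj_neg]) ?_
    rw [tr_neg]
    rcases sq_eq_one_iff.1 (tr_sq_eq_one (hcube _ hx) hx1) with e | e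
    · exact absurd e hτ
    · rw [e, neg_neg]
  have hq3 : Fintype.card F % 3 ≠ 0 := by
    obtain ⟨n, hpn, hn⟩ := FiniteField.card F p
    rw [hn]
    intro h
    exact hp3 ((Nat.prime_dvd_prime_iff_eq Nat.prime_three hpn).1
      (Nat.prime_three.dvd_of_dvd_pow (Nat.dvd_of_mod_eq_zero h))).symm
  by_cases hev : Fintype.card F % 2 = 0
  · refine ⟨hev, ?_, hcard⟩
    by_contra h32
    have h2 := even_card_iff.1 hev
    obtain ⟨w, hw⟩ := exists_cube_root_of_unity (F := F) (by omega)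
    let D : SL(2, F) := ⟨!![w, 0; 0, w ^ 2],
      by rw [Matrix.det_fin_two_of]; linear_combination (w - 1) * hw⟩
    have hD : tr D = 1 := by rw [tr_eq]; simp [D]; linear_combination hw - h2
    obtain ⟨c, hc⟩ := isConj_iff.1 (isConj_proj_of_trace G D
      (show tr D ^ 2 ≠ 4 by rw [hD]; intro e; exact one_ne_zero (show (1 : F) = 0 by linear_combination e + 2 * h2))
      (Or.inl (hτ.trans hD.symm)))
    refine false_of_card_three_split (hP.conj c) ?_ (card_conjS_odd hodd c) ?_ h2 hw (D := D) rfl ?_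
    · intro e
      have := card_conjS c P
      rw [e, Subgroup.card_top] at this
      exact hne (Subgroup.eq_top_of_card_eq _ this.symm)
    · intro y hy hy1
      have := hu _ (mem_conjS.1 hy) (fun e => hy1 (by
        simpa [mul_assoc] using congrArg (fun z => c * z * c⁻¹) e))
      have h' := (isTor_conj_iff c _).2 this
      simpa [mul_assoc] using h'
    · rw [← hc, mem_conjS]; simpa [mul_assoc] using hx
  · exfalso
    have h2 : (2 : F) ≠ 0 := fun h => hev (even_card_iff.2 h)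
    have h3 : (3 : F) ≠ 0 := fun h => hp3
      ((Nat.prime_dvd_prime_iff_eq Fact.out Nat.prime_three).1
        ((CharP.cast_eq_zero_iff F p 3).1 (by exact_mod_cast h)))
    obtain ⟨X, t1, t2, g3, xg3⟩ := exists_order_three hx1 1 1 1 hτ (one_pow 2) (one_pow 2)
      (Or.inl fun e => h3 (by linear_combination -e))
    have hgT := mem_torus_of_conj hT g3 (hle hx hx1 (hP.conj_mem hx hx1 g3 xg3))
    rcases card_cube_roots hT g3 hgT (hcube _ hx) with e | e | e
    · rw [inv_eq_one] at e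
      rcases (proj_eq_one_iff _).1 e with rfl | rfl <;> rw [tr_eq] at t1 <;> simp at t1
      exact h3 (by linear_combination -t1)
    · rw [← proj_inv] at e
      rcases proj_eq_proj_iff.1 e with e | e
      · have : tr (X⁻¹ * G) = -1 := by
          rw [e, tr_mul]
          have hd := det_eq_one X
          rw [tr_eq] at t1
          simp [Matrix.SpecialLinearGroup.coe_inv, Matrix.adjugate_fin_two]
          linear_combination (X.1 0 0 + X.1 1 1 + 1) * t1 - 2 * hd
        rw [t2] at this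
        exact h2 (by linear_combination this)
      · have : tr G = -1 := by
          rw [e, tr_neg, tr_eq]
          rw [tr_eq] at t1
          simp [Matrix.SpecialLinearGroup.coe_inv, Matrix.adjugate_fin_two]
          linear_combination -t1
        rw [hτ] at this
        exact h2 (by linear_combination this)
    · rcases proj_eq_proj_iff.1 (inv_inj.1 e) with e | e
      · rw [e, inv_mul_cancel, tr_eq] at t2
        simp at t2
      · rw [e, tr_neg, t1] at hτ
        exact h2 (by linear_combination -hτ)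

end CfsgLib.DicksonPSL2.Binary
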