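import Cfsg.Agent.DicksonPSL2.CoprimeCase

/-!
# Subgroups of `PSL(2, q)` containing an upper unitriangular element

Either they are triangular, or normalise a torus, or are `A₄` or `A₅` in characteristic three, or
have `Q + 1` Sylow subgroups of order `Q`, permuted as the projective line over a subfield.
-/

set_option autoImplicit false
set_option linter.unusedSectionVars false

namespace CfsgLib.DicksonPSL2

open Matrix CfsgLib.SL2Trace
open scoped MatrixGroups

variable {F : Type*} [Field F]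

/-- The upper unitriangular elements. -/
def upGroup : Subgroup PSL(2, F) where
  carrier := Set.range u
  one_mem' := ⟨0, u_zero⟩
  mul_mem' := by rintro _ _ ⟨v, rfl⟩ ⟨w, rfl⟩; exact ⟨v + w, u_add v w⟩
  inv_mem' := by rintro _ ⟨v, rfl⟩; exact ⟨-v, u_neg v⟩

theorem mem_upGroup {x : PSL(2, F)} : x ∈ upGroup ↔ ∃ w, u w = x := Iff.rfl

variable (H : Subgroup PSL(2, F))

/-- The translations in `H`. -/
def trans : AddSubgroup F where
  carrier := {w | u w ∈ H}
  zero_mem' := by simp [u_zero, one_mem]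
  add_mem' := by intro v w hv hw; simpa [u_add] using mul_mem (show u v ∈ H from hv) (show u w ∈ H from hw)
  neg_mem' := by intro v hv; simpa [u_neg] using (show u v ∈ H from hv)

theorem mem_trans {w : F} : w ∈ trans H ↔ u w ∈ H := Iff.rfl

theorem card_upGroup_subgroupOf :
    Nat.card (upGroup.subgroupOf H) = Nat.card (trans H) := by
  refine (Nat.card_congr (Equiv.ofBijective
    (fun w : trans H => (⟨⟨u w, w.2⟩, Subgroup.mem_subgroupOf.2 ⟨w, rfl⟩⟩ : upGroup.subgroupOf H))
    ⟨?_, ?_⟩)).symm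
  · exact fun v w h => Subtype.ext (u_injective
      (congrArg (fun t : upGroup.subgroupOf H => ((t : H) : PSL(2, F))) h))
  · rintro ⟨⟨x, hx⟩, hx'⟩
    obtain ⟨w, rfl⟩ := Subgroup.mem_subgroupOf.1 hx'
    exact ⟨⟨w, hx⟩, rfl⟩

/-- The homomorphism `chi` on the triangular part. -/
noncomputable def chiHom : BP.subgroupOf H →* Fˣ where
  toFun b := Units.mk0 (chi ((b : H) : PSL(2, F))) (chi_ne_zero b.2)
  map_one' := Units.ext (by simp [chi_one])
  map_mul' a b := Units.ext (by simpa using chi_mul ((a : H) : PSL(2, F)) b.2)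

/-- The multipliers in `H`. -/
noncomputable def mults : Subgroup Fˣ := (chiHom H).range

theorem mem_mults {a : Fˣ} : a ∈ mults H ↔ ∃ x ∈ H, x ∈ BP ∧ chi x = (a : F) := by
  constructor
  · rintro ⟨b, rfl⟩
    exact ⟨((b : H) : PSL(2, F)), (b : H).2, b.2, rfl⟩
  · rintro ⟨x, hx, hxB, h⟩
    exact ⟨⟨⟨x, hx⟩, hxB⟩, Units.ext h⟩

theorem card_BP_subgroupOf :
    Nat.card (BP.subgroupOf H) = Nat.card (trans H) * Nat.card (mults H) := by
  rw [← (chiHom H).ker.card_mul_index, Subgroup.index_ker, mults]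
  congr 1
  refine (Nat.card_congr (Equiv.ofBijective
    (fun w : trans H => (⟨⟨⟨u w, w.2⟩, u_mem_BP _⟩,
      MonoidHom.mem_ker.2 (Units.ext (chi_u (w : F)))⟩ : (chiHom H).ker)) ⟨?_, ?_⟩)).symm
  · exact fun v w h => Subtype.ext (u_injective
      (congrArg (fun t : (chiHom H).ker => (((t : BP.subgroupOf H) : H) : PSL(2, F))) h))
  · rintro ⟨⟨⟨x, hx⟩, hxB⟩, hk⟩
    obtain ⟨w, rfl⟩ := eq_u_of_chi_eq_one hxB (congrArg Units.val (MonoidHom.mem_ker.1 hk))
    exact ⟨⟨w, hx⟩, rfl⟩

theorem mults_mul_mem {a : Fˣ} (ha : a ∈ mults H) {w : F} (hw : w ∈ trans H) :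
    (a : F) * w ∈ trans H := by
  obtain ⟨x, hx, hxB, h⟩ := (mem_mults H).1 ha
  rw [mem_trans, ← h, ← conj_u hxB]
  exact mul_mem (mul_mem hx hw) (inv_mem hx)

variable [Fintype F]

/-- The multipliers permute the non-zero translations freely. -/
theorem card_mults_dvd : Nat.card (mults H) ∣ Nat.card (trans H) - 1 := by
  classical
  let S : Set Fˣ := {a | (a : F) ∈ trans H}
  have hS : S = QuotientGroup.mk ⁻¹' ((QuotientGroup.mk : Fˣ → Fˣ ⧸ mults H) '' S) := by
    ext a
    refine ⟨fun h => ⟨a, h, rfl⟩, ?_⟩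
    rintro ⟨b, hb, hba⟩
    have hm := mults_mul_mem H (QuotientGroup.eq.1 hba) (show (b : F) ∈ trans H from hb)
    simpa [S, mul_comm, mul_left_comm] using hm
  have hcard : Nat.card S = Nat.card (trans H) - 1 := by
    have e : S ≃ {w : trans H // w ≠ 0} :=
      { toFun := fun a => ⟨⟨(a : Fˣ), a.2⟩, fun h => (a : Fˣ).ne_zero (congrArg Subtype.val h)⟩
        invFun := fun w => ⟨Units.mk0 (w : trans H) fun h => w.2 (Subtype.ext h), (w : trans H).2⟩
        left_inv := fun a => Subtype.ext (Units.ext rfl)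
        right_inv := fun w => rfl }
    rw [Nat.card_congr e, Nat.card_eq_fintype_card, Fintype.card_subtype_compl,
      Fintype.card_subtype_eq, ← Nat.card_eq_fintype_card]
  rw [hS, Nat.card_congr (QuotientGroup.preimageMkEquivSubgroupProdSet _ _), Nat.card_prod] at hcard
  exact Dvd.intro _ hcard

/-- The slopes met in `H` outside the triangular part. -/
def slopes : Set F := slope '' {x | x ∈ H ∧ x ∉ BP}

theorem index_BP_subgroupOf :
    (BP.subgroupOf H).index = Nat.card (slopes H) + 1 := by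
  classical
  have hs : ∀ s : slopes H, ∃ x : H, (x : PSL(2, F)) ∉ BP ∧ slope (x : PSL(2, F)) = s := by
    rintro ⟨_, x, ⟨hx, hxB⟩, rfl⟩
    exact ⟨⟨x, hx⟩, hxB, rfl⟩
  choose f hfB hfs using hs
  rw [Subgroup.index, ← Finite.card_option]
  refine (Nat.card_congr (Equiv.ofBijective
    (fun o : Option (slopes H) =>
      (o.elim (QuotientGroup.mk 1) (fun s => QuotientGroup.mk (f s)) : H ⧸ BP.subgroupOf H))
    ⟨?_, ?_⟩)).symm
  · rintro (_ | s) (_ | t) h <;> simp only [Option.elim_none, Option.elim_some] at h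
    · rfl
    · rw [QuotientGroup.eq, inv_one, one_mul] at h
      exact absurd (Subgroup.mem_subgroupOf.1 h) (hfB t)
    · rw [eq_comm, QuotientGroup.eq, inv_one, one_mul] at h
      exact absurd (Subgroup.mem_subgroupOf.1 h) (hfB s)
    · rw [QuotientGroup.eq, Subgroup.mem_subgroupOf] at h
      have e := slope_mul_BP (hfB s) h
      rw [Subgroup.coe_mul, Subgroup.coe_inv, mul_inv_cancel_left, hfs, hfs] at e
      exact congrArg some (Subtype.ext e.symm)
  · intro q
    induction q using QuotientGroup.induction_on with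
    | H x =>
      by_cases hx : (x : PSL(2, F)) ∈ BP
      · refine ⟨none, ?_⟩
        simp only [Option.elim_none]
        rw [QuotientGroup.eq, inv_one, one_mul]
        exact hx
      · refine ⟨some ⟨slope (x : PSL(2, F)), x, ⟨x.2, hx⟩, rfl⟩, ?_⟩
        simp only [Option.elim_some]
        rw [QuotientGroup.eq, Subgroup.mem_subgroupOf, Subgroup.coe_mul, Subgroup.coe_inv]
        exact inv_mul_mem_BP_of_slope (hfB _) hx (hfs _)

theorem slopes_translate {s w : F} (hs : s ∈ slopes H) (hw : w ∈ trans H) : w + s ∈ slopes H := by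
  obtain ⟨x, ⟨hx, hxB⟩, rfl⟩ := hs
  exact ⟨u w * x, ⟨mul_mem hw hx, fun h => hxB ((mul_mem_cancel_left (u_mem_BP w)).1 h)⟩,
    slope_u_mul hxB w⟩

/-- The slopes fill cosets of the translations. -/
theorem exists_card_slopes :
    ∃ j, Nat.card (slopes H) = Nat.card (trans H) * j ∧
      (j = 1 → ∃ e : F, ∀ s ∈ slopes H, s - e ∈ trans H) := by
  have hS : slopes H =
      QuotientAddGroup.mk ⁻¹' ((QuotientAddGroup.mk : F → F ⧸ trans H) '' slopes H) := by
    ext a
    refine ⟨fun h => ⟨a, h, rfl⟩, ?_⟩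
    rintro ⟨b, hb, hba⟩
    have := slopes_translate H hb (QuotientAddGroup.eq.1 hba)
    simpa using this
  refine ⟨Nat.card ((QuotientAddGroup.mk : F → F ⧸ trans H) '' slopes H), ?_, fun hj => ?_⟩
  · conv_lhs => rw [hS]
    rw [Nat.card_congr (QuotientAddGroup.preimageMkEquivAddSubgroupProdSet _ _), Nat.card_prod]
  · obtain ⟨hsub, ⟨_, e, he, rfl⟩⟩ := Nat.card_eq_one_iff_unique.1 hj
    refine ⟨e, fun s hs => ?_⟩
    have h : (QuotientAddGroup.mk e : F ⧸ trans H) = QuotientAddGroup.mk s :=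
      congrArg Subtype.val (@Subsingleton.elim _ hsub ⟨_, e, he, rfl⟩ ⟨_, s, hs, rfl⟩)
    rw [QuotientAddGroup.eq] at h
    simpa [sub_eq_add_neg, add_comm] using h

variable (p : ℕ) [Fact p.Prime] [CharP F p] {H}

theorem isPGroup_upGroup_subgroupOf : IsPGroup p (upGroup.subgroupOf H) := by
  intro x
  refine ⟨1, ?_⟩
  obtain ⟨w, hw⟩ := Subgroup.mem_subgroupOf.1 x.2
  have h1 : ((x : H) : PSL(2, F)) ^ p = 1 := by
    by_contra hne
    exact not_isTor_u w (hw ▸ (isTor_iff_pow p _).2 hne)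
  rw [pow_one]
  exact Subtype.ext (Subtype.ext (by simpa using h1))

theorem exists_sylow_eq {w₀ : F} (hw₀ : u w₀ ∈ H) (h0 : w₀ ≠ 0) :
    ∃ P : Sylow p H, (P : Subgroup H) = upGroup.subgroupOf H ∧
      Subgroup.normalizer ((P : Subgroup H) : Set H) = BP.subgroupOf H := by
  obtain ⟨P, hP⟩ := exists_sylow_of_not_isTor p (x := (⟨u w₀, hw₀⟩ : H)) (not_isTor_u w₀)
  have hPle : (P : Subgroup H) ≤ upGroup.subgroupOf H := fun y hy => by
    obtain ⟨v, hv⟩ := exists_eq_u_of_comm h0 (congrArg Subtype.val (sylow_comm p P hy hP).1)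
    exact Subgroup.mem_subgroupOf.2 ⟨v, hv.symm⟩
  have hPeq := (P.is_maximal' (isPGroup_upGroup_subgroupOf p) hPle).symm
  refine ⟨P, hPeq, le_antisymm ?_ ?_⟩
  · intro n hn
    have h1 := (Subgroup.mem_normalizer_iff.1 hn _).1 hP
    obtain ⟨v, hv⟩ := Subgroup.mem_subgroupOf.1 (hPle h1)
    exact Subgroup.mem_subgroupOf.2 (mem_BP_of_conj_u h0 (v := v) (by simpa using hv.symm))
  · intro n hn
    rw [← conjS_eq_self_iff]
    refine Subgroup.eq_of_le_of_card_ge ?_ (card_conjS n _).ge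
    intro y hy
    rw [mem_conjS, hPeq, Subgroup.mem_subgroupOf] at hy
    obtain ⟨v, hv⟩ := hy
    rw [hPeq, Subgroup.mem_subgroupOf]
    refine ⟨chi (n : PSL(2, F)) * v, ?_⟩
    rw [← conj_u (Subgroup.mem_subgroupOf.1 hn), hv]
    simp [mul_assoc]

set_option maxHeartbeats 1000000 in
/-- A non-trivial multiplier gives a torus component of that order inside the triangular part. -/
theorem exists_comp_BP (hk : 1 < Nat.card (mults H)) :
    ∃ x : H, IsTor (x : PSL(2, F)) ∧ Nat.card (comp H x) = Nat.card (mults H) := by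
  obtain ⟨⟨t, ht⟩, hgen⟩ := IsCyclic.exists_generator (α := mults H)
  obtain ⟨x, hx, hxB, hxt⟩ := (mem_mults H).1 ht
  have ht1 : t ≠ 1 := by
    rintro rfl
    have hone : ∀ a : mults H, a = 1 := fun a => by
      obtain ⟨n, hn⟩ := hgen a
      simp [← hn, show (⟨(1 : Fˣ), ht⟩ : mults H) = 1 from rfl]
    have : Subsingleton (mults H) := ⟨fun a b => (hone a).trans (hone b).symm⟩
    rw [Nat.card_of_subsingleton (1 : mults H)] at hk
    omega
  have htor : IsTor x := isTor_of_chi_ne_one hxB fun e =>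
    ht1 (Units.ext (by rw [← hxt, e]; rfl))
  refine ⟨⟨x, hx⟩, htor, ?_⟩
  let incl : comp H ⟨x, hx⟩ →* BP.subgroupOf H :=
    (comp H ⟨x, hx⟩).subtype.codRestrict _ fun y =>
      Subgroup.mem_subgroupOf.2 (torus_le_BP htor hxB (mem_comp.1 y.2))
  let f : comp H ⟨x, hx⟩ →* mults H := (chiHom H).rangeRestrict.comp incl
  refine Nat.card_eq_of_bijective f ⟨?_, ?_⟩
  · rw [injective_iff_map_eq_one]
    intro y hy
    have h1 : chi (((y : H)) : PSL(2, F)) = 1 :=
      congrArg (fun a : mults H => ((a : Fˣ) : F)) hy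
    obtain ⟨w, hw⟩ := eq_u_of_chi_eq_one (torus_le_BP htor hxB (mem_comp.1 y.2)) h1
    by_contra hne
    have := (comp_eq_of_mem htor y.2 fun e => hne (Subtype.ext e)).1
    rw [hw] at this
    exact not_isTor_u w this
  · intro a
    obtain ⟨n, hn⟩ := hgen a
    refine ⟨⟨⟨x, hx⟩, self_mem_comp _⟩ ^ n, ?_⟩
    rw [map_zpow, ← hn]
    congr 1
    exact Subtype.ext (Units.ext hxt)

theorem index_arith {Q k c n j : ℕ} (hQ : 3 ≤ Q) (hk : k ≤ Q - 1) (hn : n = 1 + Q * j) (hj : 1 ≤ j)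
    (hc : 2 ≤ c) (hc2 : c ∣ 2 * n) (e : n * (Q * k + 2 * c) = 2 * c + n * (Q * c)) :
    (j = 1 ∧ (k = Q - 1 ∨ 2 * k = Q - 1)) ∨ (Q = 3 ∧ k = 2 ∧ n = 10 ∧ c = 5) := by
  obtain ⟨m, hm⟩ := hc2
  have hn0 : 0 < n := by omega
  have hD : Q * c < Q * k + 2 * c := by
    by_contra hcon
    have h1 := Nat.mul_le_mul_left n (Nat.le_of_not_lt hcon)
    omega
  obtain ⟨D, hD⟩ := Nat.exists_eq_add_of_lt hD
  have hDn : n * (D + 1) = 2 * c := by rw [hD] at e; ring_nf at e ⊢; omega
  have hmD : m * (D + 1) = 4 := by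
    have : c * (m * (D + 1)) = c * 4 := by
      rw [← mul_assoc, ← hm, mul_assoc, hDn]; ring
    exact Nat.eq_of_mul_eq_mul_left (by omega) this
  have hm' : m = 1 ∨ m = 2 ∨ m = 4 := by
    have h4 : m ≤ 4 := Nat.le_of_dvd (by norm_num) (Dvd.intro _ hmD)
    interval_cases m <;> omega
  obtain ⟨a, rfl⟩ : ∃ a, Q = a + 3 := ⟨Q - 3, by omega⟩
  obtain ⟨i, rfl⟩ : ∃ i, j = i + 1 := ⟨j - 1, by omega⟩
  have hQ0 : 0 < a + 3 := by omega
  rcases hm' with rfl | rfl | rfl
  · -- `c = 2n`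
    exfalso
    have hc' : c = 2 * n := by omega
    have hD' : D = 3 := by omega
    subst hc' hn hD'
    have h1 : (a + 3) * (k + 4 * (i + 1)) = (a + 3) * (2 + 2 * ((a + 3) * (i + 1))) := by
      ring_nf at hD ⊢; omega
    have h2 := Nat.eq_of_mul_eq_mul_left hQ0 h1
    ring_nf at h2
    omega
  · -- `c = n`
    have hc' : c = n := by omega
    have hD' : D = 1 := by omega
    subst hc' hn hD'
    have h1 : (a + 3) * (k + 2 * (i + 1)) = (a + 3) * (1 + (a + 3) * (i + 1)) := by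
      ring_nf at hD ⊢; omega
    have h2 := Nat.eq_of_mul_eq_mul_left hQ0 h1
    ring_nf at h2
    left
    exact ⟨by omega, Or.inl (by omega)⟩
  · -- `2c = n`
    have hc' : n = 2 * c := by omega
    have hD' : D = 0 := by omega
    subst hD'
    have hD2 : 2 * ((a + 3) * k) + 2 * n = (a + 3) * n + 2 := by
      have : 2 * ((a + 3) * c) = (a + 3) * n := by rw [hc']; ring
      omega
    subst hn
    have h1 : (a + 3) * (2 * k + 2 * (i + 1)) = (a + 3) * (1 + (a + 3) * (i + 1)) := by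
      ring_nf at hD2 ⊢; omega
    have h2 := Nat.eq_of_mul_eq_mul_left hQ0 h1
    rcases show i = 0 ∨ i = 1 ∨ 2 ≤ i by omega with rfl | rfl | hi
    · left
      exact ⟨rfl, Or.inr (by omega)⟩
    · exfalso
      omega
    · right
      obtain ⟨l, rfl⟩ : ∃ l, i = l + 2 := ⟨i - 2, by omega⟩
      ring_nf at h2
      obtain rfl : a = 0 := by omega
      obtain rfl : l = 0 := by omega
      omega

theorem c_dvd_two_mul {Q k c n : ℕ} (hc : 0 < c) (hh : c ∣ Q * k * n) (hcQ : Nat.Coprime c Q)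
    (hg : Nat.gcd c k ≤ 2) : c ∣ 2 * n := by
  rw [mul_assoc] at hh
  have h1 : c ∣ k * n := hcQ.dvd_of_dvd_mul_left hh
  have h2 : c ∣ Nat.gcd c k * n := by
    rw [← Nat.gcd_mul_right]
    exact Nat.dvd_gcd (dvd_mul_right c n) h1
  have h0 := Nat.gcd_pos_of_pos_left k hc
  rcases show Nat.gcd c k = 1 ∨ Nat.gcd c k = 2 by omega with e | e <;> rw [e] at h2
  · exact h2.trans (mul_dvd_mul_right (one_dvd 2) n)
  · exact h2

/-- `Q + 1` Sylow subgroups of order `Q`, whose slopes fill one coset of the translations. -/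
def IsSubfieldType (H : Subgroup PSL(2, F)) : Prop :=
  Nat.card H = Nat.card (trans H) * Nat.card (mults H) * (Nat.card (trans H) + 1) ∧
    (Nat.card (mults H) = Nat.card (trans H) - 1 ∨
      2 * Nat.card (mults H) = Nat.card (trans H) - 1) ∧
    ∃ e : F, ∀ s ∈ slopes H, s - e ∈ trans H

theorem one_half_mult {k : ℕ} (h : 2 ≤ k) (c : ℕ) (hc : 2 ≤ c) (Q n : ℕ) (hQ : 0 < Q) (hn : 0 < n)
    (e : 1 - 1 / ((Q * k * n : ℕ) : ℚ) = ((Q : ℚ) - 1) / ((Q * k : ℕ) : ℚ) +
      ((1 / 2 - 1 / (2 * k : ℚ)) + (1 / 2 - 1 / (2 * c : ℚ)))) :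
    n * (Q * k + 2 * c) = 2 * c + n * (Q * c) := by
  have hk' : (k : ℚ) ≠ 0 := by exact_mod_cast (by omega : k ≠ 0)
  have hc' : (c : ℚ) ≠ 0 := by exact_mod_cast (by omega : c ≠ 0)
  have hQ' : (Q : ℚ) ≠ 0 := by exact_mod_cast hQ.ne'
  have hn' : (n : ℚ) ≠ 0 := by exact_mod_cast hn.ne'
  push_cast at e
  field_simp at e
  have : ((n * (Q * k + 2 * c) : ℕ) : ℚ) = ((2 * c + n * (Q * c) : ℕ) : ℚ) := by
    push_cast
    linear_combination e
  exact_mod_cast this

set_option maxHeartbeats 1600000 in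
/-- Subgroups containing a non-trivial upper unitriangular element. -/
theorem char_case {w₀ : F} (hw₀ : u w₀ ∈ H) (h0 : w₀ ≠ 0) :
    H ≤ BP ∨ (p = 2 ∧ ∃ x : PSL(2, F), IsTor x ∧ H ≤ Subgroup.normalizer (torus x : Set PSL(2, F))) ∨
      (Nat.card H = 60 ∧ p = 3 ∧ Nonempty (H ≃* alternatingGroup (Fin 5))) ∨ IsSubfieldType H := by
  classical
  by_cases hB : H ≤ BP
  · exact Or.inl hB
  right
  obtain ⟨P, hPeq, hPN⟩ := exists_sylow_eq p hw₀ h0
  obtain ⟨R, hR, hcov, hnc, heq⟩ := class_equation p P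
  rw [hPN, card_BP_subgroupOf, hPeq, card_upGroup_subgroupOf] at heq
  change 1 - 1 / (Nat.card H : ℚ) = _ + ∑ C ∈ R, wt C at heq
  obtain ⟨j, hj, hje⟩ := exists_card_slopes H
  have hidx := (BP.subgroupOf H).card_mul_index
  rw [card_BP_subgroupOf, index_BP_subgroupOf, hj] at hidx
  have hQ2 : 2 ≤ Nat.card (trans H) := by
    rw [Nat.succ_le_iff, Finite.one_lt_card_iff_nontrivial]
    exact ⟨⟨w₀, hw₀⟩, 0, fun h => h0 (congrArg Subtype.val h)⟩
  obtain ⟨e₀, hQp⟩ : ∃ e₀, Nat.card (trans H) = p ^ e₀ := by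
    obtain ⟨e₀, he₀⟩ := (P.isPGroup').exists_card_eq
    exact ⟨e₀, by rw [← card_upGroup_subgroupOf, ← hPeq, he₀]⟩
  have hkdvd := card_mults_dvd H
  have hj1 : 1 ≤ j := by
    by_contra hj0
    apply hB
    intro x hx
    by_contra hxB
    have hpos : 0 < Nat.card (slopes H) := Nat.card_pos_iff.2
      ⟨⟨⟨slope x, x, ⟨hx, hxB⟩, rfl⟩⟩, inferInstance⟩
    rw [hj, show j = 0 by omega, mul_zero] at hpos
    omega
  set Q := Nat.card (trans H) with hQdef
  set k := Nat.card (mults H) with hkdef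
  have hk1 : 1 ≤ k := hkdef ▸ Nat.card_pos
  have hkQ : k ≤ Q - 1 := Nat.le_of_dvd (by omega) hkdvd
  obtain ⟨n, hn⟩ : ∃ n, n = 1 + Q * j := ⟨_, rfl⟩
  have hh : Nat.card H = Q * k * n := by rw [hn, ← hidx]; ring
  have hnQ : Q + 1 ≤ n := by rw [hn]; nlinarith
  rw [hh] at heq
  have hQk : (0 : ℚ) < ((Q * k : ℕ) : ℚ) := by
    exact_mod_cast Nat.mul_pos (by omega : 0 < Q) (by omega : 0 < k)
  have hQ2' : (2 : ℚ) ≤ Q := by exact_mod_cast hQ2
  have hninv : 1 / ((Q * k * n : ℕ) : ℚ) ≤ 1 / ((Q * k : ℕ) : ℚ) / 3 := by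
    have hn3 : (3 : ℚ) ≤ n := by exact_mod_cast (by omega : 3 ≤ n)
    rw [div_div, Nat.cast_mul (Q * k) n]
    exact one_div_le_one_div_of_le (by positivity) (mul_le_mul_of_nonneg_left hn3 hQk.le)
  have hnpos : (0 : ℚ) < 1 / ((Q * k * n : ℕ) : ℚ) := by
    have : 0 < Q * k * n := hh ▸ Nat.card_pos
    positivity
  rcases eq_or_lt_of_le hk1 with hk | hk
  · -- self-normalising Sylow subgroups
    rw [← hk] at heq hh hQk hninv hnpos
    rw [mul_one] at hh hQk
    simp only [mul_one] at heq hninv hnpos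
    have hsum : ∑ C ∈ R, wt C = 1 / (Q : ℚ) - 1 / ((Q * n : ℕ) : ℚ) := by
      rw [sub_div, div_self (by linarith : (Q : ℚ) ≠ 0)] at heq
      linarith
    have hQhalf : 1 / (Q : ℚ) ≤ 1 / 2 := one_div_le_one_div_of_le (by norm_num) hQ2'
    rcases rest_cases hR (by linarith) with h | ⟨C, hC, hc, hdC, hwC⟩
    · rw [h, Finset.sum_empty] at hsum
      have hpos : (0 : ℚ) < 1 / (Q : ℚ) := by positivity
      linarith
    rw [hC, Finset.sum_singleton, hwC] at hsum
    have hcQ : (2 : ℚ) ≤ Nat.card C := by exact_mod_cast hc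
    have hc4 : 1 / (2 * Nat.card C : ℚ) ≤ 1 / 4 :=
      one_div_le_one_div_of_le (by norm_num) (by linarith)
    have hQ3 : Q ≤ 3 := by
      by_contra hcon
      have : 1 / (Q : ℚ) ≤ 1 / 4 :=
        one_div_le_one_div_of_le (by norm_num) (by exact_mod_cast Nat.lt_of_not_le hcon)
      linarith
    rcases show Q = 2 ∨ Q = 3 by omega with hQ | hQ
    · left
      have hp2 : p = 2 := by
        have h1 : p ∣ 2 := by
          rw [← hQ, hQp]
          refine dvd_pow_self p ?_
          rintro rfl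
          rw [pow_zero] at hQp
          omega
        exact (Nat.prime_dvd_prime_iff_eq Fact.out Nat.prime_two).1 h1
      refine ⟨hp2, normalizes_of_card hR (hC ▸ Finset.mem_singleton_self C) ?_⟩
      rw [hdC, hh]
      rw [hQ] at hsum
      push_cast at hsum
      have : (2 * n : ℚ) = 2 * Nat.card C := by
        have hn0 : (n : ℚ) ≠ 0 := by exact_mod_cast (by omega : n ≠ 0)
        field_simp at hsum
        linarith
      rw [hQ]
      exact_mod_cast this.symm
    · right; right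
      rw [hQ] at hsum
      push_cast at hsum
      have hn0 : (0 : ℚ) < n := by exact_mod_cast (by omega : 0 < n)
      have hC2 : Nat.card C = 2 := by
        by_contra hne
        have : 1 / (2 * Nat.card C : ℚ) ≤ 1 / 6 := by
          refine one_div_le_one_div_of_le (by norm_num) ?_
          have : (3 : ℚ) ≤ Nat.card C := by exact_mod_cast (by omega : 3 ≤ Nat.card C)
          linarith
        have : (0 : ℚ) < 1 / (3 * (n : ℚ)) := by positivity
        linarith
      rw [hC2] at hsum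
      have hn4 : n = 4 := by
        push_cast at hsum
        field_simp at hsum
        exact_mod_cast (by linarith : (n : ℚ) = 4)
      obtain rfl : j = 1 := by
        rw [hQ, hn4] at hn
        omega
      refine ⟨?_, Or.inr ?_, hje rfl⟩
      · rw [← hQdef, ← hkdef, hh, ← hk, hQ, hn4]
      · rw [← hQdef, ← hkdef, ← hk, hQ]
  · -- a torus acts on each Sylow subgroup
    have hQ3 : 3 ≤ Q := by omega
    obtain ⟨x, hx, hxc⟩ := exists_comp_BP (H := H) (hkdef ▸ hk)
    rw [← hkdef] at hxc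
    obtain ⟨D, hD, g, hg⟩ := hcov x hx
    have hDc : Nat.card D = k := by rw [← card_conjS g D, hg, hxc]
    rw [← Finset.add_sum_erase R wt hD] at heq
    have hkQ' : (k : ℚ) ≠ 0 := by exact_mod_cast (by omega : k ≠ 0)
    have hsplit : ((Q : ℚ) - 1) / ((Q * k : ℕ) : ℚ) = 1 / (k : ℚ) - 1 / ((Q * k : ℕ) : ℚ) := by
      have hQ0 : (Q : ℚ) ≠ 0 := by linarith
      push_cast
      field_simp
    rw [hsplit] at heq
    have hQk6 : 1 / ((Q * k : ℕ) : ℚ) ≤ 1 / 6 := by
      refine one_div_le_one_div_of_le (by norm_num) ?_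
      exact_mod_cast (Nat.mul_le_mul hQ3 hk : 3 * 2 ≤ Q * k)
    have hQk3 : 1 / ((Q * k : ℕ) : ℚ) ≤ 1 / (k : ℚ) / 3 := by
      rw [div_div]
      refine one_div_le_one_div_of_le ?_ ?_
      · have : (0 : ℚ) < k := by exact_mod_cast hk1
        linarith
      · exact_mod_cast (by nlinarith : k * 3 ≤ Q * k)
    have hkpos : (0 : ℚ) < 1 / (k : ℚ) := by
      have : (0 : ℚ) < k := by exact_mod_cast hk1
      positivity
    have hk2inv : 1 / (k : ℚ) ≤ 1 / 2 := one_div_le_one_div_of_le (by norm_num) (by exact_mod_cast hk)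
    have hhalfk : 1 / (2 * (k : ℚ)) = 1 / (k : ℚ) / 2 := by rw [div_div, mul_comm]
    obtain ⟨hcD, hdD | hdD⟩ := comp_facts hR hD
    · exfalso
      rw [(wt_full hcD hdD).1, hDc] at heq
      rcases rest_cases (R := R.erase D) (fun C hC => hR C (Finset.mem_of_mem_erase hC))
        (by linarith) with h | ⟨C, hC, hc, -, hwC⟩
      · rw [h, Finset.sum_empty] at heq
        linarith
      · rw [hC, Finset.sum_singleton, hwC] at heq
        have : 1 / (2 * Nat.card C : ℚ) ≤ 1 / 4 := by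
          refine one_div_le_one_div_of_le (by norm_num) ?_
          have : (2 : ℚ) ≤ Nat.card C := by exact_mod_cast hc
          linarith
        linarith
    rw [(wt_half hcD hdD).1, hDc] at heq
    rcases rest_cases (R := R.erase D) (fun C hC => hR C (Finset.mem_of_mem_erase hC))
      (by linarith) with h | ⟨C, hC, hc, hdC, hwC⟩
    · rw [h, Finset.sum_empty] at heq
      linarith
    rw [hC, Finset.sum_singleton, hwC, ← hsplit] at heq
    have hCR : C ∈ R.erase D := hC ▸ Finset.mem_singleton_self C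
    have hCD := Finset.mem_erase.1 hCR
    have e := one_half_mult hk (Nat.card C) hc Q n (by omega) (by omega) (by linarith)
    have hcdvd : Nat.card C ∣ 2 * n := by
      refine c_dvd_two_mul (k := k) (Q := Q) (by omega) (hh ▸ Subgroup.card_subgroup_dvd_card C) ?_ ?_
      · obtain ⟨y, hy, rfl⟩ := hR C hCD.2
        rw [hQp]
        exact Nat.Coprime.pow_right _
          ((Nat.Prime.coprime_iff_not_dvd Fact.out).2 (not_dvd_card_comp p hy)).symm
      · by_contra hg3
        obtain ⟨y, hy, rfl⟩ := hR C hCD.2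
        obtain ⟨a, ha⟩ := exists_conj_comp_of_gcd hy hx (by rw [hxc]; omega)
        exact hCD.1 (hnc _ hCD.2 _ hD (g⁻¹ * a) (by rw [conjS_mul, ha, ← hg, conjS_inv_conjS]))
    rcases index_arith hQ3 hkQ hn hj1 hc hcdvd e with ⟨rfl, hk'⟩ | ⟨hQ', hk', hn', hc'⟩
    · right; right
      refine ⟨?_, hk', hje rfl⟩
      rw [← hQdef, ← hkdef, hh, hn, mul_one, add_comm 1 Q]
    · right
      have hp3 : p = 3 := by
        have h1 : p ∣ 3 := by
          rw [← hQ', hQp]
          refine dvd_pow_self p ?_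
          rintro rfl
          rw [pow_zero] at hQp
          omega
        exact (Nat.prime_dvd_prime_iff_eq Fact.out Nat.prime_three).1 h1
      have h60 : Nat.card H = 60 := by rw [hh, hQ', hk', hn']
      left
      exact ⟨h60, hp3, nonempty_equiv_alt_five h60 C hc' (by rw [hdC, hc']; norm_num)⟩

end CfsgLib.DicksonPSL2
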