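import Cfsg.Agent.DicksonPSL2.Subfield
import Cfsg.Agent.TwoGroups.Models

/-!
# Dickson's classification of the subgroups of `PSL(2, q)`
-/

set_option autoImplicit false
set_option linter.unusedSectionVars false

namespace CfsgLib.DicksonPSL2

open Matrix CfsgLib.SL2Trace
open scoped MatrixGroups

variable {F : Type*} [Field F]

/-- `conjS a H` is isomorphic to `H`. -/
theorem nonempty_equiv_conjS {X : Type*} [Group X] (a : X) (H : Subgroup X) :
    Nonempty (H ≃* conjS a H) :=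
  ⟨H.equivMapOfInjective _ (MulAut.conj a).injective⟩

/-- The subgroup fixes a point of the projective line. -/
def InBorel (H : Subgroup PSL(2, F)) : Prop := ∃ a : PSL(2, F), conjS a H ≤ BP

/-- The subgroup normalises a torus. -/
def InTorusNormalizer (H : Subgroup PSL(2, F)) : Prop :=
  ∃ x : PSL(2, F), IsTor x ∧ H ≤ Subgroup.normalizer (torus x : Set PSL(2, F))

/-- The subgroup is conjugate to a subfield group `PSL(2, K)` or `PGL(2, K)`. -/
def IsSubfieldGroup (p : ℕ) (H : Subgroup PSL(2, F)) : Prop :=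
  ∃ (K : Type) (_ : Field K) (_ : Fintype K) (ι : K →+* F) (a : PSL(2, F)) (w : Fˣ),
    conjS a H = (psiS ι w).range ∨
      (p ≠ 2 ∧ (conjS a H).map ProjectiveSpecialLinearGroup.toPGL = (psiP ι w).range)

theorem InTorusNormalizer.of_conjS [Fintype F] {H : Subgroup PSL(2, F)} {a : PSL(2, F)}
    (h : InTorusNormalizer (conjS a H)) : InTorusNormalizer H := by
  obtain ⟨x, hx, hle⟩ := h
  refine ⟨a⁻¹ * x * a⁻¹⁻¹, (isTor_conj_iff _ _).2 hx, fun n hn => ?_⟩
  rw [mem_normalizer_torus_iff ((isTor_conj_iff _ _).2 hx)]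
  have h1 : a * n * a⁻¹ ∈ conjS a H := mem_conjS.2 (by simpa [mul_assoc] using hn)
  have h2 := (mem_normalizer_torus_iff hx).1 (hle h1)
  rw [← conj_mem_torus_iff a⁻¹] at h2
  simpa [mul_assoc] using h2

/-- Dickson's theorem, with the exceptional groups confined to their characteristics: `PSL(2, 3)`,
`PGL(2, 3)` and `PSL(2, 5)` count as subfield groups. -/
theorem subgroup_cases_sharp [Fintype F] (p : ℕ) [Fact p.Prime] [CharP F p]
    (H : Subgroup PSL(2, F)) :
    InBorel H ∨ InTorusNormalizer H ∨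
      (Nat.card H = 12 ∧ (p ≠ 2 ∧ p ≠ 3) ∧ Nonempty (H ≃* alternatingGroup (Fin 4))) ∨
      (Nat.card H = 24 ∧ (p ≠ 2 ∧ p ≠ 3) ∧ Nonempty (H ≃* Equiv.Perm (Fin 4))) ∨
      (Nat.card H = 60 ∧ (p ≠ 2 ∧ p ≠ 5) ∧ Nonempty (H ≃* alternatingGroup (Fin 5))) ∨
      IsSubfieldGroup p H := by
  by_cases hp : p ∣ Nat.card H
  · obtain ⟨⟨x, hxH⟩, hxo⟩ := exists_prime_orderOf_dvd_card' p hp
    rw [Subgroup.orderOf_mk] at hxo
    have hnt : ¬ IsTor x := by
      rw [isTor_iff_pow p, not_not, ← hxo, pow_orderOf_eq_one]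
    obtain ⟨a, w₀, ha⟩ := exists_conj_u hnt
    have hw₀ : u w₀ ∈ conjS a H := by
      rw [← ha, mem_conjS]
      simpa [mul_assoc] using hxH
    have h0 : w₀ ≠ 0 := by
      rintro rfl
      rw [u_zero, conj_eq_one_iff] at ha
      rw [ha, orderOf_one] at hxo
      exact (Fact.out : p.Prime).ne_one hxo.symm
    obtain ⟨e⟩ := nonempty_equiv_conjS a H
    have hc : Nat.card (conjS a H) = Nat.card H := card_conjS a H
    rcases char_case p hw₀ h0 with h | ⟨-, h⟩ | ⟨h, hp3, ⟨f⟩⟩ | h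
    · exact Or.inl ⟨a, h⟩
    · exact Or.inr (Or.inl (InTorusNormalizer.of_conjS h))
    · exact Or.inr (Or.inr (Or.inr (Or.inr (Or.inl ⟨hc ▸ h, ⟨by omega, by omega⟩, ⟨e.trans f⟩⟩))))
    · obtain ⟨K, iK, iK', ι, b, w, hb⟩ := subfield_case p h hw₀ h0
      refine Or.inr (Or.inr (Or.inr (Or.inr (Or.inr ⟨K, iK, iK', ι, b * a, w, ?_⟩))))
      rwa [conjS_mul]
  · rcases coprime_case p hp with h | h | ⟨h, -, e⟩ | ⟨h, -, e⟩ | ⟨h, -, e⟩
    · exact Or.inl ⟨1, by rw [h, conjS, Subgroup.map_bot]; exact bot_le⟩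
    · exact Or.inr (Or.inl h)
    · rw [h] at hp
      exact Or.inr (Or.inr (Or.inl ⟨h, ⟨fun e => hp (by rw [e]; norm_num),
        fun e => hp (by rw [e]; norm_num)⟩, e⟩))
    · rw [h] at hp
      exact Or.inr (Or.inr (Or.inr (Or.inl ⟨h, ⟨fun e => hp (by rw [e]; norm_num),
        fun e => hp (by rw [e]; norm_num)⟩, e⟩)))
    · rw [h] at hp
      exact Or.inr (Or.inr (Or.inr (Or.inr (Or.inl ⟨h, ⟨fun e => hp (by rw [e]; norm_num),
        fun e => hp (by rw [e]; norm_num)⟩, e⟩))))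

/-- Dickson's theorem. -/
theorem subgroup_cases [Fintype F] (p : ℕ) [Fact p.Prime] [CharP F p] (H : Subgroup PSL(2, F)) :
    InBorel H ∨ InTorusNormalizer H ∨
      (Nat.card H = 12 ∧ p ≠ 2 ∧ Nonempty (H ≃* alternatingGroup (Fin 4))) ∨
      (Nat.card H = 24 ∧ p ≠ 2 ∧ Nonempty (H ≃* Equiv.Perm (Fin 4))) ∨
      (Nat.card H = 60 ∧ p ≠ 2 ∧ Nonempty (H ≃* alternatingGroup (Fin 5))) ∨
      IsSubfieldGroup p H := by
  rcases subgroup_cases_sharp p H with h | h | ⟨h, hp, e⟩ | ⟨h, hp, e⟩ | ⟨h, hp, e⟩ | h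
  · exact Or.inl h
  · exact Or.inr (Or.inl h)
  · exact Or.inr (Or.inr (Or.inl ⟨h, hp.1, e⟩))
  · exact Or.inr (Or.inr (Or.inr (Or.inl ⟨h, hp.1, e⟩)))
  · exact Or.inr (Or.inr (Or.inr (Or.inr (Or.inl ⟨h, hp.1, e⟩))))
  · exact Or.inr (Or.inr (Or.inr (Or.inr (Or.inr h))))

/-- A subgroup normalising a torus is cyclic inside it or dihedral over its part in it. -/
theorem cyclic_or_dihedral [Fintype F] {H : Subgroup PSL(2, F)} {x : PSL(2, F)} (hx : IsTor x)
    (hle : H ≤ Subgroup.normalizer (torus x : Set PSL(2, F))) :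
    ∃ k : ℕ, k ∣ Nat.card (torus x) ∧
      ((H ≤ torus x ∧ IsCyclic H ∧ Nat.card H = k) ∨
        (Nat.card H = 2 * k ∧ Nonempty (H ≃* DihedralGroup k))) := by
  have := isCyclic_torus hx
  set A := H ⊓ torus x with hA
  refine ⟨Nat.card A, Subgroup.card_dvd_of_le inf_le_right, ?_⟩
  have hcyc : IsCyclic A :=
    isCyclic_of_injective (Subgroup.inclusion (inf_le_right : A ≤ torus x))
      (Subgroup.inclusion_injective _)
  by_cases h : H ≤ torus x
  · left
    rw [hA, inf_of_le_left h] at hcyc ⊢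
    exact ⟨h, hcyc, rfl⟩
  · right
    obtain ⟨n, hn, hnT⟩ := SetLike.not_le_iff_exists.1 h
    have hconj : ∀ m ∈ H, m * x * m⁻¹ ∈ torus x := fun m hm =>
      (mem_normalizer_torus_iff hx).1 (hle hm)
    obtain ⟨hn2, hinv⟩ := (mem_or_inverts hx (hconj n hn)).resolve_left hnT
    have hcard : Nat.card H = 2 * Nat.card A := by
      have e : (A ⊕ A) ≃ H := by
        refine Equiv.ofBijective (Sum.elim (fun c => ⟨c.1, c.2.1⟩)
          (fun c => ⟨n * c.1, mul_mem hn c.2.1⟩)) ⟨?_, ?_⟩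
        · rintro (⟨a, ha⟩ | ⟨a, ha⟩) (⟨b, hb⟩ | ⟨b, hb⟩) e <;>
            simp only [Sum.elim_inl, Sum.elim_inr, Subtype.mk.injEq] at e
          · subst e; rfl
          · exact absurd (by rw [show n = a * b⁻¹ by rw [e]; group]; exact (mul_mem ha (inv_mem hb) : _ ∈ A).2) hnT
          · exact absurd (by rw [show n = b * a⁻¹ by rw [← e]; group]; exact (mul_mem hb (inv_mem ha) : _ ∈ A).2) hnT
          · obtain rfl := mul_left_cancel e
            rfl
        · rintro ⟨m, hm⟩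
          by_cases hm' : m ∈ torus x
          · exact ⟨Sum.inl ⟨m, hm, hm'⟩, rfl⟩
          · have h1 : n⁻¹ * m ∈ H := mul_mem (inv_mem hn) hm
            exact ⟨Sum.inr ⟨n⁻¹ * m, h1,
              div_mem_torus hx (hconj m hm) (hconj n hn) hm' hnT⟩,
              Subtype.ext (mul_inv_cancel_left n m)⟩
      rw [← Nat.card_congr e, Nat.card_sum, two_mul]
    refine ⟨hcard, ?_⟩
    obtain ⟨⟨g, hg⟩, hgo⟩ := IsCyclic.exists_ofOrder_eq_natCard (α := A)
    rw [Subgroup.orderOf_mk] at hgo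
    refine TwoGroups.nonempty_equiv_dihedral hg.1 hn hgo hn2 (hinv g hg.2) ?_ hcard
    exact fun h' => hnT ((Subgroup.zpowers_le.2 hg.2) h')

/-- The upper unitriangular elements form a Sylow subgroup normalised by `BP`. -/
theorem exists_sylow_BP [Fintype F] (p : ℕ) [Fact p.Prime] [CharP F p] :
    ∃ P : Sylow p PSL(2, F), (P : Subgroup PSL(2, F)) = upGroup ∧
      BP ≤ Subgroup.normalizer ((P : Subgroup PSL(2, F)) : Set PSL(2, F)) := by
  obtain ⟨P, hP, -⟩ := exists_sylow_eq (H := (⊤ : Subgroup PSL(2, F))) p (w₀ := 1)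
    (Subgroup.mem_top _) one_ne_zero
  have hs : Function.Surjective (⊤ : Subgroup PSL(2, F)).subtype := fun y => ⟨⟨y, trivial⟩, rfl⟩
  refine ⟨P.mapSurjective hs, ?_, ?_⟩
  · rw [Sylow.coe_mapSurjective, hP, Subgroup.map_subgroupOf_eq_of_le le_top]
  · rw [Sylow.coe_mapSurjective, hP, Subgroup.map_subgroupOf_eq_of_le le_top]
    intro b hb
    rw [← conjS_eq_self_iff]
    refine Subgroup.eq_of_le_of_card_ge ?_ (card_conjS b _).ge
    intro y hy
    obtain ⟨v, hv⟩ := mem_conjS.1 hy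
    refine ⟨chi b * v, ?_⟩
    rw [← conj_u hb, hv]
    simp [mul_assoc]

theorem IsSubfieldGroup.data [Fintype F] {p : ℕ} {H : Subgroup PSL(2, F)}
    (h : IsSubfieldGroup p H) :
    ∃ (K : Type) (_ : Field K) (_ : Fintype K) (m : ℕ), Fintype.card K ^ m = Fintype.card F ∧
      (Nonempty (H ≃* PSL(2, K)) ∨ Nonempty (H ≃* PGL(2, K))) := by
  obtain ⟨K, iK, iK', ι, a, w, h⟩ := h
  obtain ⟨e⟩ := nonempty_equiv_conjS a H
  refine ⟨K, iK, iK', ?_⟩
  letI : Algebra K F := ι.toAlgebra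
  refine ⟨Module.finrank K F, (Module.card_eq_pow_finrank (K := K) (V := F)).symm, ?_⟩
  rcases h with h | ⟨-, h⟩
  · exact Or.inl ⟨e.trans ((MulEquiv.subgroupCongr h).trans
      (MonoidHom.ofInjective (psiS_injective ι w)).symm)⟩
  · exact Or.inr ⟨e.trans (((conjS a H).equivMapOfInjective _
      ProjectiveSpecialLinearGroup.toPGL_injective).trans ((MulEquiv.subgroupCongr h).trans
      (MonoidHom.ofInjective (psiP_injective ι w)).symm))⟩

end CfsgLib.DicksonPSL2
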