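import Cfsg.Agent.DicksonPSL2.Exceptional

/-!
# Overgroups of `tetra` and `ico`
-/

set_option autoImplicit false
set_option linter.unusedSectionVars false

open scoped Classical

namespace CfsgLib.DicksonPSL2

open Matrix CfsgLib.SL2Trace
open scoped MatrixGroups

variable {F : Type*} [Field F] [Fintype F]

theorem not_isSolvable_alt_five : ¬ Group.IsSolvable (alternatingGroup (Fin 5)) := by
  intro h
  have := alternatingGroup.isSimpleGroup_five
  have hc := (IsSimpleGroup.comm_iff_isSolvable (G := alternatingGroup (Fin 5))).2 h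
  revert hc
  decide +kernel

namespace QuatPair

variable (P : QuatPair F)

theorem tetra_facts : ∃ w : PSL(2, F), w ∈ P.tetra ∧ proj P.i ∈ P.tetra ∧
    orderOf w = 3 ∧ w⁻¹ * proj P.i * w * (proj P.i)⁻¹ = proj P.k ∧
    w * proj P.k ≠ proj P.k * w := by
  obtain ⟨W, hW⟩ := P.exists_omega
  obtain ⟨h1, h2, h3⟩ := P.omega_rels hW
  have hw : proj W ∈ P.tetra := Subgroup.subset_closure (by rw [P.tetraSet_eq hW]; simp)
  have hi : proj P.i ∈ P.tetra := Subgroup.subset_closure (by rw [P.tetraSet_eq hW]; simp)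
  have e2 : proj W * proj P.j = proj P.i * proj W := congrArg proj h2
  have e1 : proj W * proj P.i = proj P.k * proj W := congrArg proj h1
  have hii : (proj P.i)⁻¹ = proj P.i := inv_eq_of_mul_eq_one_right (proj_sq _ P.ii)
  refine ⟨proj W, hw, hi, ?_, ?_, ?_⟩
  · have := Fact.mk Nat.prime_three
    refine orderOf_eq_prime (by rw [pow_succ, pow_two, ← proj_mul, ← proj_mul, h3]; rfl) ?_
    intro e
    rw [e, one_mul, mul_one] at e1
    exact P.proj_k_ne_i e1.symm
  · rw [mul_assoc (proj W)⁻¹, ← e2, inv_mul_cancel_left, hii, P.proj_comm]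
    rfl
  · intro h
    have e3 : proj W * proj P.k = proj P.j * proj W := by
      rw [show proj P.k = proj P.i * proj P.j from rfl, ← mul_assoc, e1, mul_assoc, e2, ← mul_assoc]
      congr 1
      rw [show proj P.k = proj P.i * proj P.j from rfl, ← P.proj_comm, mul_assoc,
        proj_sq _ P.ii, mul_one]
    exact P.proj_k_ne_j (mul_right_cancel (h.symm.trans e3))

theorem tetra_not_inBorel {K : Subgroup PSL(2, F)} (hle : P.tetra ≤ K) : ¬ InBorel K := by
  rintro ⟨a, ha⟩
  obtain ⟨p, hpc⟩ := CharP.exists F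
  have : Fact p.Prime := ⟨CharP.char_is_prime F p⟩
  obtain ⟨w, hw, hi, -, he, -⟩ := P.tetra_facts
  have hm : ∀ x ∈ P.tetra, a * x * a⁻¹ ∈ BP :=
    fun x hx => ha (mem_conjS.2 (by simpa [mul_assoc] using hle hx))
  have h1 : chi (a * proj P.k * a⁻¹) = 1 := by
    set x := a * w * a⁻¹ with hx
    set y := a * proj P.i * a⁻¹ with hy
    have hxB : x ∈ BP := hm w hw
    have hyB : y ∈ BP := hm _ hi
    rw [← he, show a * (w⁻¹ * proj P.i * w * (proj P.i)⁻¹) * a⁻¹ = x⁻¹ * y * x * y⁻¹ by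
      rw [hx, hy]; group]
    have e : chi x⁻¹ * chi x = 1 := by rw [← chi_mul _ hxB, inv_mul_cancel, chi_one]
    have e' : chi y * chi y⁻¹ = 1 := by rw [← chi_mul _ (inv_mem hyB), mul_inv_cancel, chi_one]
    rw [chi_mul _ (inv_mem hyB), chi_mul _ hxB, chi_mul _ hyB]
    linear_combination (chi y * chi y⁻¹) * e + e'
  obtain ⟨v, hv⟩ := eq_u_of_chi_eq_one
    (hm _ (P.four_le_tetra (P.mem_four.2 (Or.inr (Or.inr (Or.inr rfl)))))) h1
  have hk1 : proj P.k ≠ 1 := fun e => P.proj_i_ne_j (by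
    rw [show proj P.k = proj P.i * proj P.j from rfl, mul_eq_one_iff_eq_inv] at e
    rw [e, inv_eq_of_mul_eq_one_right (proj_sq _ P.jj)])
  have hk2 : (proj P.k) ^ 2 = 1 := by rw [pow_two]; exact proj_sq _ P.kk
  have hp : (proj P.k) ^ p = 1 := by
    have h2 : (a * proj P.k * a⁻¹) ^ p = 1 := by
      by_contra hne
      exact not_isTor_u v (hv ▸ (isTor_iff_pow p _).2 hne)
    rwa [conj_pow, conj_eq_one_iff] at h2
  have ho : orderOf (proj P.k) = 2 := by
    have := Fact.mk Nat.prime_two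
    exact orderOf_eq_prime hk2 hk1
  have hdvd := orderOf_dvd_of_pow_eq_one hp
  rw [ho, Nat.prime_dvd_prime_iff_eq Nat.prime_two Fact.out] at hdvd
  subst hdvd
  exact P.two_ne (by exact_mod_cast CharP.cast_eq_zero F 2)

theorem tetra_not_inTorusNormalizer {K : Subgroup PSL(2, F)} (hle : P.tetra ≤ K) :
    ¬ InTorusNormalizer K := by
  rintro ⟨x, hx, hK⟩
  obtain ⟨w, hw, hi, hwo, he, hne⟩ := P.tetra_facts
  have hwx := (mem_normalizer_torus_iff hx).1 (hK (hle hw))
  have hwT : w ∈ torus x := by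
    refine (mem_or_inverts hx hwx).resolve_right fun h => ?_
    have := Nat.le_of_dvd two_pos (orderOf_dvd_of_pow_eq_one (by rw [pow_two]; exact h.1 : w ^ 2 = 1))
    omega
  have hiwT : proj P.i * w * (proj P.i)⁻¹ ∈ torus x :=
    (Subgroup.mem_normalizer_iff.1 (hK (hle hi)) w).1 hwT
  have hkT : proj P.k ∈ torus x := by
    rw [← he, mul_assoc w⁻¹, mul_assoc w⁻¹]
    exact mul_mem (inv_mem hwT) hiwT
  exact hne (torus_comm hx hwT hkT)

end QuatPair

theorem eq_pow_of_card {p : ℕ} (hp : p.Prime) {Q m n : ℕ} (hQ : 2 ≤ Q) (hm : 1 ≤ m)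
    (h : Q ^ m = p ^ n) : ∃ a, 1 ≤ a ∧ Q = p ^ a ∧ a * m = n := by
  obtain ⟨a, -, rfl⟩ := (Nat.dvd_prime_pow hp).1 (h ▸ dvd_pow_self Q (by omega : m ≠ 0))
  rw [← pow_mul] at h
  refine ⟨a, ?_, rfl, Nat.pow_right_injective hp.two_le h⟩
  rcases Nat.eq_zero_or_pos a with rfl | ha
  · rw [pow_zero] at hQ; omega
  · exact ha

end CfsgLib.DicksonPSL2
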