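import Cfsg.Agent.DicksonPSL2.SubfieldMax

/-!
# Maximal triangular and torus-normalising subgroups
-/

set_option autoImplicit false
set_option linter.unusedSectionVars false

namespace CfsgLib.DicksonPSL2

open Matrix CfsgLib.SL2Trace
open scoped MatrixGroups

variable {F : Type*} [Field F] [Fintype F] {M : Subgroup PSL(2, F)}

theorem BP_ne_top : (BP (F := F)) ≠ ⊤ := by
  intro h
  have h1 := index_BP F
  rw [h, Subgroup.index_top] at h1
  have := card_ge_two F
  omega

/-- A maximal subgroup fixing a point is a conjugate of the triangular group. -/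
theorem card_of_isCoatom_inBorel (hM : IsCoatom M) (h : InBorel M) :
    Nat.gcd 2 (Fintype.card F - 1) * Nat.card M = Fintype.card F * (Fintype.card F - 1) := by
  obtain ⟨a, ha⟩ := h
  have hM' : IsCoatom (conjS a M) := ((MulAut.conj a).mapSubgroup).isCoatom_iff M |>.2 hM
  rcases hM'.le_iff.1 ha with e | e
  · exact absurd e BP_ne_top
  · rw [← card_conjS a M, ← e, card_BP]

theorem normalizer_torus_ne_top (h4 : 4 ≤ Fintype.card F) {x : PSL(2, F)} (hx : IsTor x) :
    Subgroup.normalizer (torus x : Set PSL(2, F)) ≠ ⊤ := by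
  intro h
  have h1 := InTorusNormalizer.card_le (H := (⊤ : Subgroup PSL(2, F))) ⟨x, hx, by rw [h]⟩
  rw [Subgroup.card_top, card_PSL_formula] at h1
  have : Fintype.card F * (Fintype.card F - 1) * (Fintype.card F + 1) ≥
      4 * 3 * (Fintype.card F + 1) :=
    Nat.mul_le_mul_right _ (Nat.mul_le_mul h4 (by omega))
  omega

/-- A maximal subgroup normalising a torus is the whole normaliser, a dihedral group. -/
theorem dihedral_of_isCoatom (h4 : 4 ≤ Fintype.card F) (hM : IsCoatom M) (h : InTorusNormalizer M) :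
    ∃ x : PSL(2, F), IsTor x ∧ M = Subgroup.normalizer (torus x : Set PSL(2, F)) ∧
      Nat.card M = 2 * Nat.card (torus x) ∧
      Nonempty (M ≃* DihedralGroup (Nat.card (torus x))) := by
  obtain ⟨x, hx, hle⟩ := h
  rcases hM.le_iff.1 hle with e | e
  · exact absurd e (normalizer_torus_ne_top h4 hx)
  · obtain ⟨h1, ⟨f⟩⟩ := card_normalizer_torus hx
    exact ⟨x, hx, e.symm, by rw [← e, h1], ⟨(MulEquiv.subgroupCongr e.symm).trans f⟩⟩

/-- A subgroup of order six normalises a torus when the characteristic is two. -/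
theorem inTorusNormalizer_of_card_six [CharP F 2] {H : Subgroup PSL(2, F)} (h : Nat.card H = 6) :
    InTorusNormalizer H := by
  have := Fact.mk Nat.prime_two
  have := Fact.mk Nat.prime_three
  obtain ⟨⟨t, ht⟩, hto⟩ := exists_prime_orderOf_dvd_card' (G := H) 3 (by rw [h]; norm_num)
  have hto' : orderOf t = 3 := by rwa [Subgroup.orderOf_mk] at hto
  have hx : IsTor t := by
    rw [isTor_iff_pow 2]
    intro e
    have := Nat.le_of_dvd two_pos (orderOf_dvd_of_pow_eq_one e)
    omega
  have hidx : (Subgroup.zpowers (⟨t, ht⟩ : H)).index = 2 := by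
    have h1 := (Subgroup.zpowers (⟨t, ht⟩ : H)).card_mul_index
    rw [Nat.card_zpowers, hto, h] at h1
    omega
  have hn := Subgroup.normal_of_index_eq_two hidx
  refine ⟨t, hx, fun n hn' => (mem_normalizer_torus_iff hx).2 ?_⟩
  obtain ⟨k, hk⟩ := hn.conj_mem _ (Subgroup.mem_zpowers (⟨t, ht⟩ : H)) ⟨n, hn'⟩
  have e := congrArg Subtype.val hk
  simp only [Subgroup.coe_zpow, Subgroup.coe_mul, Subgroup.coe_inv] at e
  rw [← e]
  exact zpow_mem (self_mem_torus t) k

end CfsgLib.DicksonPSL2
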