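import Cfsg.Agent.DicksonPSL2.MaximalExceptional
import Cfsg.Agent.DicksonPSL2.ExceptionalMax
import Cfsg.Agent.DicksonPSL2.SubfieldMax
import Cfsg.Agent.DicksonPSL2.Maximal

/-!
# Maximal subgroups of `PSL(2, q)`: the maximality direction
-/

set_option autoImplicit false
set_option linter.unusedSectionVars false

open scoped Classical

namespace CfsgLib.DicksonPSL2

open Matrix CfsgLib.SL2Trace
open scoped MatrixGroups

variable {F : Type*} [Field F] [Fintype F]

/-- The triangular group is maximal. -/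
theorem isCoatom_BP : IsCoatom (BP (F := F)) := by
  refine ⟨BP_ne_top, fun X hX => ?_⟩
  obtain ⟨x, hx, hxB⟩ := Set.exists_of_ssubset hX
  have hle : BP ≤ X := hX.le
  have htr : trans X = ⊤ := eq_top_iff.2 fun w _ => (mem_trans X).2 (hle (u_mem_BP w))
  have hq : Nat.card (trans X) = Fintype.card F := by
    rw [htr, AddSubgroup.card_top, Nat.card_eq_fintype_card]
  obtain ⟨j, hj, -⟩ := exists_card_slopes X
  have hup : Nat.card (slopes X) ≤ Fintype.card F := by
    rw [← Nat.card_eq_fintype_card]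
    exact Nat.card_le_card_of_injective _ Subtype.val_injective
  have hpos : 0 < Nat.card (slopes X) :=
    Nat.card_pos_iff.2 ⟨⟨⟨slope x, x, ⟨hx, hxB⟩, rfl⟩⟩, inferInstance⟩
  have hS : Nat.card (slopes X) = Fintype.card F := by
    rw [hq] at hj
    have hj1 : 1 ≤ j := by
      rcases Nat.eq_zero_or_pos j with rfl | h
      · rw [mul_zero] at hj; omega
      · exact h
    have := Nat.le_mul_of_pos_right (Fintype.card F) hj1
    omega
  have h1 := index_BP_subgroupOf X
  rw [hS, ← index_BP F] at h1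
  have h2 := (BP.subgroupOf X).card_mul_index
  rw [h1, Nat.card_congr (Subgroup.subgroupOfEquivOfLe hle).toEquiv, (BP (F := F)).card_mul_index] at h2
  exact Subgroup.eq_top_of_card_eq _ h2.symm

variable (p : ℕ) [Fact p.Prime] [CharP F p]

include p in
/-- Torus normalisers of dihedral parameter at least six, or three over `F₅`, are maximal. -/
theorem isCoatom_normalizer_torus (hodd : Odd (Fintype.card F)) (h5 : 5 ≤ Fintype.card F)
    {x : PSL(2, F)} (hx : IsTor x)
    (h : 6 ≤ Nat.card (torus x) ∨ (Fintype.card F = 5 ∧ Nat.card (torus x) = 3)) :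
    IsCoatom (Subgroup.normalizer (torus x : Set PSL(2, F))) := by
  obtain ⟨hN, -⟩ := card_normalizer_torus hx
  set N := Subgroup.normalizer (torus x : Set PSL(2, F)) with hNdef
  set k := Nat.card (torus x) with hk
  have hd : Nat.gcd 2 (Fintype.card F - 1) = 2 := by
    rcases gcd_two_cases F with ⟨-, h', -⟩ | ⟨h', -⟩
    · exact h'
    · exact absurd h' (Nat.not_even_iff_odd.2 hodd)
  have hq2 := Nat.odd_iff.1 hodd
  have hxc := card_torus hx
  rw [← hk, hd] at hxc
  refine ⟨normalizer_torus_ne_top (by omega) hx, fun X hX => ?_⟩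
  by_contra hXtop
  have hle : N ≤ X := hX.le
  have hNX : 2 * k ∣ Nat.card X := hN ▸ Subgroup.card_dvd_of_le hle
  have hne : Nat.card X ≠ 2 * k := fun h' =>
    hX.ne (Subgroup.eq_of_le_of_card_ge hle (by rw [hN, h']))
  have := isCyclic_torus hx
  obtain ⟨⟨t, htT⟩, hto⟩ := IsCyclic.exists_ofOrder_eq_natCard (α := torus x)
  rw [Subgroup.orderOf_mk, ← hk] at hto
  have hTX : torus x ≤ X := Subgroup.le_normalizer.trans hle
  obtain ⟨m, hm, hmT⟩ : ∃ m ∈ N, m ∉ torus x := by
    refine SetLike.not_le_iff_exists.1 fun h' => ?_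
    have := Subgroup.card_le_of_le h'
    rw [hN, ← hk] at this
    omega
  have hinv := ((mem_or_inverts hx ((mem_normalizer_torus_iff hx).1 hm)).resolve_left hmT).2 t htT
  have ht1 : t ≠ 1 := by
    rintro rfl
    rw [orderOf_one] at hto
    omega
  rcases h with hk6 | ⟨hq, hk3⟩
  swap
  · have h60 := two_mul_card_PSL hodd
    rw [hq] at h60
    have hX60 := X.card_mul_index
    rw [show Nat.card PSL(2, F) = 60 by omega] at hX60
    have hidx : X.index ≠ 1 := fun e => hXtop (Subgroup.index_eq_one.1 e)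
    have hidx2 : X.index ≠ 2 := fun e => by
      have hn := Subgroup.normal_of_index_eq_two e
      have : IsSimpleGroup PSL(2, F) := Linear.isSimpleGroup_PSL_of 2 le_rfl fun _ => by omega
      rcases hn.eq_bot_or_eq_top with e' | e'
      · rw [e', Subgroup.card_bot] at hNX
        have := Nat.le_of_dvd one_pos hNX
        omega
      · exact hXtop e'
    obtain ⟨c, hc⟩ := hNX
    rw [hk3] at hc hne
    rw [hc] at hX60 hne
    have h10 : c * X.index = 10 := by
      have e : 6 * (c * X.index) = 6 * 10 := by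
        rw [← mul_assoc]
        linarith
      omega
    have hc5 : c = 2 ∨ c = 5 ∨ c = 10 := by
      have hdvd : c ∣ 10 := Dvd.intro _ h10
      have := Nat.le_of_dvd (by norm_num) hdvd
      interval_cases c <;> omega
    rcases hc5 with rfl | rfl | rfl
    · rcases subgroup_cases_sharp p X with h | h | ⟨-, -, ⟨f⟩⟩ | ⟨h, -, -⟩ | ⟨h, -, -⟩ | h
      · refine not_inBorel_of_inverted (isTor_of_mem_torus hx htT ht1).1 ?_ (hTX htT) (hle hm) hinv h
        intro ht2
        have := Nat.le_of_dvd two_pos (orderOf_dvd_of_pow_eq_one (by rw [pow_two]; exact ht2 : t ^ 2 = 1))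
        omega
      · have := h.card_le
        rw [hd, hq, hc] at this
        omega
      · refine alt_four_no_inverting (f ⟨t, hTX htT⟩) (f ⟨m, hle hm⟩) ?_ ?_ ?_
        · rw [← map_pow, MulEquiv.map_eq_one_iff]
          exact Subtype.ext (show t ^ 3 = 1 by rw [← hk3, ← hto, pow_orderOf_eq_one])
        · rw [ne_eq, MulEquiv.map_eq_one_iff]
          exact fun e => ht1 (congrArg Subtype.val e)
        · rw [← map_inv, ← map_mul, ← map_mul, ← map_inv]
          exact congrArg f (Subtype.ext hinv)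
      · omega
      · omega
      · obtain ⟨Q, r, hQ, hr, hr1, hc'⟩ := h.card_cases
        rw [hq] at hr
        obtain ⟨a, ha, rfl, har⟩ := eq_pow_of_card (show Nat.Prime 5 by norm_num) hQ hr1 (n := 1)
          (by rw [hr, pow_one])
        obtain ⟨rfl, rfl⟩ : a = 1 ∧ r = 1 :=
          ⟨Nat.eq_one_of_mul_eq_one_right har, Nat.eq_one_of_mul_eq_one_left har⟩
        rcases hc' with hc' | ⟨-, he, -⟩
        · rw [hc] at hc'
          norm_num at hc'
        · exact absurd he (by decide)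
    · omega
    · omega
  rcases subgroup_cases p X with h | h | ⟨h, hp, ⟨f⟩⟩ | ⟨h, hp, ⟨f⟩⟩ | ⟨h, hp, ⟨f⟩⟩ | h
  · refine not_inBorel_of_inverted (isTor_of_mem_torus hx htT ht1).1 ?_ (hTX htT) (hle hm) hinv h
    intro ht2
    have := Nat.le_of_dvd two_pos (orderOf_dvd_of_pow_eq_one (by rw [pow_two]; exact ht2 : t ^ 2 = 1))
    omega
  · have h1 := h.card_le
    rw [hd] at h1
    obtain ⟨c, hc⟩ := hNX
    have hc2 : 2 ≤ c := by
      rcases show c = 0 ∨ c = 1 ∨ 2 ≤ c by omega with rfl | rfl | h2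
      · rw [mul_zero] at hc
        exact absurd hc Nat.card_pos.ne'
      · exact absurd (by rw [hc, mul_one]) hne
      · exact h2
    have h3 := Nat.mul_le_mul_left (2 * k) hc2
    omega
  all_goals try
    have h1 : orderOf (f ⟨t, hTX htT⟩) = k := by rw [MulEquiv.orderOf_eq, Subgroup.orderOf_mk, hto]
  · rcases alt_four_pow (f ⟨t, hTX htT⟩) with h2 | h2 <;>
      have := Nat.le_of_dvd (by norm_num) (h1 ▸ orderOf_dvd_of_pow_eq_one h2) <;> omega
  · rcases perm_four_pow (f ⟨t, hTX htT⟩) with h2 | h2 <;>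
      have := Nat.le_of_dvd (by norm_num) (h1 ▸ orderOf_dvd_of_pow_eq_one h2) <;> omega
  · rcases alt_five_pow (f ⟨t, hTX htT⟩) with h2 | h2 | h2 <;>
      have := Nat.le_of_dvd (by norm_num) (h1 ▸ orderOf_dvd_of_pow_eq_one h2) <;> omega
  · rcases h.orderOf_le with h | ⟨Q, hQ, hQq, hQX, hord⟩
    · exact hXtop h
    have h1 := hord t (hTX htT)
    rw [hto] at h1
    have : 5 * Q ≤ Q * Q := Nat.mul_le_mul_right Q (by omega)
    rw [pow_two] at hQq
    omega

/-- A copy of `A₄` is `tetra` of some pair. -/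
theorem exists_tetra_eq (hodd : Odd (Fintype.card F)) (f : alternatingGroup (Fin 4) →* PSL(2, F))
    (hf : Function.Injective f) : ∃ P : QuatPair F, P.tetra = f.range := by
  obtain ⟨V, hVn, hVc, hVe⟩ := exists_four_alt
  obtain ⟨P, hfour, hnorm⟩ := exists_pair_of_model (Linear.two_ne_zero_of_odd hodd) f hf V hVc hVe
  refine ⟨P, (P.tetra_eq_of_card ?_ hfour hnorm).symm⟩
  rw [← Nat.card_congr (MonoidHom.ofInjective hf).toEquiv, nat_card_alternatingGroup, Nat.card_fin]
  norm_num [Nat.factorial]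

include p in
/-- `A₄` is maximal in `PSL(2, p)` for `p ≡ ±3 (mod 8)`, `p ≢ ±1 (mod 10)`. -/
theorem isCoatom_tetra (hF : Fintype.card F = p) (h5 : 5 ≤ p) (h8 : p % 8 = 3 ∨ p % 8 = 5)
    (h10 : p % 10 ≠ 1 ∧ p % 10 ≠ 9) (P : QuatPair F) : IsCoatom P.tetra := by
  have hodd : Odd (Fintype.card F) := by rw [hF, Nat.odd_iff]; omega
  have hG := two_mul_card_PSL hodd
  rw [hF] at hG
  have hG60 := (sixty_le_card_PSL hodd (by omega)).1
  refine ⟨fun h => ?_, fun X hX => ?_⟩
  · have := P.card_tetra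
    rw [h, Subgroup.card_top] at this
    omega
  by_contra hXtop
  have hle : P.tetra ≤ X := hX.le
  have h12 : 12 < Nat.card X := by
    rcases lt_or_eq_of_le (P.card_tetra ▸ Subgroup.card_le_of_le hle) with h | h
    · exact h
    · exact absurd (Subgroup.eq_of_le_of_card_ge hle (by rw [P.card_tetra, ← h])) hX.ne
  have hGX := Subgroup.card_subgroup_dvd_card X
  rcases subgroup_cases_sharp p X with h | h | ⟨h, -, -⟩ | ⟨h, -, -⟩ | ⟨h, ⟨-, hp5⟩, -⟩ | h
  · exact P.tetra_not_inBorel hle h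
  · exact P.tetra_not_inTorusNormalizer hle h
  · omega
  · rw [h] at hGX
    rcases mod_eight_of_dvd hodd ((show 8 ∣ 24 by norm_num).trans hGX) with e | e <;> omega
  · rw [h] at hGX
    rcases mod_ten_of_dvd p hp5 hodd ((show 5 ∣ 60 by norm_num).trans hGX) with e | e <;> omega
  · obtain ⟨Q, m, hQ, hm, hm1, h'⟩ := h.card_cases
    obtain ⟨a, ha, rfl, ham⟩ := eq_pow_of_card (Fact.out : p.Prime) hQ hm1 (n := 1)
      (by rw [hm, hF, pow_one])
    obtain ⟨rfl, rfl⟩ : a = 1 ∧ m = 1 :=
      ⟨Nat.eq_one_of_mul_eq_one_right ham, Nat.eq_one_of_mul_eq_one_left ham⟩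
    rcases h' with h' | ⟨-, he, -⟩
    · rw [pow_one, show Nat.gcd 2 (p - 1) = 2 from Nat.gcd_eq_left (by omega)] at h'
      exact hXtop (Subgroup.eq_top_of_card_eq _ (by omega))
    · exact absurd he (by decide)

theorem dvd_of_sq_sub_one_dvd {p a b : ℕ} (hp : 2 ≤ p) (ha : 1 ≤ a)
    (h : p ^ (2 * a) - 1 ∣ 2 * (p ^ (2 * b) - 1)) : a ∣ b := by
  have h1 : p ^ (2 * a) - 1 ∣ 2 * (p ^ (2 * Nat.gcd a b) - 1) := by
    have h2 := Nat.dvd_gcd (dvd_mul_left (p ^ (2 * a) - 1) 2) h
    rwa [Nat.gcd_mul_left, Nat.pow_sub_one_gcd_pow_sub_one, Nat.gcd_mul_left] at h2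
  by_contra hab
  obtain ⟨c, hc⟩ := Nat.gcd_dvd_left a b
  set g := Nat.gcd a b with hg
  have hg0 : 0 < g := Nat.pos_of_ne_zero fun e => by rw [e, zero_mul] at hc; omega
  have hc2 : 2 ≤ c := by
    rcases show c = 0 ∨ c = 1 ∨ 2 ≤ c by omega with rfl | rfl | hh
    · omega
    · exact absurd (by rw [hc, mul_one, hg]; exact Nat.gcd_dvd_right a b) hab
    · exact hh
  have h2 : 2 * g ≤ a := by rw [hc, mul_comm 2 g]; exact Nat.mul_le_mul_left g hc2
  have h3 : p ^ (2 * g) ≤ p ^ a := Nat.pow_le_pow_right (by omega) h2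
  have h4 : 2 * p ^ a ≤ p ^ (2 * a) := by
    rw [two_mul a, pow_add]
    exact Nat.mul_le_mul_right _ (le_trans hp (Nat.le_self_pow (by omega) p))
  have h5 : 2 ≤ p ^ (2 * g) := le_trans hp (Nat.le_self_pow (by omega) p)
  have := Nat.le_of_dvd (by omega) h1
  omega

include p in
/-- A subfield group of odd prime degree is maximal. -/
theorem isCoatom_range_psiS (hodd : Odd (Fintype.card F)) {K : Type*} [Field K] [Fintype K]
    (ι : K →+* F) (w : Fˣ) {r : ℕ} (hr : r.Prime) (hro : Odd r)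
    (hF : Fintype.card F = Fintype.card K ^ r) : IsCoatom (psiS ι w).range := by
  have hp : p.Prime := Fact.out
  have hKp : CharP K p := RingHom.charP ι ι.injective p
  obtain ⟨⟨a, ha⟩, -, hK⟩ := FiniteField.card K p
  rw [PNat.mk_coe] at hK
  obtain ⟨⟨n, hn0⟩, -, hn⟩ := FiniteField.card F p
  rw [PNat.mk_coe] at hn
  have hp3 : 3 ≤ p := by
    have := hp.two_le
    rcases show p = 2 ∨ 3 ≤ p by omega with rfl | h
    · rw [hn] at hodd
      exact absurd ((even_two).pow_of_ne_zero (by omega)) (Nat.not_even_iff_odd.2 hodd)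
    · exact h
  have hnar : n = a * r := Nat.pow_right_injective hp.two_le (show p ^ n = p ^ (a * r) by rw [← hn, hF, hK, ← pow_mul])
  have hKodd : Odd (Fintype.card K) := hK ▸ (hp.odd_of_ne_two (by omega)).pow
  have hgcdK : Nat.gcd 2 (Fintype.card K - 1) = 2 := by
    rcases gcd_two_cases K with ⟨-, h, -⟩ | ⟨h, -⟩
    · exact h
    · exact absurd h (Nat.not_even_iff_odd.2 hKodd)
  have hc := card_range_psiS ι w
  rw [hgcdK] at hc
  have hQ3 : 3 ≤ Fintype.card K := by rw [hK]; exact le_trans hp3 (Nat.le_self_pow (by omega) p)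
  have hQlt : Fintype.card K < Fintype.card F := by
    rw [hF]
    calc Fintype.card K = Fintype.card K ^ 1 := (pow_one _).symm
      _ < _ := Nat.pow_lt_pow_right (by omega) hr.one_lt
  have hG := two_mul_card_PSL hodd
  refine ⟨fun htop => ?_, fun X hX => ?_⟩
  · rw [htop, Subgroup.card_top, hG] at hc
    have := Nat.mul_lt_mul_of_lt_of_le
      (Nat.mul_lt_mul_of_lt_of_le hQlt (show Fintype.card K - 1 ≤ Fintype.card F - 1 by omega) (by omega))
      (show Fintype.card K + 1 ≤ Fintype.card F + 1 by omega) (by omega)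
    omega
  by_contra hXtop
  have hle : (psiS ι w).range ≤ X := hX.le
  have hdvd := Subgroup.card_dvd_of_le hle
  have hlt : Nat.card (psiS ι w).range < Nat.card X := by
    rcases lt_or_eq_of_le (Subgroup.card_le_of_le hle) with h | h
    · exact h
    · exact absurd (Subgroup.eq_of_le_of_card_ge hle h.ge) hX.ne
  obtain ⟨Q₀⟩ := exists_quatPair hKodd
  obtain ⟨e⟩ := Q₀.nonempty_tetra_equiv
  obtain ⟨P, hP⟩ := exists_tetra_eq hodd ((psiS ι w).comp (Q₀.tetra.subtype.comp e.symm.toMonoidHom))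
    ((psiS_injective ι w).comp (Subtype.val_injective.comp e.symm.injective))
  have hPX : P.tetra ≤ X := hP ▸ le_trans (by rintro _ ⟨z, rfl⟩; exact ⟨_, rfl⟩) hle
  rcases subgroup_cases_sharp p X with h | h | ⟨h, ⟨-, h3⟩, -⟩ | ⟨h, ⟨-, h3⟩, -⟩ | ⟨h, ⟨-, h5⟩, -⟩ | h
  · exact P.tetra_not_inBorel hPX h
  · exact P.tetra_not_inTorusNormalizer hPX h
  iterate 2
    · have h5 : 5 ≤ Fintype.card K := by
        rw [hK]
        refine le_trans ?_ (Nat.le_self_pow (by omega) p)
        have : p ≠ 4 := by rintro rfl; norm_num at hp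
        omega
      have : 5 * 4 * 6 ≤ Fintype.card K * (Fintype.card K - 1) * (Fintype.card K + 1) :=
        Nat.mul_le_mul (Nat.mul_le_mul h5 (by omega)) (by omega)
      omega
  · have hK5 : Fintype.card K ≠ 5 := fun e' => h5
      ((Nat.prime_dvd_prime_iff_eq hp (by norm_num)).1 (e' ▸ hK ▸ dvd_pow_self p (by omega)))
    have hK' := Nat.odd_iff.1 hKodd
    rcases show Fintype.card K = 3 ∨ 7 ≤ Fintype.card K by omega with hQ | hQ
    · have hGX := Subgroup.card_subgroup_dvd_card X
      rw [h] at hGX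
      have h10 := mod_ten_of_dvd p h5 hodd ((show 5 ∣ 60 by norm_num).trans hGX)
      obtain ⟨j, rfl⟩ := hro
      rw [hF, hQ, pow_succ, pow_mul, Nat.mul_mod, Nat.pow_mod] at h10
      rcases Nat.even_or_odd j with ⟨i, rfl⟩ | ⟨i, rfl⟩ <;>
        simp [pow_succ, pow_mul, ← two_mul, Nat.mul_mod, Nat.pow_mod] at h10
    · have : 7 * 6 * 8 ≤ Fintype.card K * (Fintype.card K - 1) * (Fintype.card K + 1) :=
        Nat.mul_le_mul (Nat.mul_le_mul hQ (by omega)) (by omega)
      omega
  · obtain ⟨Q, m, hQ, hm, hm1, hcard⟩ := h.card_cases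
    obtain ⟨b, hb, rfl, hbm⟩ := eq_pow_of_card hp hQ hm1 (hm.trans hn)
    have hfdvd : 2 * Nat.card (psiS ι w).range ∣ 2 * (p ^ b * (p ^ b - 1) * (p ^ b + 1)) := by
      rcases hcard with hcard | ⟨-, -, hcard⟩
      · exact mul_dvd_mul_left 2 (hdvd.trans (Dvd.intro_left _ hcard))
      · exact mul_dvd_mul_left 2 (hcard ▸ hdvd)
    rw [hc, hK] at hfdvd
    have hab : a ∣ b := by
      refine dvd_of_sq_sub_one_dvd hp.two_le ha ?_
      have hsplit : ∀ c : ℕ, p ^ c * (p ^ c - 1) * (p ^ c + 1) = p ^ c * (p ^ (2 * c) - 1) :=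
        fun c => by
          rw [mul_assoc]
          congr 1
          rw [mul_comm, ← Nat.sq_sub_sq, one_pow, ← pow_mul, mul_comm c 2]
      rw [hsplit, hsplit] at hfdvd
      have hcop : Nat.Coprime (p ^ (2 * a) - 1) (p ^ b) := by
        apply Nat.Coprime.pow_right
        rw [Nat.coprime_comm, hp.coprime_iff_not_dvd]
        intro hd
        have h1 : p ∣ p ^ (2 * a) := dvd_pow_self p (by omega)
        have h2 : 1 ≤ p ^ (2 * a) := Nat.one_le_pow _ _ (by omega)
        have := Nat.dvd_sub h1 hd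
        rw [Nat.sub_sub_self h2, Nat.dvd_one] at this
        omega
      exact hcop.dvd_of_dvd_mul_left
        ((dvd_mul_left _ _).trans (hfdvd.trans (dvd_of_eq (mul_left_comm _ _ _))))
    obtain ⟨c, rfl⟩ := hab
    have hcm : c * m = r := by
      rw [hnar, mul_assoc] at hbm
      exact Nat.eq_of_mul_eq_mul_left ha hbm
    rcases (Nat.dvd_prime hr).1 (Dvd.intro m hcm) with rfl | rfl
    · rw [one_mul] at hcm
      subst hcm
      rw [mul_one, ← hK] at hcard
      rcases hcard with hcard | ⟨-, he, -⟩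
      · rw [hgcdK] at hcard
        omega
      · exact Nat.not_even_iff_odd.2 hro he
    · have hm1' : m = 1 := Nat.eq_of_mul_eq_mul_left hr.pos (hcm.trans (mul_one _).symm)
      subst hm1'
      rw [← hnar, ← hn] at hcard
      rcases hcard with hcard | ⟨-, he, -⟩
      · rw [← card_PSL_formula F] at hcard
        exact hXtop (Subgroup.eq_top_of_card_eq _
          (Nat.eq_of_mul_eq_mul_left (Nat.gcd_pos_of_pos_left _ two_pos) hcard))
      · exact absurd he (by decide)

end CfsgLib.DicksonPSL2
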