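import Mathlib

/-!
# Counting the elements covered by a conjugation-invariant family of disjoint subgroups
-/

set_option autoImplicit false

namespace CfsgLib.DicksonPSL2

variable {X : Type*} [Group X]

/-- The conjugate `g C g⁻¹`. -/
def conjS (g : X) (C : Subgroup X) : Subgroup X := C.map (MulAut.conj g).toMonoidHom

theorem mem_conjS {g x : X} {C : Subgroup X} : x ∈ conjS g C ↔ g⁻¹ * x * g ∈ C := by
  constructor
  · rintro ⟨y, hy, rfl⟩
    simpa [mul_assoc] using hy
  · exact fun h => ⟨_, h, by simp [mul_assoc]⟩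

theorem conjS_one (C : Subgroup X) : conjS 1 C = C := by ext x; simp [mem_conjS]

theorem conjS_mul (g h : X) (C : Subgroup X) : conjS (g * h) C = conjS g (conjS h C) := by
  ext x
  simp [mem_conjS, mul_assoc]

theorem conjS_inv_conjS (g : X) (C : Subgroup X) : conjS g⁻¹ (conjS g C) = C := by
  rw [← conjS_mul, inv_mul_cancel, conjS_one]

theorem card_conjS (g : X) (C : Subgroup X) : Nat.card (conjS g C) = Nat.card C :=
  (Nat.card_congr (C.equivMapOfInjective _ (MulAut.conj g).injective).toEquiv).symm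

theorem conjS_eq_self_iff [Finite X] {g : X} {C : Subgroup X} :
    conjS g C = C ↔ g ∈ Subgroup.normalizer (C : Set X) := by
  rw [Subgroup.mem_normalizer_iff]
  constructor
  · intro h y
    conv_rhs => rw [← h, mem_conjS]
    simp [mul_assoc]
  · intro h
    ext x
    rw [mem_conjS]
    conv_rhs => rw [show x = g * (g⁻¹ * x * g) * g⁻¹ by group]
    exact h _

theorem card_conjugates [Finite X] (C : Subgroup X) :
    Nat.card (Set.range fun g : X => conjS g C) = (Subgroup.normalizer (C : Set X)).index := by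
  rw [Subgroup.index]
  refine (Nat.card_congr (Equiv.ofBijective
    (fun q : X ⧸ Subgroup.normalizer (C : Set X) =>
      (⟨Quotient.liftOn' q (fun g => conjS g C) (fun a b h => ?_), ?_⟩ :
        Set.range fun g : X => conjS g C)) ⟨?_, ?_⟩)).symm
  · rw [QuotientGroup.leftRel_apply, ← conjS_eq_self_iff] at h
    conv_lhs => rw [← h]
    rw [← conjS_mul, mul_inv_cancel_left]
  · induction q using QuotientGroup.induction_on with
    | H g => exact ⟨g, rfl⟩
  · intro q r
    induction q using QuotientGroup.induction_on with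
    | H a =>
      induction r using QuotientGroup.induction_on with
      | H b =>
        intro h
        have h' : conjS a C = conjS b C := congrArg Subtype.val h
        rw [QuotientGroup.eq, ← conjS_eq_self_iff, conjS_mul, ← h', conjS_inv_conjS]
  · rintro ⟨_, g, rfl⟩
    exact ⟨QuotientGroup.mk g, rfl⟩

/-- The elements covered by a conjugation-invariant family of subgroups meeting trivially, counted
through representatives of its classes. -/
theorem exists_reps [Finite X] (S : Set (Subgroup X)) (stable : ∀ C ∈ S, ∀ g, conjS g C ∈ S)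
    (disj : ∀ C ∈ S, ∀ D ∈ S, ∀ x, x ∈ C → x ∈ D → x ≠ 1 → C = D) :
    ∃ R : Finset (Subgroup X), (∀ C ∈ R, C ∈ S) ∧
      (∀ C ∈ S, ∃ D ∈ R, ∃ g, conjS g D = C) ∧
      (∀ C ∈ R, ∀ D ∈ R, ∀ g, conjS g C = D → C = D) ∧
      (Nat.card {x : X // x ≠ 1 ∧ ∃ C ∈ S, x ∈ C} : ℚ) =
        Nat.card X * ∑ C ∈ R, ((Nat.card C : ℚ) - 1) / Nat.card (Subgroup.normalizer (C : Set X)) := by
  classical
  let st : Setoid (Subgroup X) :=
    ⟨fun C D => ∃ g, conjS g C = D, fun C => ⟨1, conjS_one C⟩,
      fun ⟨g, hg⟩ => ⟨g⁻¹, by rw [← hg, conjS_inv_conjS]⟩,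
      fun ⟨g, hg⟩ ⟨h, hh⟩ => ⟨h * g, by rw [conjS_mul, hg, hh]⟩⟩
  let rep : Subgroup X → Subgroup X := fun C => (Quotient.mk st C).out
  have hrep : ∀ C, ∃ g, conjS g (rep C) = C := fun C => Quotient.mk_out (s := st) C
  have hrepeq : ∀ C g, rep (conjS g C) = rep C := fun C g => by
    have : Quotient.mk st (conjS g C) = Quotient.mk st C :=
      (Quotient.sound (show st C (conjS g C) from ⟨g, rfl⟩)).symm
    simp only [rep, this]
  have hreprep : ∀ C, rep (rep C) = rep C := fun C => by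
    obtain ⟨g, hg⟩ := hrep C
    conv_rhs => rw [← hg]
    rw [hrepeq]
  have hmemS : ∀ C, C ∈ S → rep C ∈ S := fun C hC => by
    obtain ⟨g, hg⟩ := hrep C
    exact ((congrArg (conjS g⁻¹) hg).symm.trans (conjS_inv_conjS g (rep C))) ▸ stable C hC g⁻¹
  have hSf : S.Finite := Set.toFinite S
  refine ⟨hSf.toFinset.image rep, ?_, ?_, ?_, ?_⟩
  · intro C hC
    obtain ⟨D, hD, rfl⟩ := Finset.mem_image.1 hC
    exact hmemS D (hSf.mem_toFinset.1 hD)
  · exact fun C hC => ⟨rep C, Finset.mem_image_of_mem _ (hSf.mem_toFinset.2 hC), hrep C⟩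
  · intro C hC D hD g hg
    obtain ⟨C', -, rfl⟩ := Finset.mem_image.1 hC
    obtain ⟨D', -, rfl⟩ := Finset.mem_image.1 hD
    rw [← hreprep C', ← hreprep D', ← hg, hrepeq]
  · -- count pairs
    have e : {x : X // x ≠ 1 ∧ ∃ C ∈ S, x ∈ C} ≃ Σ C : {C // C ∈ hSf.toFinset}, {x : C.1 // x ≠ 1} := by
      refine Equiv.symm (Equiv.ofBijective (fun p => ⟨p.2.1.1, ?_, p.1.1, ?_, p.2.1.2⟩) ⟨?_, ?_⟩)
      · exact fun h => p.2.2 (Subtype.ext h)
      · exact hSf.mem_toFinset.1 p.1.2
      · rintro ⟨⟨C, hC⟩, ⟨⟨x, hx⟩, hx1⟩⟩ ⟨⟨D, hD⟩, ⟨⟨y, hy⟩, hy1⟩⟩ h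
        have hxy : x = y := congrArg Subtype.val h
        subst hxy
        obtain rfl : C = D := disj C (hSf.mem_toFinset.1 hC) D (hSf.mem_toFinset.1 hD) x hx hy
          fun h1 => hx1 (Subtype.ext h1)
        rfl
      · rintro ⟨x, hx1, C, hC, hxC⟩
        exact ⟨⟨⟨C, hSf.mem_toFinset.2 hC⟩, ⟨⟨x, hxC⟩, fun h => hx1 (congrArg Subtype.val h)⟩⟩, rfl⟩
    have hone : ∀ C : Subgroup X, (Nat.card {x : C // x ≠ 1} : ℚ) = (Nat.card C : ℚ) - 1 := fun C => by
      have := Fintype.ofFinite C
      rw [Nat.card_eq_fintype_card, Fintype.card_subtype_compl, Fintype.card_subtype_eq,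
        Nat.card_eq_fintype_card, Nat.cast_sub Fintype.card_pos, Nat.cast_one]
    rw [Nat.card_congr e, Nat.card_sigma, Nat.cast_sum, Finset.mul_sum]
    simp only [hone]
    rw [Finset.sum_coe_sort hSf.toFinset (fun C => (Nat.card C : ℚ) - 1),
      ← Finset.sum_fiberwise_of_maps_to (g := rep) (t := hSf.toFinset.image rep)
        (fun C hC => Finset.mem_image_of_mem _ hC)]
    refine Finset.sum_congr rfl fun D hD => ?_
    obtain ⟨D', hD', rfl⟩ := Finset.mem_image.1 hD
    have hfib : ((hSf.toFinset.filter fun C => rep C = rep D') : Set (Subgroup X)) =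
        Set.range fun g : X => conjS g (rep D') := by
      ext C
      simp only [Finset.coe_filter, Set.mem_ofPred_eq, hSf.mem_toFinset, Set.mem_range]
      constructor
      · intro hC
        obtain ⟨g, hg⟩ := hrep C
        exact ⟨g, hC.2 ▸ hg⟩
      · rintro ⟨g, rfl⟩
        exact ⟨stable _ (hmemS D' (hSf.mem_toFinset.1 hD')) g, by rw [hrepeq, hreprep]⟩
    have hcard : ∀ C ∈ hSf.toFinset.filter (fun C => rep C = rep D'),
        (Nat.card C : ℚ) - 1 = (Nat.card (rep D') : ℚ) - 1 := by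
      intro C hC
      obtain ⟨g, hg⟩ := hrep C
      rw [(Finset.mem_filter.1 hC).2] at hg
      rw [← hg, card_conjS]
    rw [Finset.sum_congr rfl hcard, Finset.sum_const, nsmul_eq_mul]
    have hn := card_conjugates (rep D')
    rw [← hfib, Nat.card_eq_fintype_card] at hn
    simp only [Finset.coe_sort_coe, Fintype.card_coe] at hn
    rw [hn]
    have hN : (Nat.card (Subgroup.normalizer ((rep D' : Subgroup X) : Set X)) : ℚ) ≠ 0 :=
      Nat.cast_ne_zero.2 Nat.card_pos.ne'
    rw [← Subgroup.index_mul_card (Subgroup.normalizer ((rep D' : Subgroup X) : Set X)), Nat.cast_mul]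
    field_simp

end CfsgLib.DicksonPSL2
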