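import Cfsg.Agent.DicksonPSL2.Borel
import Cfsg.Agent.DicksonPSL2.Counting

/-!
# The class equation of a subgroup of `PSL(2, q)`

For `H ≤ PSL(2, q)` the non-trivial elements are split between the Sylow `p`-subgroups of `H`,
which meet trivially, and the cyclic subgroups `comp H x = torus x ∩ H`, which are of index at most
two in their normalisers.
-/

set_option autoImplicit false
set_option linter.unusedSectionVars false

namespace CfsgLib.DicksonPSL2

open Matrix CfsgLib.SL2Trace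
open scoped MatrixGroups

variable {F : Type*} [Field F]

/-- Conjugation transports tori. -/
theorem torus_conj (a x : PSL(2, F)) : torus (a * x * a⁻¹) = conjS a (torus x) := by
  ext y
  rw [mem_conjS, ← conj_mem_torus_iff a x]
  simp [mul_assoc]

theorem mem_normalizer_torus_iff [Fintype F] {x n : PSL(2, F)} (hx : IsTor x) :
    n ∈ Subgroup.normalizer (torus x : Set PSL(2, F)) ↔ n * x * n⁻¹ ∈ torus x := by
  constructor
  · exact fun h => (Subgroup.mem_normalizer_iff.1 h x).1 (self_mem_torus x)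
  · intro h
    rw [← conjS_eq_self_iff, ← torus_conj]
    exact (isTor_of_mem_torus hx h fun e => ne_one_of_isTor hx (conj_eq_one_iff.1 e)).2

/-- Elements centralising a non-trivial element killed by the characteristic commute. -/
theorem comm_of_centralizes {x y z : PSL(2, F)} (hx : ¬ IsTor x) (hx1 : x ≠ 1)
    (hy : y * x = x * y) (hz : z * x = x * z) : y * z = z * y ∧ ¬ IsTor y := by
  obtain ⟨a, w, ha⟩ := exists_conj_u hx
  have hw : w ≠ 0 := by
    rintro rfl
    rw [u_zero, conj_eq_one_iff] at ha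
    exact hx1 ha
  have key : ∀ y, y * x = x * y → ∃ v, a * y * a⁻¹ = u v := fun y h => by
    refine exists_eq_u_of_comm hw ?_
    rw [← ha]
    simp only [mul_assoc, inv_mul_cancel_left]
    rw [← mul_assoc y, h, mul_assoc]
  obtain ⟨v, hv⟩ := key y hy
  obtain ⟨v', hv'⟩ := key z hz
  refine ⟨?_, ?_⟩
  · have : a * (y * z) * a⁻¹ = a * (z * y) * a⁻¹ := by
      have e1 : a * (y * z) * a⁻¹ = a * y * a⁻¹ * (a * z * a⁻¹) := by group
      have e2 : a * (z * y) * a⁻¹ = a * z * a⁻¹ * (a * y * a⁻¹) := by group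
      rw [e1, e2, hv, hv', ← u_add, ← u_add, add_comm]
    simpa using this
  · rw [← isTor_conj_iff a, hv]
    exact not_isTor_u v

variable (H : Subgroup PSL(2, F))

/-- The trace of a torus on `H`. -/
noncomputable def comp (x : H) : Subgroup H := (torus (x : PSL(2, F))).subgroupOf H

variable {H}

theorem mem_comp {x y : H} : y ∈ comp H x ↔ (y : PSL(2, F)) ∈ torus (x : PSL(2, F)) :=
  Subgroup.mem_subgroupOf

theorem self_mem_comp (x : H) : x ∈ comp H x := mem_comp.2 (self_mem_torus _)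

theorem coe_ne_one {y : H} (h : y ≠ 1) : (y : PSL(2, F)) ≠ 1 := fun e => h (Subtype.ext e)

theorem comp_eq_of_mem {x y : H} (hx : IsTor (x : PSL(2, F))) (hy : y ∈ comp H x) (hy1 : y ≠ 1) :
    IsTor (y : PSL(2, F)) ∧ comp H y = comp H x := by
  obtain ⟨h1, h2⟩ := isTor_of_mem_torus hx (mem_comp.1 hy) (coe_ne_one hy1)
  exact ⟨h1, by rw [comp, h2, comp]⟩

theorem conjS_comp (g x : H) : conjS g (comp H x) = comp H (g * x * g⁻¹) := by
  ext y
  simp only [mem_conjS, mem_comp, Subgroup.coe_mul, Subgroup.coe_inv]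
  rw [torus_conj, mem_conjS]

theorem comp_comm {x y z : H} (hx : IsTor (x : PSL(2, F))) (hy : y ∈ comp H x)
    (hz : z ∈ comp H x) : y * z = z * y :=
  Subtype.ext (torus_comm hx (mem_comp.1 hy) (mem_comp.1 hz))

variable [Fintype F]

theorem isCyclic_comp {x : H} (hx : IsTor (x : PSL(2, F))) : IsCyclic (comp H x) := by
  have := isCyclic_torus hx
  exact isCyclic_of_injective ((H.subtype.domRestrict (comp H x)).codRestrict (torus (x : PSL(2, F)))
    fun y => mem_comp.1 y.2)
    (fun a b h => Subtype.ext (Subtype.ext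
      (congrArg (fun t : torus (x : PSL(2, F)) => (t : PSL(2, F))) h)))

theorem two_le_card_comp {x : H} (hx : IsTor (x : PSL(2, F))) : 2 ≤ Nat.card (comp H x) := by
  rw [Nat.succ_le_iff, Finite.one_lt_card_iff_nontrivial]
  exact ⟨⟨x, self_mem_comp x⟩, 1, fun h => ne_one_of_isTor hx
    (congrArg (fun z : comp H x => ((z : H) : PSL(2, F))) h)⟩

theorem card_comp_dvd_card_torus (x : H) :
    Nat.card (comp H x) ∣ Nat.card (torus (x : PSL(2, F))) := by
  refine Subgroup.card_dvd_of_injective ((H.subtype.domRestrict (comp H x)).codRestrict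
    (torus (x : PSL(2, F))) fun y => mem_comp.1 y.2) ?_
  exact fun a b h => Subtype.ext (Subtype.ext
    (congrArg (fun t : torus (x : PSL(2, F)) => (t : PSL(2, F))) h))

theorem not_dvd_card_comp (p : ℕ) [Fact p.Prime] [CharP F p] {x : H} (hx : IsTor (x : PSL(2, F))) :
    ¬ p ∣ Nat.card (comp H x) :=
  fun h => not_dvd_card_torus p hx (h.trans (card_comp_dvd_card_torus x))

theorem mem_normalizer_comp_iff {x n : H} (hx : IsTor (x : PSL(2, F))) :
    n ∈ Subgroup.normalizer (comp H x : Set H) ↔ n * x * n⁻¹ ∈ comp H x := by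
  constructor
  · exact fun h => (Subgroup.mem_normalizer_iff.1 h x).1 (self_mem_comp x)
  · intro h
    rw [← conjS_eq_self_iff, conjS_comp]
    refine (comp_eq_of_mem hx h fun e => ne_one_of_isTor hx ?_).2
    rw [conj_eq_one_iff] at e
    rw [e]; rfl

/-- An element normalising a component lies in it or is an involution inverting it. -/
theorem mem_comp_or_inverts {x n : H} (hx : IsTor (x : PSL(2, F))) (hn : n * x * n⁻¹ ∈ comp H x) :
    n ∈ comp H x ∨ (n * n = 1 ∧ ∀ y ∈ comp H x, n * y * n⁻¹ = y⁻¹) := by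
  rcases mem_or_inverts hx (n := (n : PSL(2, F))) (by simpa using mem_comp.1 hn) with h | ⟨h1, h2⟩
  · exact Or.inl (mem_comp.2 h)
  · exact Or.inr ⟨Subtype.ext (by simpa using h1),
      fun y hy => Subtype.ext (by simpa using h2 _ (mem_comp.1 hy))⟩

theorem comp_le_normalizer (x : H) : comp H x ≤ Subgroup.normalizer (comp H x : Set H) :=
  Subgroup.le_normalizer

/-- A component has index at most two in its normaliser. -/
theorem card_normalizer_comp {x : H} (hx : IsTor (x : PSL(2, F))) :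
    Nat.card (Subgroup.normalizer (comp H x : Set H)) = Nat.card (comp H x) ∨
      (Nat.card (Subgroup.normalizer (comp H x : Set H)) = 2 * Nat.card (comp H x) ∧
        ∃ n : H, n ∉ comp H x ∧ n * n = 1 ∧ ∀ y ∈ comp H x, n * y * n⁻¹ = y⁻¹) := by
  set N := Subgroup.normalizer (comp H x : Set H) with hN
  set C := comp H x with hC
  by_cases h : ∃ n ∈ N, n ∉ C
  · obtain ⟨n, hn, hn'⟩ := h
    right
    have hinv := (mem_comp_or_inverts hx ((mem_normalizer_comp_iff hx).1 hn)).resolve_left hn'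
    refine ⟨?_, n, hn', hinv⟩
    have hcov : ∀ m ∈ N, m ∉ C → n⁻¹ * m ∈ C := by
      intro m hm hm'
      refine mem_comp.2 ?_
      simp only [Subgroup.coe_mul, Subgroup.coe_inv]
      refine div_mem_torus hx ?_ ?_ (fun h => hm' (mem_comp.2 h)) (fun h => hn' (mem_comp.2 h))
      · simpa using mem_comp.1 ((mem_normalizer_comp_iff hx).1 hm)
      · simpa using mem_comp.1 ((mem_normalizer_comp_iff hx).1 hn)
    have hle : C ≤ N := comp_le_normalizer x
    have e : (C ⊕ C) ≃ N := by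
      refine Equiv.ofBijective (Sum.elim (fun c => ⟨c.1, hle c.2⟩)
        (fun c => ⟨n * c.1, mul_mem hn (hle c.2)⟩)) ⟨?_, ?_⟩
      · rintro (⟨a, ha⟩ | ⟨a, ha⟩) (⟨b, hb⟩ | ⟨b, hb⟩) e <;>
          simp only [Sum.elim_inl, Sum.elim_inr, Subtype.mk.injEq] at e
        · subst e; rfl
        · exact absurd (by rw [show n = a * b⁻¹ by rw [e]; group]; exact mul_mem ha (inv_mem hb)) hn'
        · exact absurd (by rw [show n = b * a⁻¹ by rw [← e]; group]; exact mul_mem hb (inv_mem ha)) hn'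
        · obtain rfl := mul_left_cancel e
          rfl
      · rintro ⟨m, hm⟩
        by_cases hm' : m ∈ C
        · exact ⟨Sum.inl ⟨m, hm'⟩, rfl⟩
        · exact ⟨Sum.inr ⟨n⁻¹ * m, hcov m hm hm'⟩, Subtype.ext (mul_inv_cancel_left n m)⟩
    rw [← Nat.card_congr e, Nat.card_sum, two_mul]
  · push Not at h
    left
    rw [show N = C from le_antisymm (fun n hn => h n hn) (comp_le_normalizer x)]

/-- If the normaliser of a component is everything, `H` normalises the torus. -/
theorem le_normalizer_torus_of_card {x : H} (hx : IsTor (x : PSL(2, F)))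
    (h : Nat.card (Subgroup.normalizer (comp H x : Set H)) = Nat.card H) :
    H ≤ Subgroup.normalizer (torus (x : PSL(2, F)) : Set PSL(2, F)) := by
  intro n hn
  rw [mem_normalizer_torus_iff hx]
  have hm : (⟨n, hn⟩ : H) ∈ Subgroup.normalizer (comp H x : Set H) := by
    rw [Subgroup.eq_top_of_card_eq _ h]; exact Subgroup.mem_top _
  simpa using mem_comp.1 ((mem_normalizer_comp_iff hx).1 hm)

variable (p : ℕ) [Fact p.Prime] [CharP F p]

/-- The elements of a Sylow subgroup for the characteristic commute and are not semisimple. -/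
theorem sylow_comm (P : Sylow p H) {x y : H} (hx : x ∈ (P : Subgroup H)) (hy : y ∈ (P : Subgroup H)) :
    x * y = y * x ∧ ¬ IsTor (x : PSL(2, F)) := by
  rcases subsingleton_or_nontrivial (P : Subgroup H) with h | h
  · have h1 := congrArg Subtype.val (Subsingleton.elim (⟨x, hx⟩ : (P : Subgroup H)) 1)
    simp only [OneMemClass.coe_one] at h1
    subst h1
    exact ⟨by simp, not_isTor_one⟩
  · have := P.isPGroup'.center_nontrivial
    obtain ⟨⟨⟨z, hzP⟩, hz⟩, hz1⟩ := exists_ne (1 : Subgroup.center (P : Subgroup H))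
    obtain ⟨m, hm, hm'⟩ := P.isPGroup'.nontrivial_iff_card.1 h
    have hzpow : ∀ w : H, w ∈ (P : Subgroup H) → ¬ IsTor (w : PSL(2, F)) := by
      intro w hw htor
      have h1 : orderOf w ∣ p ^ m := hm' ▸ Subgroup.orderOf_dvd_natCard _ hw
      obtain ⟨j, -, hj⟩ := (Nat.dvd_prime_pow (Fact.out : p.Prime)).1 h1
      rcases Nat.eq_zero_or_pos j with rfl | hj0
      · rw [pow_zero, orderOf_eq_one_iff] at hj
        exact ne_one_of_isTor htor (by rw [hj]; rfl)
      · have h2 : p ∣ Nat.card (torus (w : PSL(2, F))) :=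
          (dvd_pow_self p hj0.ne').trans (hj ▸ (Subgroup.orderOf_coe w) ▸
            Subgroup.orderOf_dvd_natCard _ (self_mem_torus _))
        exact not_dvd_card_torus p htor h2
    have hz1' : (z : PSL(2, F)) ≠ 1 := fun e => hz1 (Subtype.ext (Subtype.ext (Subtype.ext e)))
    have hc : ∀ w : H, w ∈ (P : Subgroup H) → (w : PSL(2, F)) * z = z * w := fun w hw =>
      congrArg (fun t : (P : Subgroup H) => ((t : H) : PSL(2, F)))
        (Subgroup.mem_center_iff.1 hz ⟨w, hw⟩)
    exact ⟨Subtype.ext (comm_of_centralizes (hzpow z hzP) hz1' (hc x hx) (hc y hy)).1, hzpow x hx⟩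

/-- A non-trivial element lies in at most one Sylow subgroup for the characteristic. -/
theorem sylow_eq_of_mem {P P' : Sylow p H} {x : H} (hx : x ∈ (P : Subgroup H))
    (hx' : x ∈ (P' : Subgroup H)) (h1 : x ≠ 1) : P = P' := by
  have hnt := (sylow_comm p P hx hx).2
  have key : ∀ Q : Sylow p H, x ∈ (Q : Subgroup H) →
      Subgroup.centralizer ({x} : Set H) = (Q : Subgroup H) := by
    intro Q hQ
    refine Q.is_maximal' (fun y => ⟨1, ?_⟩)
      (fun w hw => Subgroup.mem_centralizer_singleton_iff.2 (sylow_comm p Q hw hQ).1)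
    have hy : (y : H) * x = x * y := Subgroup.mem_centralizer_singleton_iff.1 y.2
    have hy' : ¬ IsTor ((y : H) : PSL(2, F)) :=
      (comm_of_centralizes hnt (coe_ne_one h1) (congrArg Subtype.val hy) rfl).2
    rw [isTor_iff_pow p, not_not] at hy'
    rw [pow_one]
    exact Subtype.ext (Subtype.ext hy')
  exact Sylow.ext ((key P hx).symm.trans (key P' hx'))

theorem exists_sylow_of_not_isTor {x : H} (hx : ¬ IsTor (x : PSL(2, F))) :
    ∃ P : Sylow p H, x ∈ (P : Subgroup H) := by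
  rw [isTor_iff_pow p, not_not] at hx
  have hp : IsPGroup p (Subgroup.zpowers x) := by
    have h1 : x ^ p = 1 := Subtype.ext (by simpa using hx)
    have h2 : orderOf x ∣ p ^ 1 := by rw [pow_one]; exact orderOf_dvd_of_pow_eq_one h1
    obtain ⟨j, -, hj⟩ := (Nat.dvd_prime_pow (Fact.out : p.Prime)).1 h2
    exact IsPGroup.of_card (n := j) (by rw [Nat.card_zpowers, hj])
  obtain ⟨P, hP⟩ := hp.exists_le_sylow
  exact ⟨P, hP (Subgroup.mem_zpowers x)⟩

/-- The class equation. -/
theorem class_equation (P : Sylow p H) :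
    ∃ R : Finset (Subgroup H),
      (∀ C ∈ R, ∃ x : H, IsTor (x : PSL(2, F)) ∧ C = comp H x) ∧
      (∀ x : H, IsTor (x : PSL(2, F)) → ∃ D ∈ R, ∃ g, conjS g D = comp H x) ∧
      (∀ C ∈ R, ∀ D ∈ R, ∀ g, conjS g C = D → C = D) ∧
      1 - 1 / (Nat.card H : ℚ) =
        ((Nat.card (P : Subgroup H) : ℚ) - 1) /
            Nat.card (Subgroup.normalizer ((P : Subgroup H) : Set H)) +
          ∑ C ∈ R, ((Nat.card C : ℚ) - 1) / Nat.card (Subgroup.normalizer (C : Set H)) := by
  classical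
  obtain ⟨R, hR1, hR2, hR3, hR4⟩ := exists_reps {C : Subgroup H | ∃ x : H, IsTor (x : PSL(2, F)) ∧
    C = comp H x} (by
      rintro C ⟨x, hx, rfl⟩ g
      exact ⟨g * x * g⁻¹, by simpa [isTor_conj_iff] using hx, conjS_comp g x⟩) (by
      rintro C ⟨x, hx, rfl⟩ D ⟨y, hy, rfl⟩ z hz hz' hz1
      rw [← (comp_eq_of_mem hx hz hz1).2, (comp_eq_of_mem hy hz' hz1).2])
  obtain ⟨R', hR1', hR2', hR3', hR4'⟩ := exists_reps (Set.range fun P : Sylow p H => (P : Subgroup H))
    (by
      rintro C ⟨Q, rfl⟩ g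
      exact ⟨g • Q, rfl⟩)
    (by
      rintro C ⟨Q, rfl⟩ D ⟨Q', rfl⟩ z hz hz' hz1
      exact congrArg _ (sylow_eq_of_mem p hz hz' hz1))
  obtain ⟨D, hD, g, hg⟩ := hR2' P ⟨P, rfl⟩
  have hsingle : R' = {D} := by
    rw [Finset.eq_singleton_iff_unique_mem]
    refine ⟨hD, fun C hC => ?_⟩
    obtain ⟨Q, rfl⟩ := hR1' C hC
    obtain ⟨Q', rfl⟩ := hR1' D hD
    obtain ⟨a, ha⟩ := MulAction.exists_smul_eq H Q' Q
    exact (hR3' _ hD _ hC a (by rw [← ha]; rfl)).symm
  have hDP : ((Nat.card D : ℚ) - 1) / Nat.card (Subgroup.normalizer (D : Set H)) =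
      ((Nat.card (P : Subgroup H) : ℚ) - 1) /
        Nat.card (Subgroup.normalizer ((P : Subgroup H) : Set H)) := by
    have hN : Subgroup.normalizer ((P : Subgroup H) : Set H) =
        conjS g (Subgroup.normalizer (D : Set H)) := by
      ext n
      rw [← conjS_eq_self_iff, mem_conjS, ← conjS_eq_self_iff, ← hg]
      constructor
      · intro h
        rw [← conjS_mul] at h
        rw [show g⁻¹ * n * g = g⁻¹ * (n * g) by group, conjS_mul, h, conjS_inv_conjS]
      · intro h
        rw [← conjS_mul, show n * g = g * (g⁻¹ * n * g) by group, conjS_mul, h]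
    rw [hN, card_conjS, ← hg, card_conjS]
  refine ⟨R, hR1, fun x hx => hR2 _ ⟨x, hx, rfl⟩, hR3, ?_⟩
  rw [← hDP]
  rw [hsingle, Finset.sum_singleton] at hR4'
  have hsum : Nat.card H = 1 + (Nat.card {x : H // x ≠ 1 ∧ ∃ C ∈ (Set.range fun P : Sylow p H =>
      (P : Subgroup H)), x ∈ C} + Nat.card {x : H // x ≠ 1 ∧
      ∃ C ∈ {C : Subgroup H | ∃ x : H, IsTor (x : PSL(2, F)) ∧ C = comp H x}, x ∈ C}) := by
    have h1 : Nat.card {x : H // x = 1} = 1 := Nat.card_unique
    rw [← Nat.card_sum, ← h1, ← Nat.card_sum]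
    refine (Nat.card_congr (Equiv.ofBijective
      (Sum.elim Subtype.val (Sum.elim Subtype.val Subtype.val)) ⟨?_, ?_⟩)).symm
    · have hexcl : ∀ x : H, (∃ C ∈ (Set.range fun P : Sylow p H => (P : Subgroup H)), x ∈ C) →
          (∃ C ∈ {C : Subgroup H | ∃ x : H, IsTor (x : PSL(2, F)) ∧ C = comp H x}, x ∈ C) →
          x ≠ 1 → False := by
        rintro x ⟨_, ⟨Q, rfl⟩, hx⟩ ⟨_, ⟨y, hy, rfl⟩, hxy⟩ hx1
        exact (sylow_comm p Q hx hx).2 (comp_eq_of_mem hy hxy hx1).1
      rintro (⟨x, hx⟩ | ⟨x, hx, hx'⟩ | ⟨x, hx, hx'⟩) (⟨y, hy⟩ | ⟨y, hy, hy'⟩ | ⟨y, hy, hy'⟩) e <;>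
        simp only [Sum.elim_inl, Sum.elim_inr] at e <;> subst e <;>
        first
          | rfl
          | exact absurd hx hy
          | exact absurd hy hx
          | exact (hexcl x hx' hy' hx).elim
          | exact (hexcl x hy' hx' hx).elim
    · intro x
      by_cases hx1 : x = 1
      · exact ⟨Sum.inl ⟨x, hx1⟩, rfl⟩
      by_cases ht : IsTor (x : PSL(2, F))
      · exact ⟨Sum.inr (Sum.inr ⟨x, hx1, comp H x, ⟨x, ht, rfl⟩, self_mem_comp x⟩), rfl⟩
      · obtain ⟨Q, hQ⟩ := exists_sylow_of_not_isTor p ht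
        exact ⟨Sum.inr (Sum.inl ⟨x, hx1, _, ⟨Q, rfl⟩, hQ⟩), rfl⟩
  have hsumQ := congrArg (Nat.cast : ℕ → ℚ) hsum
  push_cast at hsumQ
  rw [hR4, hR4'] at hsumQ
  have hne : (Nat.card H : ℚ) ≠ 0 := Nat.cast_ne_zero.2 Nat.card_pos.ne'
  apply mul_left_cancel₀ hne
  rw [mul_sub, mul_one, mul_one_div_cancel hne, mul_add]
  linear_combination hsumQ

/-- Two components whose orders have a common divisor `> 2` are conjugate. -/
theorem exists_conj_comp_of_gcd {x y : H} (hx : IsTor (x : PSL(2, F))) (hy : IsTor (y : PSL(2, F)))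
    (hd : 3 ≤ Nat.gcd (Nat.card (comp H x)) (Nat.card (comp H y))) :
    ∃ g : H, conjS g (comp H x) = comp H y := by
  set d := Nat.gcd (Nat.card (comp H x)) (Nat.card (comp H y)) with hdd
  obtain ⟨r, m, hr, hm, hmd, hm3⟩ : ∃ r m : ℕ, r.Prime ∧ (∃ k, m = r ^ k) ∧ m ∣ d ∧ 3 ≤ m := by
    rcases Nat.four_dvd_or_exists_odd_prime_and_dvd_of_two_lt (show 2 < d by omega) with h | ⟨r, hr, hrd, hodd⟩
    · exact ⟨2, 4, Nat.prime_two, ⟨2, rfl⟩, h, by norm_num⟩
    · refine ⟨r, r, hr, ⟨1, (pow_one r).symm⟩, hrd, ?_⟩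
      have := hr.two_le
      rcases eq_or_lt_of_le this with h2 | h2
      · subst h2; exact absurd hodd (by decide)
      · omega
  haveI : Fact r.Prime := ⟨hr⟩
  have key : ∀ z : H, IsTor (z : PSL(2, F)) → m ∣ Nat.card (comp H z) →
      ∃ a ∈ comp H z, orderOf a = m := by
    intro z hz hmz
    have := isCyclic_comp hz
    obtain ⟨a, ha⟩ := IsCyclic.exists_ofOrder_eq_natCard (α := comp H z)
    refine ⟨(a : H) ^ (Nat.card (comp H z) / m), pow_mem a.2 _, ?_⟩
    rw [← Subgroup.orderOf_coe] at ha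
    rw [orderOf_pow' _ (Nat.div_pos (Nat.le_of_dvd Nat.card_pos hmz) (by omega)).ne', ha,
      Nat.gcd_eq_right (Nat.div_dvd_of_dvd hmz), Nat.div_div_self hmz Nat.card_pos.ne']
  obtain ⟨a, ha, hao⟩ := key x hx (hmd.trans (Nat.gcd_dvd_left _ _))
  obtain ⟨b, hb, hbo⟩ := key y hy (hmd.trans (Nat.gcd_dvd_right _ _))
  have hgrp : ∀ c : H, orderOf c = m → IsPGroup r (Subgroup.zpowers c) := fun c hc => by
    obtain ⟨k, hk⟩ := hm
    exact IsPGroup.of_card (n := k) (by rw [Nat.card_zpowers, hc, hk])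
  have hne : ∀ c : H, orderOf c = m → c ≠ 1 := fun c hc e => by
    rw [e, orderOf_one] at hc; omega
  obtain ⟨R, hR⟩ := (hgrp a hao).exists_le_sylow
  have haR := hR (Subgroup.mem_zpowers a)
  haveI : Nontrivial (R : Subgroup H) :=
    ⟨⟨a, haR⟩, 1, fun h => hne a hao (congrArg Subtype.val h)⟩
  have := R.isPGroup'.center_nontrivial
  obtain ⟨⟨⟨z, hzR⟩, hz⟩, hz1⟩ := exists_ne (1 : Subgroup.center (R : Subgroup H))
  have hz1' : z ≠ 1 := fun e => hz1 (Subtype.ext (Subtype.ext e))
  have hc : ∀ w : H, w ∈ (R : Subgroup H) → w * z = z * w := fun w hw =>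
    congrArg Subtype.val (Subgroup.mem_center_iff.1 hz ⟨w, hw⟩)
  have hzt : IsTor (z : PSL(2, F)) := by
    by_contra hzt
    have h1 := (comm_of_centralizes hzt (coe_ne_one hz1')
      (congrArg Subtype.val (hc a haR)) rfl).2
    exact h1 (comp_eq_of_mem hx ha (hne a hao)).1
  have hin : ∀ c : H, c ∈ (R : Subgroup H) → orderOf c = m → c ∈ comp H z := by
    intro c hcR hco
    refine (mem_comp_or_inverts hzt ?_).resolve_right fun h => ?_
    · rw [hc c hcR, mul_inv_cancel_right]; exact self_mem_comp z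
    · have : orderOf c ∣ 2 := orderOf_dvd_of_pow_eq_one (by rw [pow_two]; exact h.1)
      have := Nat.le_of_dvd (by norm_num) this
      omega
  obtain ⟨R', hR'⟩ := (hgrp b hbo).exists_le_sylow
  obtain ⟨g, hg⟩ := MulAction.exists_smul_eq H R' R
  have hbR : g * b * g⁻¹ ∈ (R : Subgroup H) := by
    rw [← hg]
    exact ⟨b, hR' (Subgroup.mem_zpowers b), by simp⟩
  have hbo' : orderOf (g * b * g⁻¹) = m := by
    rw [← hbo]
    exact orderOf_injective (MulAut.conj g).toMonoidHom (MulAut.conj g).injective b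
  have e1 : comp H x = comp H z := by
    rw [← (comp_eq_of_mem hx ha (hne a hao)).2,
      (comp_eq_of_mem hzt (hin a haR hao) (hne a hao)).2]
  have hbin : g * b * g⁻¹ ∈ comp H (g * y * g⁻¹) := by
    rw [← conjS_comp, mem_conjS]
    simpa [mul_assoc] using hb
  have e2 : conjS g (comp H y) = comp H z := by
    rw [conjS_comp, ← (comp_eq_of_mem (by simpa [isTor_conj_iff] using hy) hbin (hne _ hbo')).2,
      (comp_eq_of_mem hzt (hin _ hbR hbo') (hne _ hbo')).2]
  exact ⟨g⁻¹, by rw [e1, ← e2, conjS_inv_conjS]⟩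

end CfsgLib.DicksonPSL2
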