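import Cfsg.Agent.DicksonPSL2.Quaternion
import Cfsg.Agent.DicksonPSL2.ElementOrders
import Cfsg.Agent.Linear.SL2Sylow
import Cfsg.Agent.Small.Dihedral
import Cfsg.Agent.Linear.Perfect

/-!
# The subgroups `A₄` and `A₅` of `PSL(2, q)` given by quaternion pairs

`tetra P` is generated by the images of `i`, `j`, `ω = (-1+i+j+k)/2`; with a root `φ` of
`x² = x + 1` the element `g = (φ + (φ-1) i + j)/2` extends it to `ico P φ`.
-/

set_option autoImplicit false
set_option linter.unusedSectionVars false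

open scoped Classical

namespace CfsgLib.DicksonPSL2

open Matrix CfsgLib.SL2Trace
open CfsgLib.SL2Tori (tr)
open scoped MatrixGroups

variable {F : Type*} [Field F]

theorem zphi_root {φ : F} (h : φ * φ = φ + 1) : φ * φ = (1 : ℤ) • 1 + (1 : ℤ) • φ := by
  simp [h, add_comm]

/-- The evaluation `ℤ[φ] → F`. -/
noncomputable def zphiHom (φ : F) (h : φ * φ = φ + 1) : Zphi →+* F :=
  (QuadraticAlgebra.lift ⟨φ, zphi_root h⟩).toRingHom

theorem zphiHom_zp (φ : F) (h : φ * φ = φ + 1) (m n : ℤ) :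
    zphiHom φ h (zp m n) = (m : F) + (n : F) * φ := by
  show m • (1 : F) + n • φ = _
  simp

namespace QuatPair

variable (P : QuatPair F)

/-- The images of `i`, `j`, `ω`. -/
noncomputable def tetraSet : Set PSL(2, F) :=
  {z | ∃ s ∈ tetraGens, z = s.toPSL P (Int.castRingHom F)}

/-- The tetrahedral group. -/
noncomputable def tetra : Subgroup PSL(2, F) := Subgroup.closure P.tetraSet

/-- The icosahedral group. -/
noncomputable def ico (φ : F) (h : φ * φ = φ + 1) : Subgroup PSL(2, F) :=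
  Subgroup.closure {z | ∃ s ∈ icoGens, z = s.toPSL P (zphiHom φ h)}

theorem exists_omega : ∃ w : SL(2, F), w.1 = P.qc (-1 / 2) (1 / 2) (1 / 2) (1 / 2) := by
  refine ⟨⟨P.qc (-1 / 2) (1 / 2) (1 / 2) (1 / 2), ?_⟩, rfl⟩
  have h2 := P.two_ne
  rw [P.det_qc]
  field_simp
  norm_num

theorem i_eq_qc : P.i.1 = P.qc 0 1 0 0 := by simp [qc]
theorem j_eq_qc : P.j.1 = P.qc 0 0 1 0 := by simp [qc]
theorem k_eq_qc : P.k.1 = P.qc 0 0 0 1 := by simp [qc]

theorem neg_qc (a b c d : F) : -P.qc a b c d = P.qc (-a) (-b) (-c) (-d) := by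
  simp only [qc]; module

theorem half_ne (P' : QuatPair F) : (1 / 2 : F) ≠ 0 := one_div_ne_zero P'.two_ne

theorem tetraSet_eq {w : SL(2, F)} (hw : w.1 = P.qc (-1 / 2) (1 / 2) (1 / 2) (1 / 2)) :
    P.tetraSet = {proj P.i, proj P.j, proj w} := by
  have h2 := P.two_ne
  have ei : (⟨0, 2, 0, 0⟩ : Quat ℤ).toPSL P (Int.castRingHom F) = proj P.i :=
    Quat.toPSL_eq P _ _ (by norm_num) _ (by rw [P.i_eq_qc, Quat.evalMat]; simp [h2])
  have ej : (⟨0, 0, 2, 0⟩ : Quat ℤ).toPSL P (Int.castRingHom F) = proj P.j :=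
    Quat.toPSL_eq P _ _ (by norm_num) _ (by rw [P.j_eq_qc, Quat.evalMat]; simp [h2])
  have ew : (⟨-1, 1, 1, 1⟩ : Quat ℤ).toPSL P (Int.castRingHom F) = proj w :=
    Quat.toPSL_eq P _ _ (by norm_num) _ (by rw [hw, Quat.evalMat]; simp)
  ext z
  simp [tetraSet, tetraGens, ei, ej, ew]

/-- The conjugation action of `ω`. -/
theorem omega_rels {w : SL(2, F)} (hw : w.1 = P.qc (-1 / 2) (1 / 2) (1 / 2) (1 / 2)) :
    w * P.i = P.k * w ∧ w * P.j = P.i * w ∧ w * w * w = 1 := by
  have h2 := P.two_ne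
  refine ⟨Subtype.ext ?_, Subtype.ext ?_, Subtype.ext ?_⟩
  · rw [Matrix.SpecialLinearGroup.coe_mul, Matrix.SpecialLinearGroup.coe_mul, hw, P.i_eq_qc,
      P.k_eq_qc, P.qc_mul, P.qc_mul]
    congr 1 <;> ring
  · rw [Matrix.SpecialLinearGroup.coe_mul, Matrix.SpecialLinearGroup.coe_mul, hw, P.i_eq_qc,
      P.j_eq_qc, P.qc_mul, P.qc_mul]
    congr 1 <;> ring
  · rw [Matrix.SpecialLinearGroup.coe_mul, Matrix.SpecialLinearGroup.coe_mul, hw, P.qc_mul,
      P.qc_mul, Matrix.SpecialLinearGroup.coe_one, P.one_eq_qc]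
    congr 1 <;> field_simp <;> ring

theorem proj_i_ne_one : proj P.i ≠ 1 := by
  rw [ne_eq, proj_eq_one_iff]
  rintro (h | h) <;> have e := congrArg Subtype.val h <;>
    simp only [Matrix.SpecialLinearGroup.coe_neg, Matrix.SpecialLinearGroup.coe_one] at e <;>
    rw [P.i_eq_qc, P.one_eq_qc] at e
  · exact one_ne_zero (P.qc_inj e).2.1
  · rw [P.neg_qc] at e
    simpa using (P.qc_inj e).2.1

theorem proj_j_ne_one : proj P.j ≠ 1 := by
  rw [ne_eq, proj_eq_one_iff]
  rintro (h | h) <;> have e := congrArg Subtype.val h <;>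
    simp only [Matrix.SpecialLinearGroup.coe_neg, Matrix.SpecialLinearGroup.coe_one] at e <;>
    rw [P.j_eq_qc, P.one_eq_qc] at e
  · exact one_ne_zero (P.qc_inj e).2.2.1
  · rw [P.neg_qc] at e
    simpa using (P.qc_inj e).2.2.1

theorem proj_ne {x y : SL(2, F)} {a b c d a' b' c' d' : F} (hx : x.1 = P.qc a b c d)
    (hy : y.1 = P.qc a' b' c' d') (h : b ≠ b' ∧ b ≠ -b' ∨ c ≠ c' ∧ c ≠ -c' ∨ d ≠ d' ∧ d ≠ -d') :
    proj x ≠ proj y := by
  rw [ne_eq, proj_eq_proj_iff]
  rintro (e | e) <;> have e := congrArg Subtype.val e <;>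
    (try simp only [Matrix.SpecialLinearGroup.coe_neg] at e) <;> rw [hx, hy] at e
  · obtain ⟨-, hb, hc, hd⟩ := P.qc_inj e
    rcases h with h | h | h
    · exact h.1 hb.symm
    · exact h.1 hc.symm
    · exact h.1 hd.symm
  · rw [P.neg_qc] at e
    obtain ⟨-, hb, hc, hd⟩ := P.qc_inj e
    rcases h with h | h | h
    · exact h.2 (by rw [hb, neg_neg])
    · exact h.2 (by rw [hc, neg_neg])
    · exact h.2 (by rw [hd, neg_neg])

theorem proj_i_ne_j : proj P.i ≠ proj P.j := P.proj_ne P.i_eq_qc P.j_eq_qc (Or.inl ⟨by simp, by simp⟩)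
theorem proj_k_ne_i : proj P.k ≠ proj P.i := P.proj_ne P.k_eq_qc P.i_eq_qc (Or.inl ⟨by simp, by simp⟩)
theorem proj_k_ne_j : proj P.k ≠ proj P.j :=
  P.proj_ne P.k_eq_qc P.j_eq_qc (Or.inr (Or.inl ⟨by simp, by simp⟩))

theorem proj_sq (x : SL(2, F)) (h : x * x = -1) : proj x * proj x = 1 := by
  rw [← proj_mul, h, proj_eq_one_iff]; exact Or.inr rfl

theorem orderOf_proj_i : orderOf (proj P.i) = 2 :=
  orderOf_eq_prime (by rw [pow_two, proj_sq _ P.ii]) P.proj_i_ne_one

theorem orderOf_proj_j : orderOf (proj P.j) = 2 :=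
  orderOf_eq_prime (by rw [pow_two, proj_sq _ P.jj]) P.proj_j_ne_one

theorem proj_comm : proj P.j * proj P.i = proj P.i * proj P.j := by
  rw [← proj_mul, ← proj_mul, P.ji, proj_neg]

/-- The four-group of the pair. -/
noncomputable def four : Subgroup PSL(2, F) := Subgroup.closure {proj P.i, proj P.j}

theorem mem_four {z : PSL(2, F)} :
    z ∈ P.four ↔ z = 1 ∨ z = proj P.i ∨ z = proj P.j ∨ z = proj P.k := by
  have hi := P.orderOf_proj_i
  have hj := P.orderOf_proj_j
  have hk2 : proj P.i * proj P.j * (proj P.i * proj P.j) = 1 := proj_sq _ P.kk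
  constructor
  · intro h
    obtain ⟨n, hn⟩ := Small.mem_closure_pair_invol hi hj h
    have hn' : (proj P.i * proj P.j) ^ n = 1 ∨ (proj P.i * proj P.j) ^ n = proj P.k := by
      rcases Int.even_or_odd n with ⟨m, rfl⟩ | ⟨m, rfl⟩
      · left; rw [← two_mul, _root_.zpow_mul, zpow_two, hk2, _root_.one_zpow]
      · right; rw [_root_.zpow_add, _root_.zpow_mul, zpow_two, hk2, _root_.one_zpow, one_mul, zpow_one]; rfl
    rcases hn with rfl | rfl <;> rcases hn' with e | e <;> rw [e]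
    · exact Or.inl rfl
    · exact Or.inr (Or.inr (Or.inr rfl))
    · exact Or.inr (Or.inl (mul_one _))
    · refine Or.inr (Or.inr (Or.inl ?_))
      rw [show proj P.k = proj P.i * proj P.j from rfl, ← mul_assoc, proj_sq _ P.ii, one_mul]
  · rintro (rfl | rfl | rfl | rfl)
    · exact one_mem _
    · exact Subgroup.subset_closure (by simp)
    · exact Subgroup.subset_closure (by simp)
    · show proj P.i * proj P.j ∈ P.four
      exact mul_mem (Subgroup.subset_closure (by simp)) (Subgroup.subset_closure (by simp))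

theorem card_four : Nat.card P.four = 4 := by
  rw [four, Small.card_closure_pair_invol P.orderOf_proj_i P.orderOf_proj_j P.proj_i_ne_j]
  have h : orderOf (proj P.i * proj P.j) = 2 := by
    refine orderOf_eq_prime (by rw [pow_two]; exact proj_sq _ P.kk) ?_
    intro e
    exact P.proj_i_ne_j (by rw [mul_eq_one_iff_eq_inv] at e; rw [e, inv_eq_of_mul_eq_one_right (proj_sq _ P.jj)])
  rw [h]

theorem four_le_tetra : P.four ≤ P.tetra := by
  obtain ⟨w, hw⟩ := P.exists_omega
  rw [four, tetra, Subgroup.closure_le, P.tetraSet_eq hw]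
  exact fun z hz => Subgroup.subset_closure (by
    simp only [Set.mem_insert_iff, Set.mem_singleton_iff] at hz ⊢; tauto)

theorem tetra_le_normalizer [Finite F] :
    P.tetra ≤ Subgroup.normalizer (P.four : Set PSL(2, F)) := by
  obtain ⟨w, hw⟩ := P.exists_omega
  obtain ⟨h1, h2, -⟩ := P.omega_rels hw
  rw [tetra, Subgroup.closure_le, P.tetraSet_eq hw]
  intro z hz
  rw [SetLike.mem_coe, ← conjS_eq_self_iff]
  refine Subgroup.eq_of_le_of_card_ge ?_ (card_conjS _ _).ge
  rw [conjS, four, MonoidHom.map_closure, Subgroup.closure_le]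
  have hI : proj P.i ∈ P.four := P.mem_four.2 (Or.inr (Or.inl rfl))
  have hJ : proj P.j ∈ P.four := P.mem_four.2 (Or.inr (Or.inr (Or.inl rfl)))
  simp only [Set.mem_insert_iff, Set.mem_singleton_iff] at hz
  rintro _ ⟨y, hy, rfl⟩
  simp only [MulEquiv.coe_toMonoidHom, MulAut.conj_apply, SetLike.mem_coe]
  rcases hz with rfl | rfl | rfl
  · exact mul_mem (mul_mem hI (Subgroup.subset_closure hy)) (inv_mem hI)
  · exact mul_mem (mul_mem hJ (Subgroup.subset_closure hy)) (inv_mem hJ)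
  · simp only [Set.mem_insert_iff, Set.mem_singleton_iff] at hy
    rcases hy with rfl | rfl
    · rw [show proj w * proj P.i = proj P.k * proj w from congrArg proj h1, mul_inv_cancel_right]
      exact P.mem_four.2 (Or.inr (Or.inr (Or.inr rfl)))
    · rw [show proj w * proj P.j = proj P.i * proj w from congrArg proj h2, mul_inv_cancel_right]
      exact hI

variable [Fintype F]

theorem card_tetra : Nat.card P.tetra = 12 := by
  obtain ⟨w, hw⟩ := P.exists_omega
  obtain ⟨h1, -, h3⟩ := P.omega_rels hw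
  have hle : Nat.card P.tetra ≤ 12 := by
    have hmem : ∀ z ∈ P.tetra, z ∈ (tetraList.map (·.toPSL P (Int.castRingHom F))).toFinset := by
      intro z hz
      obtain ⟨x, hx, rfl⟩ := Quat.closure_le_list P _ tetraList tetraGens tetraList_norm
        tetraList_closed tetraList_one.1 hz
      exact List.mem_toFinset.2 (List.mem_map.2 ⟨x, hx, rfl⟩)
    refine (Nat.card_le_card_of_injective (fun z : P.tetra =>
      (⟨z.1, hmem z.1 z.2⟩ : {z // z ∈ (tetraList.map (·.toPSL P (Int.castRingHom F))).toFinset}))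
      fun a b h => Subtype.ext (congrArg Subtype.val h :)).trans ?_
    rw [Nat.card_eq_fintype_card, Fintype.card_coe]
    exact (List.toFinset_card_le _).trans (by rw [List.length_map, tetraList_one.2])
  have h4 : 4 ∣ Nat.card P.tetra := P.card_four ▸ Subgroup.card_dvd_of_le P.four_le_tetra
  have hwmem : proj w ∈ P.tetra := Subgroup.subset_closure (by rw [P.tetraSet_eq hw]; simp)
  have hwo : orderOf (proj w) = 3 := by
    have := Fact.mk Nat.prime_three
    refine orderOf_eq_prime (by rw [pow_succ, pow_two, ← proj_mul, ← proj_mul, h3]; rfl) ?_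
    intro e
    have e' : proj P.i = proj P.k := by
      have := congrArg proj h1
      rw [proj_mul, proj_mul, e, one_mul, mul_one] at this
      exact this
    exact P.proj_k_ne_i e'.symm
  have h3' : 3 ∣ Nat.card P.tetra := hwo ▸ Subgroup.orderOf_dvd_natCard _ hwmem
  have h12 : 12 ∣ Nat.card P.tetra := Nat.Coprime.mul_dvd_of_dvd_of_dvd (by norm_num : Nat.Coprime 4 3) h4 h3'
  exact le_antisymm hle (Nat.le_of_dvd Nat.card_pos h12)

theorem nonempty_tetra_equiv : Nonempty (P.tetra ≃* alternatingGroup (Fin 4)) := by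
  obtain ⟨w, hw⟩ := P.exists_omega
  obtain ⟨h1, h2, -⟩ := P.omega_rels hw
  refine Cfsg.Agent.S0228.result P.card_tetra ?_
  intro z hz hzc
  set V := P.four.subgroupOf P.tetra with hV
  have hVn : V.Normal :=
    Subgroup.normal_subgroupOf_of_le_normalizer P.tetra_le_normalizer
  have hVi : V.index = 3 := by
    have h := V.card_mul_index
    rw [Nat.card_congr (Subgroup.subgroupOfEquivOfLe P.four_le_tetra).toEquiv, P.card_four,
      P.card_tetra] at h
    omega
  have hzV : z ∈ V := by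
    have h3 : z ^ V.index ∈ V := Subgroup.pow_index_mem V z
    have h4 : z ^ (2 : ℕ) = 1 := orderOf_dvd_iff_pow_eq_one.1 (dvd_of_eq hz)
    rw [hVi, pow_succ, h4, one_mul] at h3
    exact h3
  have hwmem : proj w ∈ P.tetra := Subgroup.subset_closure (by rw [P.tetraSet_eq hw]; simp)
  have hc : proj w * (z : PSL(2, F)) = (z : PSL(2, F)) * proj w :=
    congrArg Subtype.val (Subgroup.mem_center_iff.1 hzc ⟨_, hwmem⟩)
  have e1 : proj w * proj P.i = proj P.k * proj w := congrArg proj h1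
  have e2 : proj w * proj P.j = proj P.i * proj w := congrArg proj h2
  rcases P.mem_four.1 (Subgroup.mem_subgroupOf.1 hzV) with e | e | e | e
  · have : z = 1 := Subtype.ext e
    rw [this, orderOf_one] at hz
    omega
  · rw [e] at hc
    exact P.proj_k_ne_i (mul_right_cancel (e1.symm.trans hc))
  · rw [e] at hc
    exact P.proj_i_ne_j (mul_right_cancel (e2.symm.trans hc))
  · rw [e] at hc
    have e3 : proj w * proj P.k = proj P.j * proj w := by
      rw [show proj P.k = proj P.i * proj P.j from rfl, ← mul_assoc, e1, mul_assoc, e2, ← mul_assoc]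
      congr 1
      rw [show proj P.k = proj P.i * proj P.j from rfl, ← P.proj_comm, mul_assoc,
        proj_sq _ P.ii, mul_one]
    exact P.proj_k_ne_j (mul_right_cancel (hc.symm.trans e3))

end QuatPair

theorem exists_quatPair [Fintype F] (h : Odd (Fintype.card F)) : Nonempty (QuatPair F) := by
  obtain ⟨i, j, hi, hj, hji⟩ := Linear.exists_anticommuting_pair h
  exact ⟨⟨i, j, Linear.two_ne_zero_of_odd h, hi, hj, hji⟩⟩

namespace QuatPair

variable [Fintype F] (P : QuatPair F) (φ : F) (hφ : φ * φ = φ + 1)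

theorem exists_golden : ∃ g : SL(2, F), g.1 = P.qc (φ / 2) ((φ - 1) / 2) (1 / 2) 0 ∧
    g.1 = (⟨zp 0 1, zp (-1) 1, zp 1 0, zp 0 0⟩ : Quat Zphi).evalMat P (zphiHom φ hφ) := by
  have h2 := P.two_ne
  have e : (⟨zp 0 1, zp (-1) 1, zp 1 0, zp 0 0⟩ : Quat Zphi).evalMat P (zphiHom φ hφ) =
      P.qc (φ / 2) ((φ - 1) / 2) (1 / 2) 0 := by
    rw [Quat.evalMat]
    simp only [zphiHom_zp]
    push_cast
    congr 1 <;> ring
  refine ⟨⟨P.qc (φ / 2) ((φ - 1) / 2) (1 / 2) 0, ?_⟩, rfl, e.symm⟩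
  rw [P.det_qc]
  field_simp
  linear_combination 2 * hφ

theorem ico_eq {w g : SL(2, F)} (hw : w.1 = P.qc (-1 / 2) (1 / 2) (1 / 2) (1 / 2))
    (hg : g.1 = (⟨zp 0 1, zp (-1) 1, zp 1 0, zp 0 0⟩ : Quat Zphi).evalMat P (zphiHom φ hφ)) :
    P.ico φ hφ = Subgroup.closure {proj P.i, proj P.j, proj w, proj g} := by
  have h2 := P.two_ne
  have ei : (⟨zp 0 0, zp 2 0, zp 0 0, zp 0 0⟩ : Quat Zphi).toPSL P (zphiHom φ hφ) = proj P.i :=
    Quat.toPSL_eq P _ _ (by decide +kernel) _ (by
      rw [P.i_eq_qc, Quat.evalMat]; simp [zphiHom_zp, h2])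
  have ej : (⟨zp 0 0, zp 0 0, zp 2 0, zp 0 0⟩ : Quat Zphi).toPSL P (zphiHom φ hφ) = proj P.j :=
    Quat.toPSL_eq P _ _ (by decide +kernel) _ (by
      rw [P.j_eq_qc, Quat.evalMat]; simp [zphiHom_zp, h2])
  have ew : (⟨zp (-1) 0, zp 1 0, zp 1 0, zp 1 0⟩ : Quat Zphi).toPSL P (zphiHom φ hφ) = proj w :=
    Quat.toPSL_eq P _ _ (by decide +kernel) _ (by rw [hw, Quat.evalMat]; simp [zphiHom_zp])
  have eg : (⟨zp 0 1, zp (-1) 1, zp 1 0, zp 0 0⟩ : Quat Zphi).toPSL P (zphiHom φ hφ) = proj g :=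
    Quat.toPSL_eq P _ _ (by decide +kernel) _ hg
  rw [ico]
  congr 1
  ext z
  simp [icoGens, ei, ej, ew, eg]

theorem tetra_le_ico : P.tetra ≤ P.ico φ hφ := by
  obtain ⟨w, hw⟩ := P.exists_omega
  obtain ⟨g, -, hg⟩ := P.exists_golden φ hφ
  rw [tetra, P.ico_eq φ hφ hw hg, Subgroup.closure_le, P.tetraSet_eq hw]
  exact fun z hz => Subgroup.subset_closure (by
    simp only [Set.mem_insert_iff, Set.mem_singleton_iff] at hz ⊢; tauto)

/-- `ico` has order `60`, is `A₅`, and is bigger than `tetra`. -/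
theorem card_ico : Nat.card (P.ico φ hφ) = 60 ∧
    Nonempty (P.ico φ hφ ≃* alternatingGroup (Fin 5)) := by
  obtain ⟨w, hw⟩ := P.exists_omega
  obtain ⟨g, hgq, hg⟩ := P.exists_golden φ hφ
  have h2 := P.two_ne
  have hφ0 : φ ≠ 0 := fun h => by rw [h] at hφ; simp at hφ
  have hsq : g * g = g * g := rfl
  have hg2 : (g * g).1 = P.qc ((φ - 1) / 2) (1 / 2) (φ / 2) 0 := by
    rw [Matrix.SpecialLinearGroup.coe_mul, hgq, P.qc_mul]
    congr 1 <;> field_simp <;>
      first | linear_combination hφ | linear_combination -hφ | linear_combination (2 : F) * hφ |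
        linear_combination -(2 : F) * hφ | ring
  have hg5 : g * g * (g * g) * g = -1 := by
    apply Subtype.ext
    rw [Matrix.SpecialLinearGroup.coe_neg, Matrix.SpecialLinearGroup.coe_one,
      Matrix.SpecialLinearGroup.coe_mul, Matrix.SpecialLinearGroup.coe_mul, hg2, hgq, P.qc_mul,
      P.qc_mul, P.one_eq_qc, P.neg_qc]
    congr 1 <;> field_simp <;> grind
  have hgmem : proj g ∈ P.ico φ hφ := by
    rw [P.ico_eq φ hφ hw hg]; exact Subgroup.subset_closure (by simp)
  have hwmem : proj w ∈ P.ico φ hφ := by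
    rw [P.ico_eq φ hφ hw hg]; exact Subgroup.subset_closure (by simp)
  have := Fact.mk (show Nat.Prime 5 by norm_num)
  have hgo : orderOf (proj g) = 5 := by
    refine orderOf_eq_prime ?_ ?_
    · rw [show proj g ^ 5 = proj g * proj g * (proj g * proj g) * proj g by
          simp only [pow_succ, pow_zero, one_mul, mul_assoc],
        ← proj_mul, ← proj_mul, ← proj_mul, hg5, proj_eq_one_iff]
      exact Or.inr rfl
    · rw [show (1 : PSL(2, F)) = proj 1 from rfl]
      exact P.proj_ne hgq P.one_eq_qc (Or.inr (Or.inl ⟨P.half_ne, by simpa using P.half_ne⟩))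
  have hle : Nat.card (P.ico φ hφ) ≤ 60 := by
    have hmem : ∀ z ∈ P.ico φ hφ, z ∈ (icoList.map (·.toPSL P (zphiHom φ hφ))).toFinset := by
      intro z hz
      obtain ⟨x, hx, rfl⟩ := Quat.closure_le_list P _ icoList icoGens icoList_norm
        icoList_closed icoList_one.1 hz
      exact List.mem_toFinset.2 (List.mem_map.2 ⟨x, hx, rfl⟩)
    refine (Nat.card_le_card_of_injective (fun z : P.ico φ hφ =>
      (⟨z.1, hmem z.1 z.2⟩ : {z // z ∈ (icoList.map (·.toPSL P (zphiHom φ hφ))).toFinset}))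
      fun a b h => Subtype.ext (congrArg Subtype.val h :)).trans ?_
    rw [Nat.card_eq_fintype_card, Fintype.card_coe]
    exact (List.toFinset_card_le _).trans (by rw [List.length_map, icoList_one.2])
  have h12 : 12 ∣ Nat.card (P.ico φ hφ) :=
    P.card_tetra ▸ Subgroup.card_dvd_of_le (P.tetra_le_ico φ hφ)
  have h5 : 5 ∣ Nat.card (P.ico φ hφ) := hgo ▸ Subgroup.orderOf_dvd_natCard _ hgmem
  have h60 : Nat.card (P.ico φ hφ) = 60 :=
    le_antisymm hle (Nat.le_of_dvd Nat.card_pos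
      (Nat.Coprime.mul_dvd_of_dvd_of_dvd (by norm_num : Nat.Coprime 12 5) h12 h5))
  refine ⟨h60, ?_⟩
  set G' := P.ico φ hφ
  set C : Subgroup G' := Subgroup.zpowers ⟨proj g, hgmem⟩ with hC
  have hCc : Nat.card C = 5 := by rw [hC, Nat.card_zpowers, Subgroup.orderOf_mk, hgo]
  refine nonempty_equiv_alt_five h60 C hCc fun hN => ?_
  have hCn : C.Normal := Subgroup.normalizer_eq_top_iff.1 (Subgroup.eq_top_of_card_eq _ (hN.trans h60.symm))
  haveI : IsCyclic C := isCyclic_of_prime_card hCc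
  obtain ⟨-, -, hw3⟩ := P.omega_rels hw
  set a : MulAut C := MulAut.conjNormal (⟨proj w, hwmem⟩ : G') with ha
  have ha3 : a ^ 3 = 1 := by
    rw [ha, ← map_pow, show (⟨proj w, hwmem⟩ : G') ^ 3 = 1 from Subtype.ext (by
      show proj w ^ 3 = 1
      rw [pow_succ, pow_two, ← proj_mul, ← proj_mul, hw3]; rfl), map_one]
  have ha1 : a = 1 := by
    have h1 : orderOf a ∣ 3 := orderOf_dvd_of_pow_eq_one ha3
    have h2 : orderOf a ∣ 4 := by
      have := orderOf_dvd_natCard a
      rwa [IsCyclic.card_mulAut, hCc, Nat.totient_prime (by norm_num)] at this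
    have h3 : orderOf a ∣ 1 := by have := Nat.dvd_gcd h1 h2; simpa using this
    exact orderOf_eq_one_iff.1 (Nat.dvd_one.1 h3)
  have hcomm : proj w * proj g = proj g * proj w := by
    have h1 := congrArg (fun f : MulAut C => ((f ⟨_, Subgroup.mem_zpowers _⟩ : C) : G')) ha1
    simp only [ha, MulAut.conjNormal_apply, MulAut.one_apply] at h1
    have h1' := congrArg Subtype.val h1
    simpa [mul_inv_eq_iff_eq_mul] using h1'
  -- `ω g` and `g ω` differ
  rw [← proj_mul, ← proj_mul] at hcomm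
  refine P.proj_ne (x := w * g) (y := g * w) (a := -φ / 2) (b := 0) (c := (φ - 1) / 2) (d := 1 / 2)
    (a' := -φ / 2) (b' := 1 / 2) (c' := 0) (d' := (φ - 1) / 2) ?_ ?_
    (Or.inl ⟨P.half_ne.symm, fun e => P.half_ne (neg_eq_zero.1 e.symm)⟩) hcomm
  · rw [Matrix.SpecialLinearGroup.coe_mul, hw, hgq, P.qc_mul]
    congr 1 <;> field_simp <;> ring
  · rw [Matrix.SpecialLinearGroup.coe_mul, hw, hgq, P.qc_mul]
    congr 1 <;> field_simp <;> ring

end QuatPair

end CfsgLib.DicksonPSL2
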