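import Cfsg.Agent.DicksonPSL2.Exceptional

/-!
# The elements with coordinates over a subfield

For a quaternion pair `P` and an embedding `ι : K →+* F` the elements of `SL(2, F)` whose
coordinates are proportional to elements of `K` form a subgroup `span P ι`; its image in
`PSL(2, F)` contains the tetrahedral group, has at least as many elements as `PSL(2, K)` and is
proper when `ι` is not onto.
-/

set_option autoImplicit false
set_option linter.unusedSectionVars false

namespace CfsgLib.DicksonPSL2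

open Matrix CfsgLib.SL2Trace
open CfsgLib.SL2Tori (tr)
open scoped MatrixGroups

variable {F : Type*} [Field F]

/-- A scalar element of `SL(2, F)` is trivial modulo the centre. -/
theorem proj_eq_one_of_smul {g : SL(2, F)} {s r : F} (hs : s ≠ 0)
    (h : s • g.1 = r • (1 : Matrix (Fin 2) (Fin 2) F)) : proj g = 1 := by
  have hg : g.1 = (r / s) • (1 : Matrix (Fin 2) (Fin 2) F) := by
    rw [div_eq_inv_mul, mul_smul, ← h, smul_smul, inv_mul_cancel₀ hs, one_smul]
  have hd : g.1.det = 1 := g.2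
  rw [hg, Matrix.det_smul, Matrix.det_one, mul_one, Fintype.card_fin] at hd
  rw [proj_eq_one_iff]
  rcases sq_eq_one_iff.1 hd with e | e <;> rw [e] at hg
  · exact Or.inl (Subtype.ext (by simpa using hg))
  · exact Or.inr (Subtype.ext (by simpa using hg))

theorem two_smul_eq_of_inv {g : SL(2, F)} (h : g⁻¹ = g) :
    (2 : F) • g.1 = tr g • (1 : Matrix (Fin 2) (Fin 2) F) := by
  have e := congrArg Subtype.val h
  rw [SL2Tori.coe_inv_eq, neg_one_smul, ← sub_eq_add_neg, sub_eq_iff_eq_add] at e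
  rw [e, two_smul]

/-- In odd characteristic the only elements of square one are `±1`. -/
theorem proj_eq_one_of_sq (h2 : (2 : F) ≠ 0) {g : SL(2, F)} (h : g * g = 1) : proj g = 1 :=
  proj_eq_one_of_smul h2 (two_smul_eq_of_inv (inv_eq_of_mul_eq_one_right h))

/-- A lift of an involution squares to `-1`. -/
theorem mul_self_eq_neg_one (h2 : (2 : F) ≠ 0) {g : SL(2, F)} (hg : proj g * proj g = 1)
    (hg1 : proj g ≠ 1) : g * g = -1 := by
  rw [← proj_mul, proj_eq_one_iff] at hg
  exact hg.resolve_left fun h => hg1 (proj_eq_one_of_sq h2 h)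

theorem card_ker_projHom (h2 : (2 : F) ≠ 0) : Nat.card (projHom (F := F)).ker = 2 := by
  have hset : ((projHom (F := F)).ker : Set SL(2, F)) = {1, -1} := by
    ext x
    rw [SetLike.mem_coe, MonoidHom.mem_ker, projHom_apply, proj_eq_one_iff]
    simp
  rw [← SetLike.coe_sort_coe, Nat.card_coe_set_eq, hset, Set.ncard_pair]
  intro h
  have := congrFun (congrFun (congrArg Subtype.val h) 0) 0
  simp at this
  exact h2 (by linear_combination this)

/-- The preimage of a subgroup of `PSL(2, F)` has twice its order. -/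
theorem card_comap_projHom [Finite F] (h2 : (2 : F) ≠ 0) (H : Subgroup PSL(2, F)) :
    Nat.card (H.comap projHom) = 2 * Nat.card H := by
  have h1 := (H.comap (projHom (F := F))).card_mul_index
  rw [Subgroup.index_comap_of_surjective _ projHom_surjective,
    ← (projHom (F := F)).ker.card_mul_index, Subgroup.index_ker,
    MonoidHom.range_eq_top.2 projHom_surjective, Subgroup.card_top, card_ker_projHom h2,
    ← H.card_mul_index, ← mul_assoc] at h1
  exact Nat.eq_of_mul_eq_mul_right (Nat.pos_of_ne_zero Subgroup.index_ne_zero_of_finite) h1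

/-- Every element of a finite field is a sum of two squares. -/
theorem exists_sq_add_sq [Finite F] (x : F) : ∃ a b : F, a ^ 2 + b ^ 2 = x := by
  have := Fintype.ofFinite F
  classical
  by_cases h2 : ringChar F = 2
  · obtain ⟨a, ha⟩ := FiniteField.isSquare_of_char_two h2 x
    exact ⟨a, 0, by rw [ha]; ring⟩
  obtain ⟨a, b, h⟩ := FiniteField.exists_root_sum_quadratic (R := F)
    (f := Polynomial.X ^ 2) (g := Polynomial.X ^ 2 - Polynomial.C x)
    (Polynomial.degree_X_pow 2) (Polynomial.degree_X_pow_sub_C two_pos x)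
    (FiniteField.odd_card_of_char_ne_two h2)
  exact ⟨a, b, by simpa [add_sub, sub_eq_zero] using h⟩

namespace QuatPair

variable (P : QuatPair F) {K : Type*} [Field K] (ι : K →+* F)

theorem smul_qc (r a b c d : F) : r • P.qc a b c d = P.qc (r * a) (r * b) (r * c) (r * d) := by
  simp only [qc, smul_add, smul_smul]

theorem qc_inv {g : SL(2, F)} {a b c d : F} (h : g.1 = P.qc a b c d) :
    (g⁻¹).1 = P.qc a (-b) (-c) (-d) := by
  rw [SL2Tori.coe_inv_eq, tr, h, P.trace_qc]
  simp only [qc]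
  module

/-- The elements with coordinates proportional to elements of `K`. -/
def span : Subgroup SL(2, F) where
  carrier := {g | ∃ (r : F) (a b c d : K), g.1 = r • P.qc (ι a) (ι b) (ι c) (ι d)}
  one_mem' := ⟨1, 1, 0, 0, 0, by simp [qc]⟩
  mul_mem' := by
    rintro g h ⟨r, a, b, c, d, hg⟩ ⟨r', a', b', c', d', hh⟩
    refine ⟨r * r', a * a' - b * b' - c * c' - d * d', a * b' + b * a' + c * d' - d * c',
      a * c' - b * d' + c * a' + d * b', a * d' + b * c' - c * b' + d * a', ?_⟩
    rw [Matrix.SpecialLinearGroup.coe_mul, hg, hh, smul_mul_smul_comm, P.qc_mul]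
    simp only [map_add, map_sub, map_mul]
  inv_mem' := by
    rintro g ⟨r, a, b, c, d, hg⟩
    refine ⟨r, a, -b, -c, -d, ?_⟩
    rw [P.smul_qc] at hg
    rw [P.qc_inv hg, P.smul_qc]
    simp only [map_neg, mul_neg]

theorem mem_span {g : SL(2, F)} :
    g ∈ P.span ι ↔ ∃ (r : F) (a b c d : K), g.1 = r • P.qc (ι a) (ι b) (ι c) (ι d) := Iff.rfl

theorem neg_one_mem_span : (-1 : SL(2, F)) ∈ P.span ι :=
  ⟨-1, 1, 0, 0, 0, by simp [qc]⟩

/-- Its image in `PSL(2, F)`. -/
def spanP : Subgroup PSL(2, F) := (P.span ι).map projHom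

theorem proj_mem_spanP {g : SL(2, F)} : proj g ∈ P.spanP ι ↔ g ∈ P.span ι := by
  refine ⟨?_, fun h => ⟨g, h, rfl⟩⟩
  rintro ⟨h, hh, e⟩
  rcases proj_eq_proj_iff.1 e with rfl | rfl
  · exact hh
  · rw [← neg_one_mul]; exact mul_mem (P.neg_one_mem_span ι) hh

theorem comap_spanP : (P.spanP ι).comap projHom = P.span ι :=
  Subgroup.ext fun g => by rw [Subgroup.mem_comap, projHom_apply, P.proj_mem_spanP]

variable [Finite F]

theorem spanP_ne_top (h : ¬ Function.Surjective ι) : P.spanP ι ≠ ⊤ := by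
  simp only [Function.Surjective, not_forall, not_exists] at h
  obtain ⟨y, hy⟩ := h
  obtain ⟨c, d, hcd⟩ := exists_sq_add_sq (1 - (1 : F) ^ 2 - y ^ 2)
  intro htop
  obtain ⟨g, hg⟩ : ∃ g : SL(2, F), g.1 = P.qc 1 y c d :=
    ⟨⟨P.qc 1 y c d, by rw [P.det_qc]; linear_combination hcd⟩, rfl⟩
  obtain ⟨r, a, b, e, f, he⟩ := (P.mem_span ι).1 ((P.proj_mem_spanP ι).1 (htop ▸ Subgroup.mem_top (proj g)))
  rw [hg, P.smul_qc] at he
  obtain ⟨h1, h2, -, -⟩ := P.qc_inj he
  have ha : ι a ≠ 0 := fun h0 => by simp [h0] at h1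
  refine hy (b / a) ?_
  rw [map_div₀, div_eq_iff ha, h2]
  linear_combination (ι b) * h1

/-- At least as large as `PSL(2, K)`. -/
theorem card_le_spanP [Fintype K] (hK : Odd (Fintype.card K)) :
    Fintype.card K * (Fintype.card K - 1) * (Fintype.card K + 1) ≤ 2 * Nat.card (P.spanP ι) := by
  rw [← card_comap_projHom P.two_ne, P.comap_spanP,
    show Fintype.card K * (Fintype.card K - 1) * (Fintype.card K + 1) = Nat.card SL(2, K) by
      rw [Linear.card_SL_two, mul_assoc]; congr 1
      rw [mul_comm, ← Nat.sq_sub_sq, one_pow]]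
  obtain ⟨Q⟩ := exists_quatPair hK
  choose a b c d hc using fun g : SL(2, K) => Q.exists_eq_qc g.1
  have hn : ∀ g : SL(2, K), (P.qc (ι (a g)) (ι (b g)) (ι (c g)) (ι (d g))).det = 1 := fun g => by
    rw [P.det_qc, ← map_pow, ← map_pow, ← map_pow, ← map_pow, ← map_add, ← map_add, ← map_add,
      ← Q.det_qc, ← hc, g.2, map_one]
  refine Nat.card_le_card_of_injective
    (fun g : SL(2, K) => (⟨⟨_, hn g⟩, (P.mem_span ι).2 ⟨1, a g, b g, c g, d g, (one_smul F _).symm⟩⟩ :
      P.span ι)) fun g h e => ?_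
  obtain ⟨e1, e2, e3, e4⟩ := P.qc_inj (congrArg (fun z : P.span ι => (z : SL(2, F)).1) e)
  apply Subtype.ext
  rw [hc g, hc h, ι.injective e1, ι.injective e2, ι.injective e3, ι.injective e4]

theorem tetra_le_spanP : P.tetra ≤ P.spanP ι := by
  obtain ⟨w, hw⟩ := P.exists_omega
  rw [tetra, P.tetraSet_eq hw, Subgroup.closure_le]
  have hi : proj P.i ∈ P.spanP ι :=
    (P.proj_mem_spanP ι).2 ⟨1, 0, 1, 0, 0, by rw [P.i_eq_qc]; simp⟩
  have hj : proj P.j ∈ P.spanP ι :=
    (P.proj_mem_spanP ι).2 ⟨1, 0, 0, 1, 0, by rw [P.j_eq_qc]; simp⟩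
  have hwm : proj w ∈ P.spanP ι :=
    (P.proj_mem_spanP ι).2 ⟨1 / 2, -1, 1, 1, 1, by
      rw [hw, P.smul_qc]; simp only [map_neg, map_one]; congr 1 <;> ring⟩
  rintro z (rfl | rfl | rfl) <;> assumption

end QuatPair

end CfsgLib.DicksonPSL2
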