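import Cfsg.Agent.DicksonPSL2.FieldSpan
import Mathlib.GroupTheory.SpecificGroups.Alternating.KleinFour
import Mathlib.GroupTheory.Perm.Sign

/-!
# The normaliser of a four-group of `PSL(2, q)`

It is `tetra P`, of order 12, or of order 24 when `2` is a square, and every four-group is
`four P` for some quaternion pair `P`.
-/

set_option autoImplicit false
set_option linter.unusedSectionVars false

namespace CfsgLib.DicksonPSL2

open Matrix CfsgLib.SL2Trace
open CfsgLib.SL2Tori (tr)
open scoped MatrixGroups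

variable {F : Type*} [Field F]

/-- Every four-group comes from a quaternion pair. -/
theorem exists_pair_of_four (h2 : (2 : F) ≠ 0) {V : Subgroup PSL(2, F)} (hV : Nat.card V = 4)
    (hexp : ∀ x ∈ V, x * x = 1) : ∃ P : QuatPair F, P.four = V := by
  classical
  have : Finite V := Nat.finite_of_card_ne_zero (by omega)
  have : Fintype V := Fintype.ofFinite V
  obtain ⟨x, y, hxy, hx1, hy1⟩ : ∃ x y : V, x ≠ y ∧ x ≠ 1 ∧ y ≠ 1 := by
    have hc : 1 < ((Finset.univ : Finset V).erase 1).card := by
      rw [Finset.card_erase_of_mem (Finset.mem_univ _), Finset.card_univ,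
        ← Nat.card_eq_fintype_card, hV]
      norm_num
    obtain ⟨x, hx, y, hy, hne⟩ := Finset.one_lt_card.1 hc
    exact ⟨x, y, hne, Finset.ne_of_mem_erase hx, Finset.ne_of_mem_erase hy⟩
  obtain ⟨i, hi⟩ := proj_surjective (x : PSL(2, F))
  obtain ⟨j, hj⟩ := proj_surjective (y : PSL(2, F))
  have hx0 : proj i ≠ 1 := fun e => hx1 (Subtype.ext (hi.symm.trans e))
  have hy0 : proj j ≠ 1 := fun e => hy1 (Subtype.ext (hj.symm.trans e))
  have hne : proj i ≠ proj j := fun e => hxy (Subtype.ext (by rw [← hi, e, hj]))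
  have hxx : proj i * proj i = 1 := by rw [hi]; exact hexp _ x.2
  have hyy : proj j * proj j = 1 := by rw [hj]; exact hexp _ y.2
  have hxy2 : proj i * proj j * (proj i * proj j) = 1 := by
    rw [hi, hj]; exact hexp _ (mul_mem x.2 y.2)
  have hii := mul_self_eq_neg_one h2 hxx hx0
  have hjj := mul_self_eq_neg_one h2 hyy hy0
  have hji : j * i = -(i * j) := by
    have hc : proj (j * i) = proj (i * j) := by
      rw [proj_mul, proj_mul, ← inv_eq_of_mul_eq_one_right hxy2, _root_.mul_inv_rev,
        inv_eq_of_mul_eq_one_right hxx, inv_eq_of_mul_eq_one_right hyy]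
    rcases proj_eq_proj_iff.1 hc.symm with e | e
    · exfalso
      refine hne (mul_inv_eq_one.1 ?_)
      rw [inv_eq_of_mul_eq_one_right hyy, ← proj_mul]
      refine proj_eq_one_of_sq h2 ?_
      rw [show i * j * (i * j) = i * (j * i) * j by group, e,
        show i * (i * j) * j = i * i * (j * j) by group, hii, hjj, neg_mul_neg, one_mul]
    · exact e
  let P : QuatPair F := ⟨i, j, h2, hii, hjj, hji⟩
  refine ⟨P, Subgroup.eq_of_le_of_card_ge ?_ (by rw [hV, P.card_four])⟩
  rw [QuatPair.four, Subgroup.closure_le]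
  rintro z (rfl | rfl)
  · show proj i ∈ V
    rw [hi]; exact x.2
  · show proj j ∈ V
    rw [hj]; exact y.2

/-- A normal four-group of a group embedded in `PSL(2, F)` gives a pair normalised by the image. -/
theorem exists_pair_of_model (h2 : (2 : F) ≠ 0) {G : Type*} [Group G] (f : G →* PSL(2, F))
    (hf : Function.Injective f) (V : Subgroup G) [V.Normal] (hV : Nat.card V = 4)
    (hexp : ∀ x ∈ V, x * x = 1) :
    ∃ P : QuatPair F, P.four ≤ f.range ∧
      f.range ≤ Subgroup.normalizer (P.four : Set PSL(2, F)) := by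
  obtain ⟨P, hP⟩ := exists_pair_of_four h2 (V := V.map f)
    (by rw [← Nat.card_congr (V.equivMapOfInjective f hf).toEquiv, hV])
    (by rintro _ ⟨x, hx, rfl⟩; rw [← map_mul, hexp x hx, map_one])
  refine ⟨P, by rw [hP]; exact Subgroup.map_le_range f V, ?_⟩
  rw [hP]
  rintro _ ⟨g, rfl⟩
  rw [Subgroup.mem_normalizer_iff]
  intro z
  constructor
  · rintro ⟨x, hx, rfl⟩
    exact ⟨g * x * g⁻¹, ‹V.Normal›.conj_mem x hx g, by rw [map_mul, map_mul, map_inv]⟩
  · rintro ⟨x, hx, e⟩
    refine ⟨g⁻¹ * x * g, by simpa using ‹V.Normal›.conj_mem x hx g⁻¹, ?_⟩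
    rw [map_mul, map_mul, map_inv, e]
    group

/-- The normal four-group of `A₄`. -/
theorem exists_four_alt : ∃ V : Subgroup (alternatingGroup (Fin 4)),
    V.Normal ∧ Nat.card V = 4 ∧ ∀ x ∈ V, x * x = 1 := by
  have h4 : Nat.card (Fin 4) = 4 := Nat.card_fin 4
  refine ⟨alternatingGroup.kleinFour (Fin 4), alternatingGroup.normal_kleinFour h4,
    alternatingGroup.kleinFour_card_of_card_eq_four h4, fun x hx => ?_⟩
  have h := Monoid.pow_exponent_eq_one (⟨x, hx⟩ : alternatingGroup.kleinFour (Fin 4))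
  rw [alternatingGroup.exponent_kleinFour_of_card_eq_four h4, pow_two] at h
  exact congrArg Subtype.val h

/-- The normal four-group of `S₄`. -/
theorem exists_four_perm : ∃ V : Subgroup (Equiv.Perm (Fin 4)),
    V.Normal ∧ Nat.card V = 4 ∧ ∀ x ∈ V, x * x = 1 := by
  obtain ⟨V, -, hc, he⟩ := exists_four_alt
  have h4 : Nat.card (Fin 4) = 4 := Nat.card_fin 4
  have := alternatingGroup.characteristic_kleinFour (α := Fin 4) h4
  have he' : ∀ x ∈ alternatingGroup.kleinFour (Fin 4), x * x = 1 := by
    intro x hx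
    have h := Monoid.pow_exponent_eq_one (⟨x, hx⟩ : alternatingGroup.kleinFour (Fin 4))
    rw [alternatingGroup.exponent_kleinFour_of_card_eq_four h4, pow_two] at h
    exact congrArg Subtype.val h
  refine ⟨(alternatingGroup.kleinFour (Fin 4)).map (alternatingGroup (Fin 4)).subtype,
    ConjAct.normal_of_characteristic_of_normal, ?_, ?_⟩
  · rw [← Nat.card_congr (Subgroup.equivMapOfInjective _ _ Subtype.val_injective).toEquiv,
      alternatingGroup.kleinFour_card_of_card_eq_four h4]
  · rintro _ ⟨x, hx, rfl⟩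
    rw [← map_mul, he' x hx, map_one]

/-- `A₄` inside `A₅`. -/
theorem exists_alt_four_to_five :
    ∃ f : alternatingGroup (Fin 4) →* alternatingGroup (Fin 5), Function.Injective f := by
  let ι : Fin 4 ↪ Fin 5 := Fin.castSuccEmb
  let g : Equiv.Perm (Fin 4) →* Equiv.Perm (Fin 5) := Equiv.Perm.viaEmbeddingHom ι
  refine ⟨(g.comp (alternatingGroup (Fin 4)).subtype).codRestrict _ fun x => ?_, fun a b h => ?_⟩
  · rw [Equiv.Perm.mem_alternatingGroup]
    show Equiv.Perm.sign (Equiv.Perm.viaEmbedding x.1 ι) = 1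
    rw [Equiv.Perm.viaEmbedding, Equiv.Perm.sign_extendDomain]
    exact Equiv.Perm.mem_alternatingGroup.1 x.2
  · exact Subtype.ext (Equiv.Perm.viaEmbeddingHom_injective ι (congrArg Subtype.val h))

namespace QuatPair

variable (P : QuatPair F)

theorem proj_mem_four_of_comm [Finite F] {g : SL(2, F)}
    (hi : proj g * proj P.i = proj P.i * proj g) (hj : proj g * proj P.j = proj P.j * proj g) :
    proj g ∈ P.four := by
  obtain ⟨a, b, c, d, hg⟩ := P.exists_eq_qc g.1
  have h2 := P.two_ne
  have hd : a ^ 2 + b ^ 2 + c ^ 2 + d ^ 2 = 1 := by rw [← P.det_qc, ← hg]; exact g.2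
  have half : ∀ {z : F}, -z = z → z = 0 := fun {z} h =>
    (mul_eq_zero.1 (show (2 : F) * z = 0 by linear_combination -h)).resolve_left h2
  have key : ∀ {u : SL(2, F)}, proj g * proj u = proj u * proj g →
      g.1 * u.1 = u.1 * g.1 ∨ g.1 * u.1 = -(u.1 * g.1) := by
    intro u h
    rw [← proj_mul, ← proj_mul] at h
    rcases proj_eq_proj_iff.1 h.symm with e | e
    · exact Or.inl (congrArg Subtype.val e)
    · exact Or.inr (congrArg Subtype.val e)
  have hi' : (c = 0 ∧ d = 0) ∨ (a = 0 ∧ b = 0) := by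
    rcases key hi with e | e <;> rw [hg, P.i_eq_qc, P.qc_mul, P.qc_mul] at e
    · obtain ⟨-, -, e3, e4⟩ := P.qc_inj e
      exact Or.inl ⟨half (by linear_combination e4), half (by linear_combination -e3)⟩
    · rw [P.neg_qc] at e
      obtain ⟨e1, e2, -, -⟩ := P.qc_inj e
      exact Or.inr ⟨half (by linear_combination -e2), half (by linear_combination e1)⟩
  have hj' : (b = 0 ∧ d = 0) ∨ (a = 0 ∧ c = 0) := by
    rcases key hj with e | e <;> rw [hg, P.j_eq_qc, P.qc_mul, P.qc_mul] at e
    · obtain ⟨-, e2, -, e4⟩ := P.qc_inj e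
      exact Or.inl ⟨half (by linear_combination -e4), half (by linear_combination e2)⟩
    · rw [P.neg_qc] at e
      obtain ⟨e1, -, e3, -⟩ := P.qc_inj e
      exact Or.inr ⟨half (by linear_combination -e3), half (by linear_combination e1)⟩
  have finish : ∀ (u : SL(2, F)), proj u ∈ P.four → ∀ t : F, g.1 = t • u.1 → proj g ∈ P.four := by
    intro u hu t ht
    have hdet : t ^ 2 = 1 := by
      have := g.2
      rw [ht, Matrix.det_smul, u.2, Fintype.card_fin, mul_one] at this
      exact this
    rcases sq_eq_one_iff.1 hdet with rfl | rfl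
    · rwa [show g = u from Subtype.ext (by simpa using ht)]
    · rwa [show g = -u from Subtype.ext (by simpa using ht), proj_neg]
  rcases hi' with ⟨rfl, rfl⟩ | ⟨rfl, rfl⟩ <;> rcases hj' with ⟨h, h'⟩ | ⟨h, h'⟩
  · subst h
    exact finish 1 (P.mem_four.2 (Or.inl rfl)) a (by rw [hg]; simp [qc])
  · subst h
    exact finish P.i (P.mem_four.2 (Or.inr (Or.inl rfl))) b (by rw [hg]; simp [qc])
  · subst h'
    exact finish P.j (P.mem_four.2 (Or.inr (Or.inr (Or.inl rfl)))) c (by rw [hg]; simp [qc])
  · subst h'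
    exact finish P.k (P.mem_four.2 (Or.inr (Or.inr (Or.inr rfl)))) d (by rw [hg]; simp [qc])

/-- The normaliser of a four-group has order at most 24. -/
theorem card_normalizer_four_le [Finite F] :
    Nat.card (Subgroup.normalizer (P.four : Set PSL(2, F))) ≤ 24 := by
  classical
  set N := Subgroup.normalizer (P.four : Set PSL(2, F)) with hN
  set V := P.four.subgroupOf N with hV
  set S : Finset PSL(2, F) := {proj P.i, proj P.j, proj P.k} with hS
  have hmem : ∀ x ∈ N, ∀ z ∈ P.four, z ≠ 1 → x * z * x⁻¹ ∈ S := by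
    intro x hx z hz hz1
    have h := (Subgroup.mem_normalizer_iff.1 hx z).1 hz
    rcases P.mem_four.1 h with e | e | e | e
    · exact absurd (conj_eq_one_iff.1 e) hz1
    all_goals simp [S, e]
  have hI : proj P.i ∈ P.four := P.mem_four.2 (Or.inr (Or.inl rfl))
  have hJ : proj P.j ∈ P.four := P.mem_four.2 (Or.inr (Or.inr (Or.inl rfl)))
  have hoff : ∀ q : N ⧸ V, ((q.out : PSL(2, F)) * proj P.i * (q.out : PSL(2, F))⁻¹,
      (q.out : PSL(2, F)) * proj P.j * (q.out : PSL(2, F))⁻¹) ∈ S.offDiag := fun q =>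
    Finset.mem_offDiag.2 ⟨hmem _ q.out.2 _ hI P.proj_i_ne_one, hmem _ q.out.2 _ hJ P.proj_j_ne_one,
      fun e => P.proj_i_ne_j (mul_left_cancel (mul_right_cancel e))⟩
  have hidx : V.index ≤ 6 := by
    have hcard : S.offDiag.card ≤ 6 := by
      rw [Finset.offDiag_card]
      have h3 : S.card ≤ 3 := Finset.card_le_three
      have : S.card * S.card - S.card = S.card * (S.card - 1) := by rw [Nat.mul_sub, mul_one]
      rw [this]
      exact le_trans (Nat.mul_le_mul h3 (by omega : S.card - 1 ≤ 2)) (by norm_num)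
    refine le_trans (le_trans (Nat.card_le_card_of_injective
      (fun q : N ⧸ V => (⟨_, hoff q⟩ : S.offDiag)) fun q q' e => ?_) (le_of_eq ?_)) hcard
    · simp only [Subtype.mk.injEq, Prod.mk.injEq] at e
      rw [← q.out_eq', ← q'.out_eq', QuotientGroup.eq]
      apply Subgroup.mem_subgroupOf.2
      set x : PSL(2, F) := ((q.out : N) : PSL(2, F))
      set y : PSL(2, F) := ((q'.out : N) : PSL(2, F))
      show x⁻¹ * y ∈ P.four
      obtain ⟨g, hg⟩ := proj_surjective (x⁻¹ * y)
      rw [← hg]
      have hz : ∀ z : PSL(2, F), x * z * x⁻¹ = y * z * y⁻¹ → proj g * z = z * proj g := by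
        intro z h
        rw [hg]
        calc x⁻¹ * y * z = x⁻¹ * (y * z * y⁻¹) * y := by group
          _ = x⁻¹ * (x * z * x⁻¹) * y := by rw [h]
          _ = z * (x⁻¹ * y) := by group
      exact P.proj_mem_four_of_comm (hz _ e.1) (hz _ e.2)
    · rw [Nat.card_eq_fintype_card, Fintype.card_coe]
  have h := V.card_mul_index
  rw [hV, Nat.card_congr (Subgroup.subgroupOfEquivOfLe Subgroup.le_normalizer).toEquiv,
    P.card_four, ← hV] at h
  omega

/-- A group of order 12 around the four-group is `tetra`. -/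
theorem tetra_eq_of_card [Fintype F] {T : Subgroup PSL(2, F)} (hT : Nat.card T = 12)
    (hle : P.four ≤ T) (hN : T ≤ Subgroup.normalizer (P.four : Set PSL(2, F))) : T = P.tetra := by
  obtain ⟨w, hw⟩ := P.exists_omega
  obtain ⟨-, -, h3⟩ := P.omega_rels hw
  symm
  refine Subgroup.eq_of_le_of_card_ge ?_ (by rw [hT, P.card_tetra])
  have hwN : proj w ∈ Subgroup.normalizer (P.four : Set PSL(2, F)) :=
    P.tetra_le_normalizer (Subgroup.subset_closure (by rw [P.tetraSet_eq hw]; simp))
  have hwT : proj w ∈ T := by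
    set N := Subgroup.normalizer (P.four : Set PSL(2, F))
    have hidx : (T.subgroupOf N).index ≤ 2 ∧ (T.subgroupOf N).index ≠ 0 := by
      refine ⟨?_, Subgroup.index_ne_zero_of_finite⟩
      have h := (T.subgroupOf N).card_mul_index
      rw [Nat.card_congr (Subgroup.subgroupOfEquivOfLe hN).toEquiv, hT] at h
      have := P.card_normalizer_four_le
      nlinarith
    rcases show (T.subgroupOf N).index = 1 ∨ (T.subgroupOf N).index = 2 by omega with e | e
    · rw [Subgroup.index_eq_one, Subgroup.subgroupOf_eq_top] at e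
      exact e hwN
    · have := Subgroup.normal_of_index_eq_two e
      have h2 := Subgroup.pow_index_mem (T.subgroupOf N) (⟨proj w, hwN⟩ : N)
      rw [e, Subgroup.mem_subgroupOf] at h2
      have h4 : proj w = (proj w ^ 2) ^ 2 := by
        rw [← pow_mul, show 2 * 2 = 3 + 1 from rfl, pow_succ, pow_succ, pow_two, ← proj_mul,
          ← proj_mul, h3]
        exact (one_mul _).symm
      rw [h4]
      exact pow_mem (by simpa using h2) 2
  rw [tetra, P.tetraSet_eq hw, Subgroup.closure_le]
  rintro z (rfl | rfl | rfl)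
  · exact hle (P.mem_four.2 (Or.inr (Or.inl rfl)))
  · exact hle (P.mem_four.2 (Or.inr (Or.inr (Or.inl rfl))))
  · exact hwT

/-- With a square root of two the normaliser has order 24 and lies over any subfield. -/
theorem card_normalizer_of_sqrt_two [Fintype F] {r : F} (hr : r * r = 2) :
    Nat.card (Subgroup.normalizer (P.four : Set PSL(2, F))) = 24 ∧
      ∀ {K : Type} [Field K] (ι : K →+* F),
        Subgroup.normalizer (P.four : Set PSL(2, F)) ≤ P.spanP ι := by
  have h2 := P.two_ne
  have hdet : (P.qc (r / 2) (r / 2) 0 0).det = 1 := by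
    rw [P.det_qc]
    field_simp
    linear_combination (2 : F) * hr
  let s : SL(2, F) := ⟨P.qc (r / 2) (r / 2) 0 0, hdet⟩
  have hs : s.1 = P.qc (r / 2) (r / 2) 0 0 := rfl
  have hsi : s * P.i = P.i * s := by
    apply Subtype.ext
    rw [Matrix.SpecialLinearGroup.coe_mul, Matrix.SpecialLinearGroup.coe_mul, hs, P.i_eq_qc,
      P.qc_mul, P.qc_mul]
    congr 1 <;> ring
  have hsj : s * P.j = P.k * s := by
    apply Subtype.ext
    rw [Matrix.SpecialLinearGroup.coe_mul, Matrix.SpecialLinearGroup.coe_mul, hs, P.j_eq_qc,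
      P.k_eq_qc, P.qc_mul, P.qc_mul]
    congr 1 <;> ring
  have hss : s * s = P.i := by
    apply Subtype.ext
    rw [Matrix.SpecialLinearGroup.coe_mul, hs, P.i_eq_qc, P.qc_mul]
    congr 1 <;> field_simp <;> first | linear_combination hr | linear_combination (2 : F) * hr | ring
  set N := Subgroup.normalizer (P.four : Set PSL(2, F))
  have hsN : proj s ∈ N := by
    rw [← conjS_eq_self_iff]
    refine Subgroup.eq_of_le_of_card_ge ?_ (card_conjS _ _).ge
    rw [conjS, four, MonoidHom.map_closure, Subgroup.closure_le]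
    rintro _ ⟨y, hy, rfl⟩
    simp only [MulEquiv.coe_toMonoidHom, MulAut.conj_apply, SetLike.mem_coe]
    rcases hy with rfl | rfl
    · rw [← proj_mul, hsi, proj_mul, mul_inv_cancel_right]
      exact P.mem_four.2 (Or.inr (Or.inl rfl))
    · rw [← proj_mul, hsj, proj_mul, mul_inv_cancel_right]
      exact P.mem_four.2 (Or.inr (Or.inr (Or.inr rfl)))
  have hsT : proj s ∉ P.tetra := by
    intro h
    obtain ⟨e⟩ := P.nonempty_tetra_equiv
    have key : ∀ n : ℕ, e ⟨proj s, h⟩ ^ n = 1 → proj s ^ n = 1 := fun n hn => by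
      have h' : (⟨proj s, h⟩ : P.tetra) ^ n = 1 := e.injective (by rw [map_pow, map_one, hn])
      exact congrArg Subtype.val h'
    have hi : proj s * proj s = proj P.i := by rw [← proj_mul, hss]
    rcases alt_four_pow (e ⟨proj s, h⟩) with h1 | h1
    · exact P.proj_i_ne_one (by rw [← hi, ← pow_two]; exact key _ h1)
    · have h3 := key _ h1
      rw [pow_succ, pow_two, hi] at h3
      have : proj s = proj P.i := by
        rw [← inv_eq_of_mul_eq_one_right h3, inv_eq_of_mul_eq_one_right (proj_sq _ P.ii)]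
      rw [this, proj_sq _ P.ii] at h3
      exact P.proj_i_ne_one (by rw [← hi, this, proj_sq _ P.ii])
  set X := P.tetra ⊔ Subgroup.zpowers (proj s) with hX
  have hXN : X ≤ N := sup_le P.tetra_le_normalizer (Subgroup.zpowers_le.2 hsN)
  have h12 : 12 ∣ Nat.card X := P.card_tetra ▸ Subgroup.card_dvd_of_le le_sup_left
  have hne : Nat.card X ≠ 12 := by
    intro h
    have : P.tetra = X := Subgroup.eq_of_le_of_card_ge le_sup_left (by rw [P.card_tetra, h])
    exact hsT (by rw [this]; exact (le_sup_right : _ ≤ X) (Subgroup.mem_zpowers _))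
  have h24 : 24 ≤ Nat.card X := by
    obtain ⟨t, ht⟩ := h12
    have : 0 < Nat.card X := Nat.card_pos
    omega
  have hup := P.card_normalizer_four_le
  have hXeq : X = N := Subgroup.eq_of_le_of_card_ge hXN (le_trans hup h24)
  refine ⟨le_antisymm hup (h24.trans (Subgroup.card_le_of_le hXN)), fun {K} _ ι => ?_⟩
  rw [← hXeq]
  refine sup_le (P.tetra_le_spanP ι) (Subgroup.zpowers_le.2 ((P.proj_mem_spanP ι).2 ?_))
  exact ⟨r / 2, 1, 1, 0, 0, by rw [hs, P.smul_qc]; simp⟩

end QuatPair

end CfsgLib.DicksonPSL2
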