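import Cfsg.Agent.DicksonPSL2.FourNormalizer
import Cfsg.Agent.DicksonPSL2.Orders
import Cfsg.Agent.FieldEmb.Basic
import Mathlib.NumberTheory.LegendreSymbol.QuadraticReciprocity
import Mathlib.NumberTheory.LegendreSymbol.QuadraticChar.GaussSum

/-!
# Maximal subgroups isomorphic to `A₄`, `S₄` or `A₅`

A maximal one forces the field to be as small as its coordinates allow.
-/

set_option autoImplicit false
set_option linter.unusedSectionVars false

namespace CfsgLib.DicksonPSL2

open Matrix CfsgLib.SL2Trace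
open CfsgLib.SL2Tori (tr)
open scoped MatrixGroups

variable {F : Type*} [Field F]

theorem sq_eq (g : SL(2, F)) : g.1 * g.1 = tr g • g.1 - 1 := by
  have hd := det_eq_one g
  ext i j
  fin_cases i <;> fin_cases j <;>
    simp [tr, Matrix.trace_fin_two, Matrix.mul_apply, Fin.sum_univ_two] <;> grind

theorem cube_eq (g : SL(2, F)) :
    g.1 * g.1 * g.1 = (tr g ^ 2 - 1) • g.1 - tr g • (1 : Matrix (Fin 2) (Fin 2) F) := by
  rw [sq_eq, sub_mul, Matrix.smul_mul, sq_eq, one_mul]
  module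

theorem fifth_eq (g : SL(2, F)) :
    g.1 * g.1 * g.1 * g.1 * g.1 = (tr g ^ 4 - 3 * tr g ^ 2 + 1) • g.1 -
      (tr g ^ 3 - 2 * tr g) • (1 : Matrix (Fin 2) (Fin 2) F) := by
  rw [cube_eq, sub_mul, sub_mul, Matrix.smul_mul, Matrix.smul_mul, Matrix.smul_mul, Matrix.smul_mul,
    cube_eq, one_mul, sq_eq]
  module

theorem coe_of_proj_pow {g : SL(2, F)} {n : ℕ} (h : proj g ^ n = 1) :
    ∃ e : F, (g ^ n).1 = e • (1 : Matrix (Fin 2) (Fin 2) F) := by
  rw [← projHom_apply, ← map_pow, projHom_apply, proj_eq_one_iff] at h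
  rcases h with h | h
  · exact ⟨1, by rw [h, one_smul]; rfl⟩
  · exact ⟨-1, by rw [h, neg_one_smul]; rfl⟩

theorem tr_of_pow_two {g : SL(2, F)} (h : proj g ^ 2 = 1) (h1 : proj g ≠ 1) : tr g = 0 := by
  obtain ⟨e, he⟩ := coe_of_proj_pow h
  rw [Matrix.SpecialLinearGroup.coe_pow, pow_two, sq_eq, sub_eq_iff_eq_add] at he
  by_contra ht
  exact h1 (proj_eq_one_of_smul ht (r := e + 1) (by rw [he, add_smul, one_smul]))

theorem tr_of_pow_three {g : SL(2, F)} (h : proj g ^ 3 = 1) (h1 : proj g ≠ 1) : tr g ^ 2 = 1 := by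
  obtain ⟨e, he⟩ := coe_of_proj_pow h
  rw [Matrix.SpecialLinearGroup.coe_pow, pow_succ, pow_two, cube_eq, sub_eq_iff_eq_add] at he
  by_contra ht
  exact h1 (proj_eq_one_of_smul (sub_ne_zero.2 ht) (r := e + tr g) (by rw [he, add_smul]))

theorem tr_of_pow_five {g : SL(2, F)} (h : proj g ^ 5 = 1) (h1 : proj g ≠ 1) :
    tr g ^ 4 - 3 * tr g ^ 2 + 1 = 0 := by
  obtain ⟨e, he⟩ := coe_of_proj_pow h
  rw [Matrix.SpecialLinearGroup.coe_pow, pow_succ, pow_succ, pow_succ, pow_two, fifth_eq,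
    sub_eq_iff_eq_add] at he
  by_contra ht
  exact h1 (proj_eq_one_of_smul ht (r := e + (tr g ^ 3 - 2 * tr g)) (by rw [he, add_smul]))

theorem tr_of_proj_eq_one {g : SL(2, F)} (h : proj g = 1) : tr g = 2 ∨ tr g = -2 := by
  rcases (proj_eq_one_iff g).1 h with rfl | rfl
  · left; simp [tr, Matrix.trace_one]
  · right; simp [tr, Matrix.trace_one]

/-- Five is a square modulo a prime ending in `1` or `9`. -/
theorem exists_sq_five (p : ℕ) [Fact p.Prime] [CharP F p] (h : p % 10 = 1 ∨ p % 10 = 9) :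
    ∃ s : ZMod p, (ZMod.castHom (dvd_refl p) F s) ^ 2 = 5 := by
  have hp5 : Fact (Nat.Prime 5) := ⟨by norm_num⟩
  have hp2 : p ≠ 2 := by rintro rfl; omega
  have h1 : IsSquare ((p : ℕ) : ZMod 5) := by
    rw [← ZMod.natCast_mod]
    rcases show p % 5 = 1 ∨ p % 5 = 4 by omega with e | e <;> rw [e]
    · exact ⟨1, rfl⟩
    · exact ⟨2, rfl⟩
  obtain ⟨s, hs⟩ :=
    (ZMod.exists_sq_eq_prime_iff_of_mod_four_eq_one (p := 5) (q := p) (by norm_num) hp2).1 h1
  refine ⟨s, ?_⟩
  rw [pow_two, ← map_mul, ← hs, map_natCast]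
  norm_num

variable [Fintype F]

theorem two_mul_card_PSL (hodd : Odd (Fintype.card F)) :
    2 * Nat.card PSL(2, F) = Fintype.card F * (Fintype.card F - 1) * (Fintype.card F + 1) := by
  rw [← card_PSL_formula F]
  rcases gcd_two_cases F with ⟨-, h, -⟩ | ⟨h, -⟩
  · rw [h]
  · exact absurd h (Nat.not_even_iff_odd.2 hodd)

theorem sixty_le_card_PSL (hodd : Odd (Fintype.card F)) (h5 : 5 ≤ Fintype.card F) :
    60 ≤ Nat.card PSL(2, F) ∧ (7 ≤ Fintype.card F → 60 < Nat.card PSL(2, F)) := by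
  have h := two_mul_card_PSL hodd
  refine ⟨?_, fun h7 => ?_⟩
  · have : 5 * 4 * 6 ≤ Fintype.card F * (Fintype.card F - 1) * (Fintype.card F + 1) :=
      Nat.mul_le_mul (Nat.mul_le_mul h5 (by omega)) (by omega)
    omega
  · have : 7 * 6 * 8 ≤ Fintype.card F * (Fintype.card F - 1) * (Fintype.card F + 1) :=
      Nat.mul_le_mul (Nat.mul_le_mul h7 (by omega)) (by omega)
    omega

theorem mod_eight_of_dvd (hodd : Odd (Fintype.card F)) (h : 8 ∣ Nat.card PSL(2, F)) :
    Fintype.card F % 8 = 1 ∨ Fintype.card F % 8 = 7 := by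
  have h2 := two_mul_card_PSL hodd
  obtain ⟨c, hc⟩ := h
  rw [hc] at h2
  rw [Nat.odd_iff] at hodd
  by_contra hcon
  obtain ⟨t, ht | ht⟩ : ∃ t, Fintype.card F = 8 * t + 3 ∨ Fintype.card F = 8 * t + 5 :=
    ⟨Fintype.card F / 8, by omega⟩
  · rw [ht, show 8 * t + 3 - 1 = 8 * t + 2 by omega] at h2
    ring_nf at h2
    omega
  · rw [ht, show 8 * t + 5 - 1 = 8 * t + 4 by omega] at h2
    ring_nf at h2
    omega

theorem mod_ten_of_dvd (p : ℕ) [Fact p.Prime] [CharP F p] (hp5 : p ≠ 5)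
    (hodd : Odd (Fintype.card F)) (h : 5 ∣ Nat.card PSL(2, F)) :
    Fintype.card F % 10 = 1 ∨ Fintype.card F % 10 = 9 := by
  have h5 : Nat.Prime 5 := by norm_num
  have h2 : 5 ∣ Fintype.card F * (Fintype.card F - 1) * (Fintype.card F + 1) :=
    two_mul_card_PSL hodd ▸ h.mul_left 2
  have h0 : ¬ 5 ∣ Fintype.card F := by
    intro h'
    obtain ⟨n, hp, hn⟩ := FiniteField.card F p
    rw [hn] at h'
    exact hp5 ((Nat.prime_dvd_prime_iff_eq h5 hp).1 (h5.dvd_of_dvd_pow h')).symm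
  rw [Nat.odd_iff] at hodd
  rcases (Nat.Prime.dvd_mul h5).1 h2 with h' | h'
  · rcases (Nat.Prime.dvd_mul h5).1 h' with h'' | h''
    · exact absurd h'' h0
    · omega
  · omega

theorem exists_sqrt_two (h : Fintype.card F % 8 = 1 ∨ Fintype.card F % 8 = 7) :
    ∃ r : F, r * r = 2 := by
  obtain ⟨r, hr⟩ := (FiniteField.isSquare_two_iff (F := F)).2 (by omega)
  exact ⟨r, hr.symm⟩

variable {M : Subgroup PSL(2, F)}

/-- A maximal subgroup normalising a four-group is its normaliser. -/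
theorem eq_normalizer_four (hodd : Odd (Fintype.card F)) (h5 : 5 ≤ Fintype.card F) (hM : IsCoatom M)
    {P : QuatPair F} (hle : M ≤ Subgroup.normalizer (P.four : Set PSL(2, F))) :
    M = Subgroup.normalizer (P.four : Set PSL(2, F)) := by
  rcases hM.le_iff.1 hle with e | e
  · exfalso
    have h1 := P.card_normalizer_four_le
    rw [e, Subgroup.card_top] at h1
    have := (sixty_le_card_PSL hodd h5).1
    omega
  · exact e.symm

/-- A small maximal subgroup lying over a subfield forces the subfield to be everything. -/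
theorem surjective_of_le_spanP (hM : IsCoatom M) {P : QuatPair F} {K : Type*} [Field K] [Fintype K]
    (ι : K →+* F) (hK : Odd (Fintype.card K)) (hle : M ≤ P.spanP ι)
    (hlt : 2 * Nat.card M < Fintype.card K * (Fintype.card K - 1) * (Fintype.card K + 1)) :
    Function.Surjective ι := by
  by_contra hs
  rcases hM.le_iff.1 hle with e | e
  · exact P.spanP_ne_top ι hs e
  · have := P.card_le_spanP ι hK
    rw [e] at this
    omega

theorem prime_field_of_le (p : ℕ) [Fact p.Prime] [CharP F p] (hp : 5 ≤ p) (hM : IsCoatom M)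
    (hc : Nat.card M ≤ 24) {P : QuatPair F}
    (hle : M ≤ P.spanP (ZMod.castHom (dvd_refl p) F)) : Fintype.card F = p := by
  have hodd : Odd p := (Fact.out : p.Prime).odd_of_ne_two (by omega)
  have hb : 5 * 4 * 6 ≤ p * (p - 1) * (p + 1) :=
    Nat.mul_le_mul (Nat.mul_le_mul hp (by omega)) (by omega)
  have hs := surjective_of_le_spanP hM (ZMod.castHom (dvd_refl p) F) (by rwa [ZMod.card]) hle
    (by rw [ZMod.card]; omega)
  rw [← ZMod.card p]
  exact (Fintype.card_of_bijective ⟨RingHom.injective _, hs⟩).symm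

theorem root_of_five {r : F} (p : ℕ) [Fact p.Prime] [CharP F p] (hp2 : p ≠ 2) (hr : r ^ 2 = 5) :
    r ^ p ^ 2 = r := by
  have h5 : (5 : F) ^ p = 5 := by
    have := congrArg (ZMod.castHom (dvd_refl p) F) (ZMod.pow_card ((5 : ℕ) : ZMod p))
    rw [map_pow, map_natCast] at this
    exact_mod_cast this
  have hodd : Odd p := (Fact.out : p.Prime).odd_of_ne_two hp2
  have h1 : (r ^ p) ^ 2 = r ^ 2 := by rw [← pow_mul, mul_comm, pow_mul, hr, h5]
  rw [pow_two, pow_mul]
  rcases sq_eq_sq_iff_eq_or_eq_neg.1 h1 with e | e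
  · rw [e, e]
  · rw [e, hodd.neg_pow, e, neg_neg]

/-- A maximal `A₄`. -/
theorem maximal_alt_four (p : ℕ) [Fact p.Prime] [CharP F p] (hp2 : p ≠ 2) (hp3 : p ≠ 3)
    (hodd : Odd (Fintype.card F)) (h5 : 5 ≤ Fintype.card F) (hM : IsCoatom M)
    (hc : Nat.card M = 12) (e : M ≃* alternatingGroup (Fin 4)) :
    Fintype.card F = p ∧ (p % 8 = 3 ∨ p % 8 = 5) ∧ ¬ (p % 10 = 1 ∨ p % 10 = 9) := by
  have hpp : p.Prime := Fact.out
  have hp5 : 5 ≤ p := by
    have : p ≠ 4 := by rintro rfl; norm_num at hpp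
    have := hpp.two_le
    omega
  obtain ⟨V, hVn, hVc, hVe⟩ := exists_four_alt
  obtain ⟨P, hfour, hnorm⟩ := exists_pair_of_model (Linear.two_ne_zero_of_odd hodd)
    (M.subtype.comp e.symm.toMonoidHom) (Subtype.val_injective.comp e.symm.injective) V hVc hVe
  rw [MonoidHom.range_comp, MonoidHom.range_eq_top.2 e.symm.surjective, ← MonoidHom.range_eq_map,
    Subgroup.range_subtype] at hfour hnorm
  have hT : M = P.tetra := P.tetra_eq_of_card hc hfour hnorm
  have hN := eq_normalizer_four hodd h5 hM hnorm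
  have hp : Fintype.card F = p :=
    prime_field_of_le p hp5 hM (by omega) (hT ▸ P.tetra_le_spanP _)
  have hmod : ¬ (Fintype.card F % 8 = 1 ∨ Fintype.card F % 8 = 7) := by
    intro h
    obtain ⟨r, hr⟩ := exists_sqrt_two h
    have := (P.card_normalizer_of_sqrt_two hr).1
    rw [← hN] at this
    omega
  refine ⟨hp, ?_, fun h => ?_⟩
  · rw [Nat.odd_iff] at hodd
    omega
  obtain ⟨s, hs⟩ := exists_sq_five (F := F) p h
  have h2 := P.two_ne
  set φ := (1 + ZMod.castHom (dvd_refl p) F s) / 2 with hφdef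
  have hφ : φ * φ = φ + 1 := by
    rw [hφdef]
    field_simp
    linear_combination hs
  have h60 := (P.card_ico φ hφ).1
  rcases hM.le_iff.1 (hT ▸ P.tetra_le_ico φ hφ) with h' | h'
  · rw [h', Subgroup.card_top] at h60
    have := (sixty_le_card_PSL hodd h5).2 (by omega)
    omega
  · rw [h', hc] at h60
    omega

/-- A maximal `S₄`. -/
theorem maximal_perm_four (p : ℕ) [Fact p.Prime] [CharP F p] (hp2 : p ≠ 2) (hp3 : p ≠ 3)
    (hodd : Odd (Fintype.card F)) (h5 : 5 ≤ Fintype.card F) (hM : IsCoatom M)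
    (hc : Nat.card M = 24) (e : M ≃* Equiv.Perm (Fin 4)) :
    Fintype.card F = p ∧ (p % 8 = 1 ∨ p % 8 = 7) := by
  have hpp : p.Prime := Fact.out
  have hp5 : 5 ≤ p := by
    have : p ≠ 4 := by rintro rfl; norm_num at hpp
    have := hpp.two_le
    omega
  obtain ⟨V, hVn, hVc, hVe⟩ := exists_four_perm
  obtain ⟨P, hfour, hnorm⟩ := exists_pair_of_model (Linear.two_ne_zero_of_odd hodd)
    (M.subtype.comp e.symm.toMonoidHom) (Subtype.val_injective.comp e.symm.injective) V hVc hVe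
  rw [MonoidHom.range_comp, MonoidHom.range_eq_top.2 e.symm.surjective, ← MonoidHom.range_eq_map,
    Subgroup.range_subtype] at hfour hnorm
  have hmod := mod_eight_of_dvd hodd
    ((show 8 ∣ Nat.card M by rw [hc]; norm_num).trans (Subgroup.card_subgroup_dvd_card M))
  obtain ⟨r, hr⟩ := exists_sqrt_two hmod
  obtain ⟨hN, hspan⟩ := P.card_normalizer_of_sqrt_two hr
  have hp : Fintype.card F = p := prime_field_of_le p hp5 hM hc.le (hnorm.trans (hspan _))
  exact ⟨hp, hp ▸ hmod⟩

/-- A maximal `A₅`. -/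
theorem maximal_alt_five (p : ℕ) [Fact p.Prime] [CharP F p] (hp2 : p ≠ 2) (hp5 : p ≠ 5)
    (hodd : Odd (Fintype.card F)) (hM : IsCoatom M)
    (hc : Nat.card M = 60) (e : M ≃* alternatingGroup (Fin 5)) :
    (Fintype.card F % 10 = 1 ∨ Fintype.card F % 10 = 9) ∧
      (Fintype.card F = p ∨ (Fintype.card F = p ^ 2 ∧ (p % 10 = 3 ∨ p % 10 = 7))) := by
  have hpp : p.Prime := Fact.out
  have h2 : (2 : F) ≠ 0 := Linear.two_ne_zero_of_odd hodd
  have hmod := mod_ten_of_dvd p hp5 hodd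
    ((show 5 ∣ Nat.card M by rw [hc]; norm_num).trans (Subgroup.card_subgroup_dvd_card M))
  refine ⟨hmod, ?_⟩
  obtain ⟨V, hVn, hVc, hVe⟩ := exists_four_alt
  obtain ⟨f, hf⟩ := exists_alt_four_to_five
  set h : alternatingGroup (Fin 4) →* PSL(2, F) := (M.subtype.comp e.symm.toMonoidHom).comp f
  have hinj : Function.Injective h := (Subtype.val_injective.comp e.symm.injective).comp hf
  obtain ⟨P, hfour, hnorm⟩ := exists_pair_of_model h2 h hinj V hVc hVe
  have hT : h.range = P.tetra := P.tetra_eq_of_card (by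
    rw [← Nat.card_congr (MonoidHom.ofInjective hinj).toEquiv, nat_card_alternatingGroup,
      Nat.card_fin]
    norm_num [Nat.factorial]) hfour hnorm
  have hTM : P.tetra ≤ M := by
    rw [← hT]
    rintro _ ⟨x, rfl⟩
    exact (e.symm (f x)).2
  have hord : ∀ g : SL(2, F), proj g ∈ M →
      tr g = 2 ∨ tr g = -2 ∨ tr g = 0 ∨ tr g ^ 2 = 1 ∨ tr g ^ 4 - 3 * tr g ^ 2 + 1 = 0 := by
    intro g hg
    by_cases h1 : proj g = 1
    · rcases tr_of_proj_eq_one h1 with h' | h'
      exacts [Or.inl h', Or.inr (Or.inl h')]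
    have key : ∀ n : ℕ, e ⟨proj g, hg⟩ ^ n = 1 → proj g ^ n = 1 := fun n hn => by
      have h' : (⟨proj g, hg⟩ : M) ^ n = 1 := e.injective (by rw [map_pow, map_one, hn])
      exact congrArg Subtype.val h'
    rcases alt_five_pow (e ⟨proj g, hg⟩) with h' | h' | h'
    · exact Or.inr (Or.inr (Or.inl (tr_of_pow_two (key _ h') h1)))
    · exact Or.inr (Or.inr (Or.inr (Or.inl (tr_of_pow_three (key _ h') h1))))
    · exact Or.inr (Or.inr (Or.inr (Or.inr (tr_of_pow_five (key _ h') h1))))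
  -- coordinates lie in any subfield with the square roots of five
  have main : ∀ (K : Type) [Field K] [Fintype K] (ι : K →+* F),
      (∀ r : F, r ^ 2 = 5 → r ∈ ι.fieldRange) → M ≤ P.spanP ι := by
    intro K _ _ ι hK
    have h2K : (2 : F) ∈ ι.fieldRange := ⟨2, map_ofNat ι 2⟩
    have htr : ∀ g : SL(2, F), proj g ∈ M → tr g ∈ ι.fieldRange := by
      intro g hg
      rcases hord g hg with h' | h' | h' | h' | h'
      · rw [h']; exact h2K
      · rw [h']; exact neg_mem h2K
      · rw [h']; exact zero_mem _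
      · rcases sq_eq_one_iff.1 h' with h'' | h'' <;> rw [h'']
        exacts [one_mem _, neg_mem (one_mem _)]
      · have hh : (2 * tr g ^ 2 - 3) ^ 2 = 5 := by linear_combination 4 * h'
        rcases mul_eq_zero.1 (show (tr g ^ 2 - tr g - 1) * (tr g ^ 2 + tr g - 1) = 0 by
          linear_combination h') with h'' | h''
        · have hr := hK (2 * tr g - 1) (by linear_combination 4 * h'')
          have := div_mem (add_mem hr (one_mem _)) h2K
          rwa [sub_add_cancel, mul_div_cancel_left₀ _ h2] at this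
        · have hr := hK (2 * tr g + 1) (by linear_combination 4 * h'')
          have := div_mem (sub_mem hr (one_mem _)) h2K
          rwa [add_sub_cancel_right, mul_div_cancel_left₀ _ h2] at this
    intro x hx
    obtain ⟨g, rfl⟩ := proj_surjective x
    have hmem : ∀ u : SL(2, F), proj u ∈ P.tetra → -(g.1 * u.1).trace / 2 ∈ ι.fieldRange :=
      fun u hu => div_mem (neg_mem (htr (g * u) (mul_mem hx (hTM hu)))) h2K
    obtain ⟨a, ha⟩ := div_mem (htr g hx) h2K
    obtain ⟨b, hb⟩ := hmem P.i (P.four_le_tetra (P.mem_four.2 (Or.inr (Or.inl rfl))))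
    obtain ⟨c, hc'⟩ := hmem P.j (P.four_le_tetra (P.mem_four.2 (Or.inr (Or.inr (Or.inl rfl)))))
    obtain ⟨d, hd⟩ := hmem P.k (P.four_le_tetra (P.mem_four.2 (Or.inr (Or.inr (Or.inr rfl)))))
    refine (P.proj_mem_spanP ι).2 ⟨1, a, b, c, d, ?_⟩
    rw [one_smul, ha, hb, hc', hd]
    exact P.eq_qc_trace g.1
  have hpow : ∀ k : ℕ, 0 < k → 11 ≤ p ^ k ∨ 9 = p ^ k →
      120 < p ^ k * (p ^ k - 1) * (p ^ k + 1) := by
    intro k hk h9
    have : 9 * 8 * 10 ≤ p ^ k * (p ^ k - 1) * (p ^ k + 1) :=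
      Nat.mul_le_mul (Nat.mul_le_mul (by omega) (by omega)) (by omega)
    omega
  have hp3 : 3 ≤ p := by have := hpp.two_le; omega
  have hpodd : Odd p := hpp.odd_of_ne_two hp2
  by_cases hp1 : p % 10 = 1 ∨ p % 10 = 9
  · left
    obtain ⟨s, hs⟩ := exists_sq_five (F := F) p hp1
    have h11 : 11 ≤ p := by
      have : p ≠ 9 := by rintro rfl; norm_num at hpp
      have := hpp.two_le
      omega
    have hsur := surjective_of_le_spanP hM (ZMod.castHom (dvd_refl p) F) (by rwa [ZMod.card])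
      (main (ZMod p) _ fun r hr => by
        rcases sq_eq_sq_iff_eq_or_eq_neg.1 (hr.trans hs.symm) with e' | e' <;> rw [e']
        exacts [⟨s, rfl⟩, ⟨-s, map_neg _ _⟩])
      (by rw [ZMod.card, hc]; simpa using hpow 1 one_pos (Or.inl (by simpa using h11)))
    rw [← ZMod.card p]
    exact (Fintype.card_of_bijective ⟨RingHom.injective _, hsur⟩).symm
  · right
    have hp37 : p % 10 = 3 ∨ p % 10 = 7 := by
      have h2' := Nat.odd_iff.1 hpodd
      have : p % 5 ≠ 0 := fun h0 =>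
        hp5 ((Nat.prime_dvd_prime_iff_eq (by norm_num) hpp).1 (Nat.dvd_of_mod_eq_zero h0)).symm
      omega
    obtain ⟨n, -, hn⟩ := FiniteField.card F p
    obtain ⟨k, hk⟩ : Even (n : ℕ) := by
      by_contra hev
      obtain ⟨k, hk⟩ := Nat.not_even_iff_odd.1 hev
      rw [hn, hk, pow_succ, pow_mul] at hmod
      have h9 : p ^ 2 % 10 = 9 := by rcases hp37 with e' | e' <;> rw [Nat.pow_mod, e']
      rw [Nat.mul_mod, Nat.pow_mod, h9] at hmod
      rcases Nat.even_or_odd k with ⟨j, rfl⟩ | ⟨j, rfl⟩ <;> rcases hp37 with e' | e' <;>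
        simp [pow_succ, pow_mul, ← two_mul, Nat.mul_mod, Nat.pow_mod, e'] at hmod
    have hk1 : 1 ≤ k := by have := n.pos; omega
    letI : Fintype (GaloisField p 2) := Fintype.ofFinite _
    have hK : Fintype.card (GaloisField p 2) = p ^ 2 := by
      rw [← Nat.card_eq_fintype_card, GaloisField.card p 2 (by norm_num)]
    obtain ⟨ι⟩ := FieldEmb.exists_ringHom (F := GaloisField p 2) (K := F) hk1 hK
      (by rw [hn, hk, ← pow_mul, two_mul])
    have h9 : 11 ≤ p ^ 2 ∨ 9 = p ^ 2 := by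
      rcases show p = 3 ∨ 4 ≤ p by omega with h' | h'
      · exact Or.inr (by rw [h']; norm_num)
      · have := Nat.pow_le_pow_left h' 2
        norm_num at this
        omega
    have hsur := surjective_of_le_spanP hM ι (by rw [hK]; exact hpodd.pow)
      (main (GaloisField p 2) ι fun r hr => by
        rw [← SetLike.mem_coe, RingHom.coe_fieldRange, FieldEmb.mem_range_iff ι hK]
        exact root_of_five p hp2 hr)
      (by rw [hK, hc]; simpa using hpow 2 two_pos h9)
    exact ⟨by rw [← hK]; exact (Fintype.card_of_bijective ⟨RingHom.injective _, hsur⟩).symm, hp37⟩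

end CfsgLib.DicksonPSL2
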