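import Cfsg.Agent.DicksonPSL2.PGLShapes

/-!
# The maximal subgroups of `PGL(2, q)`, `q` odd, not containing `PSL(2, q)`
-/

set_option autoImplicit false
set_option linter.unusedSectionVars false

namespace CfsgLib.DicksonPSL2

open Matrix CfsgLib.SL2Trace
open scoped MatrixGroups

theorem cube_value {p : ℕ} (hp : p.Prime) (hp2 : p ≠ 2) {a : ℕ} (ha : 1 ≤ a) :
    (p ^ a * (p ^ a - 1) * (p ^ a + 1) = 24 ∧ p = 3) ∨
    (p ^ a * (p ^ a - 1) * (p ^ a + 1) = 120 ∧ p = 5) ∨
    336 ≤ p ^ a * (p ^ a - 1) * (p ^ a + 1) := by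
  have hodd := Nat.odd_iff.1 ((hp.odd_of_ne_two hp2).pow (n := a))
  have hle : p ≤ p ^ a := Nat.le_self_pow (by omega) p
  have := hp.two_le
  have hp4 : p ≠ 4 := by rintro rfl; norm_num at hp
  rcases show p ^ a = 3 ∨ p ^ a = 5 ∨ 7 ≤ p ^ a by omega with e | e | e
  · left; rw [e]; exact ⟨rfl, by omega⟩
  · right; left
    refine ⟨by rw [e], ?_⟩
    have hdvd : p ∣ 5 := e ▸ dvd_pow_self p (by omega)
    exact (Nat.prime_dvd_prime_iff_eq hp (by norm_num)).1 hdvd
  · right; right
    exact Nat.mul_le_mul (Nat.mul_le_mul e (show 6 ≤ p ^ a - 1 by omega)) (show 8 ≤ p ^ a + 1 by omega)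

theorem cube_mono {p : ℕ} (hp : p.Prime) (hp2 : p ≠ 2) {a b : ℕ} (hb : 1 ≤ b) :
    p ^ a * (p ^ a - 1) * (p ^ a + 1) ≤ p ^ b * (p ^ b - 1) * (p ^ b + 1) ∨
      18 * (p ^ b * (p ^ b - 1) * (p ^ b + 1)) ≤ p ^ a * (p ^ a - 1) * (p ^ a + 1) := by
  rcases le_or_gt a b with h | h
  · left
    have := Nat.pow_le_pow_right hp.pos h
    exact Nat.mul_le_mul (Nat.mul_le_mul this (by omega)) (by omega)
  · right
    have h3 : 3 ≤ p := by have := hp.two_le; omega
    have h1 : 3 * p ^ b ≤ p ^ a := by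
      calc 3 * p ^ b ≤ p * p ^ b := Nat.mul_le_mul_right _ h3
        _ = p ^ (b + 1) := by rw [pow_succ']
        _ ≤ p ^ a := Nat.pow_le_pow_right hp.pos h
    have h2 : 2 ≤ p ^ b := le_trans hp.two_le (Nat.le_self_pow (by omega) p)
    calc 18 * (p ^ b * (p ^ b - 1) * (p ^ b + 1))
        = (3 * p ^ b) * (3 * (p ^ b - 1)) * (2 * (p ^ b + 1)) := by ring
      _ ≤ _ := Nat.mul_le_mul (Nat.mul_le_mul h1 (by omega)) (by omega)

variable {F : Type*} [Field F] [Fintype F] {M : Subgroup PGL(2, F)}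

theorem comap_ne_bot (hodd : Odd (Fintype.card F)) (h5 : 5 ≤ Fintype.card F) (hM : IsCoatom M)
    (hML : ¬ (toG (F := F)).range ≤ M) : M.comap toG ≠ ⊥ := by
  intro h
  have h2 := two_mul_card_comap hodd hM hML
  rw [h, Subgroup.card_bot, mul_one] at h2
  have := finite_PGL (F := F)
  have := Fact.mk Nat.prime_two
  obtain ⟨S, hS⟩ := (IsPGroup.of_card (n := 1) (p := 2) (G := M) (by rw [h2, pow_one])).exists_le_sylow
  have hG : Nat.card PGL(2, F) = 2 * Nat.card PSL(2, F) := by
    rw [two_mul_card_PSL hodd, card_PGL_two]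
  rw [Nat.odd_iff] at hodd
  have h8 : 2 ^ 3 ∣ Nat.card PGL(2, F) := by
    rw [card_PGL_two]
    obtain ⟨t, ht⟩ : ∃ t, Fintype.card F = 2 * t + 1 := ⟨Fintype.card F / 2, by omega⟩
    obtain ⟨s, hs⟩ := (Nat.even_mul_succ_self t).two_dvd
    refine ⟨(2 * t + 1) * s, ?_⟩
    rw [ht, show 2 * t + 1 - 1 = 2 * t by omega,
      show (2 * t + 1) * (2 * t) * (2 * t + 1 + 1) = (2 * t + 1) * (4 * (t * (t + 1))) by ring, hs]
    ring
  have hSdvd : 2 ^ 3 ∣ Nat.card (S : Subgroup PGL(2, F)) :=
    Sylow.pow_dvd_card_of_pow_dvd_card S h8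
  rcases hM.le_iff.1 hS with e | e
  · -- `PGL` is not a `2`-group
    obtain ⟨k, hk⟩ := S.2.exists_card_eq
    rw [e, Subgroup.card_top, card_PGL_two] at hk
    have hd : Fintype.card F ∣ 2 ^ k := hk ▸ Dvd.intro _ (mul_assoc _ _ _).symm
    obtain ⟨j, -, hj⟩ := (Nat.dvd_prime_pow Nat.prime_two).1 hd
    rcases Nat.eq_zero_or_pos j with rfl | hj0
    · omega
    · have : 2 ∣ Fintype.card F := hj ▸ dvd_pow_self 2 (by omega)
      omega
  · rw [e, h2] at hSdvd
    norm_num at hSdvd

theorem alt_four_sq_card :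
    Nat.card {x : alternatingGroup (Fin 4) // x * x = 1} = 4 := by
  rw [Nat.card_eq_fintype_card]
  decide +kernel

variable (p : ℕ) [Fact p.Prime] [CharP F p]

/-- The maximal subgroups of `PGL(2, q)` not containing `PSL(2, q)`. -/
theorem pgl_maximal_cases (hodd : Odd (Fintype.card F)) (h5 : 5 ≤ Fintype.card F)
    (hM : IsCoatom M) (hML : ¬ (toG (F := F)).range ≤ M) : PGLShape p M := by
  classical
  have h4 : 4 ≤ Fintype.card F := by omega
  have hp : p.Prime := Fact.out
  have hp2 : p ≠ 2 := by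
    rintro rfl
    obtain ⟨n, -, hn⟩ := FiniteField.card F 2
    rw [hn] at hodd
    exact Nat.not_even_iff_odd.2 hodd ((even_two).pow_of_ne_zero n.ne_zero)
  have h2M := two_mul_card_comap hodd hM hML
  have hbot := comap_ne_bot hodd h5 hM hML
  set H := M.comap toG with hH
  have hstab : ∀ g ∈ M, ∀ σ : MulAut PSL(2, F), (∀ y, toG (σ y) = g * toG y * g⁻¹) →
      ∀ x ∈ H, σ x ∈ H := fun g hg σ hσ x hx => map_comap_stable hg hσ hx
  rcases subgroup_cases_sharp p H with hB | ⟨x, hx, hle⟩ | ⟨hc, -, ⟨e⟩⟩ | ⟨hc, -, ⟨e⟩⟩ |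
    ⟨hc, ⟨-, hp5⟩, ⟨e⟩⟩ | hS
  · obtain ⟨a, ha⟩ := hB
    have haB : ∀ y ∈ H, a * y * a⁻¹ ∈ BP :=
      fun y hy => ha (mem_conjS.2 (by simpa [mul_assoc] using hy))
    by_cases hdvd : p ∣ Nat.card H
    · -- translations
      obtain ⟨⟨y, hy⟩, hyo⟩ := exists_prime_orderOf_dvd_card' (G := H) p hdvd
      rw [Subgroup.orderOf_mk] at hyo
      have hy1 : y ≠ 1 := fun e => hp.ne_one (by rw [← hyo, e, orderOf_one])
      have hnt : ∀ z : PSL(2, F), z ^ p = 1 → ¬ IsTor z :=
        fun z hz => by rw [isTor_iff_pow p, not_not, hz]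
      set W := conjS a⁻¹ (upGroup (F := F)) with hW
      have memW : ∀ z : PSL(2, F), z ∈ W ↔ a * z * a⁻¹ ∈ upGroup := fun z => by
        rw [hW, mem_conjS, inv_inv]
      have hWc : Nat.card W = Fintype.card F := by rw [hW, card_conjS, card_upGroup]
      have hWmem : ∀ z ∈ H, z ^ p = 1 → z ∈ W := fun z hz hzp => (memW z).2
        (mem_upGroup_of_not_isTor (haB z hz) (hnt _ (by rw [conj_pow, hzp, mul_one, mul_inv_cancel])))
      have hWcomm : ∀ z₁ ∈ W, ∀ z₂ ∈ W, z₁ * z₂ = z₂ * z₁ := by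
        intro z₁ h1 z₂ h2
        obtain ⟨v₁, e1⟩ := (memW z₁).1 h1
        obtain ⟨v₂, e2⟩ := (memW z₂).1 h2
        apply (MulAut.conj a).injective
        rw [map_mul, map_mul, MulAut.conj_apply, MulAut.conj_apply, ← e1, ← e2, ← u_add, ← u_add,
          add_comm]
      have hbot' : W ≠ ⊥ := fun e => by rw [e, Subgroup.card_bot] at hWc; omega
      have htop' : W ≠ ⊤ := fun e => by
        rw [e, Subgroup.card_top] at hWc
        have h1 := two_mul_card_PSL hodd
        rw [hWc] at h1
        have : Fintype.card F * 4 * 6 ≤ Fintype.card F * (Fintype.card F - 1) * (Fintype.card F + 1) :=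
          Nat.mul_le_mul (Nat.mul_le_mul le_rfl (by omega)) (by omega)
        omega
      obtain ⟨-, h2⟩ := eq_normalizer_of_stable hodd h4 hM hbot' htop' fun g hg σ hσ => by
        have hyW := hWmem y hy (hyo ▸ pow_orderOf_eq_one y)
        have hσyW : σ y ∈ W := hWmem _ (hstab g hg σ hσ y hy)
          (by rw [← map_pow, ← hyo, pow_orderOf_eq_one, map_one])
        obtain ⟨w₀, hw₀⟩ := (memW _).1 hσyW
        have hw0 : w₀ ≠ 0 := by
          rintro rfl
          rw [u_zero, eq_comm, conj_eq_one_iff, MulEquiv.map_eq_one_iff] at hw₀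
          exact hy1 hw₀
        refine Subgroup.eq_of_le_of_card_ge ?_
          (le_of_eq (Nat.card_congr (W.equivMapOfInjective σ.toMonoidHom σ.injective).toEquiv))
        rintro _ ⟨z, hz, rfl⟩
        rw [memW]
        obtain ⟨v, hv⟩ := exists_eq_u_of_comm hw0 (x := a * σ z * a⁻¹) (by
          have hc := congrArg (fun t => a * σ t * a⁻¹) (hWcomm z hz y hyW)
          rw [hw₀]
          simpa [map_mul, mul_assoc] using hc)
        exact ⟨v, hv.symm⟩
      left
      refine ⟨a⁻¹, ?_⟩
      rw [h2, hW, normalizer_conjS, normalizer_upGroup]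
    · -- a cyclic group
      let f : H →* Fˣ :=
        { toFun := fun b => Units.mk0 (chi (a * (b : PSL(2, F)) * a⁻¹)) (chi_ne_zero (haB _ b.2))
          map_one' := Units.ext (by simp [chi_one])
          map_mul' := fun b c => Units.ext (by
            simp only [Units.val_mk0, Units.val_mul, Subgroup.coe_mul]
            rw [← chi_mul _ (haB _ c.2)]
            congr 1
            group) }
      have hord : ∀ z ∈ H, z ^ p = 1 → z = 1 := by
        intro z hz hzp
        by_contra hne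
        have ho : orderOf z = p := orderOf_eq_prime hzp hne
        exact hdvd (ho ▸ Subgroup.orderOf_dvd_natCard _ hz)
      have hinj : Function.Injective f := by
        rw [injective_iff_map_eq_one]
        intro b hb
        have h1 : chi (a * (b : PSL(2, F)) * a⁻¹) = 1 := congrArg Units.val hb
        obtain ⟨w, hw⟩ := eq_u_of_chi_eq_one (haB _ b.2) h1
        have h2 : (a * (b : PSL(2, F)) * a⁻¹) ^ p = 1 := by
          by_contra hne
          exact not_isTor_u w (hw ▸ (isTor_iff_pow p _).2 hne)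
        rw [conj_pow, conj_eq_one_iff] at h2
        exact Subtype.ext (hord _ b.2 h2)
      obtain ⟨⟨t, ht⟩, hgen⟩ := (isCyclic_of_injective f hinj).exists_generator
      have ht1 : t ≠ 1 := by
        rintro rfl
        apply hbot
        rw [eq_bot_iff]
        intro z hz
        obtain ⟨k, hk⟩ := hgen ⟨z, hz⟩
        have := congrArg Subtype.val hk
        simpa using this.symm
      have htor : IsTor t := (isTor_iff_pow p t).2 fun e => ht1 (hord t ht e)
      refine torus_shape p hodd h4 hM htor fun g hg σ hσ =>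
        torus_stable p htor (self_mem_torus t) ht1 σ ?_
      obtain ⟨k, hk⟩ := hgen ⟨σ t, hstab g hg σ hσ t ht⟩
      have e : t ^ k = σ t := congrArg Subtype.val hk
      rw [← e]
      exact zpow_mem (self_mem_torus t) k
  · -- in a torus normaliser
    by_cases hT : H ≤ torus x
    · obtain ⟨t, ht, ht1⟩ := H.ne_bot_iff_exists_ne_one.1 hbot |>.elim
        (fun t h => (⟨t.1, t.2, fun e => h (Subtype.ext e)⟩ : ∃ t, t ∈ H ∧ t ≠ 1))
      exact torus_shape p hodd h4 hM hx fun g hg σ hσ =>
        torus_stable p hx (hT ht) ht1 σ (hT (hstab g hg σ hσ t ht))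
    have hinvol : ∀ y ∈ H, y ∉ torus x → y * y = 1 := fun y hy hyT =>
      ((mem_or_inverts hx ((mem_normalizer_torus_iff hx).1 (hle hy))).resolve_left hyT).1
    by_cases hex : ∃ t ∈ H, t ∈ torus x ∧ t * t ≠ 1
    · obtain ⟨t, ht, htT, ht2⟩ := hex
      refine torus_shape p hodd h4 hM hx fun g hg σ hσ => torus_stable p hx htT ?_ σ ?_
      · rintro rfl
        exact ht2 (one_mul 1)
      · by_contra hσT
        apply ht2
        apply σ.injective
        rw [map_mul, map_one]
        exact hinvol _ (hstab g hg σ hσ t ht) hσT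
    push Not at hex
    have hsq : ∀ y ∈ H, y * y = 1 := fun y hy => by
      by_cases hyT : y ∈ torus x
      exacts [hex y hy hyT, hinvol y hy hyT]
    obtain ⟨k, -, ⟨hT', -, -⟩ | ⟨hk, ⟨e⟩⟩⟩ := cyclic_or_dihedral hx hle
    · exact absurd hT' hT
    have hk2 : k ∣ 2 := by
      have h1 := congrArg e (Subtype.ext (hsq _ (e.symm (.r 1)).2) :
        e.symm (.r 1) * e.symm (.r 1) = 1)
      rw [map_mul, e.apply_symm_apply, map_one, DihedralGroup.r_mul_r, DihedralGroup.one_def,
        DihedralGroup.r.injEq, one_add_one_eq_two] at h1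
      exact (CharP.cast_eq_zero_iff (ZMod k) k 2).1 (by exact_mod_cast h1)
    rcases (Nat.dvd_prime Nat.prime_two).1 hk2 with rfl | rfl
    · -- one involution
      obtain ⟨t, ht, ht1⟩ := H.ne_bot_iff_exists_ne_one.1 hbot |>.elim
        (fun t h => (⟨t.1, t.2, fun e => h (Subtype.ext e)⟩ : ∃ t, t ∈ H ∧ t ≠ 1))
      have htor : IsTor t := by
        rw [isTor_iff_pow p]
        intro e
        have h2 : orderOf t ∣ 2 := orderOf_dvd_of_pow_eq_one (by rw [pow_two]; exact hsq t ht)
        have h3 := (Nat.dvd_prime hp).1 (orderOf_dvd_of_pow_eq_one e)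
        rcases h3 with h3 | h3
        · exact ht1 (orderOf_eq_one_iff.1 h3)
        · rw [h3, Nat.prime_dvd_prime_iff_eq hp Nat.prime_two] at h2
          exact hp2 h2
      refine torus_shape p hodd h4 hM htor fun g hg σ hσ => torus_stable p htor (self_mem_torus t) ht1 σ ?_
      have hall : ∀ y ∈ H, y = 1 ∨ y = t := by
        intro y hy
        by_contra hcon
        push Not at hcon
        have h3 : ({1, t, y} : Finset PSL(2, F)).card ≤ (H : Set PSL(2, F)).toFinset.card :=
          Finset.card_le_card (by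
            intro z hz
            simp only [Finset.mem_insert, Finset.mem_singleton] at hz
            rcases hz with rfl | rfl | rfl <;> simp [ht, hy, one_mem])
        rw [Finset.card_eq_three.2 ⟨1, t, y, Ne.symm ht1, Ne.symm hcon.1, Ne.symm hcon.2, rfl⟩,
          Set.toFinset_card, ← Nat.card_eq_fintype_card] at h3
        change 3 ≤ Nat.card H at h3
        omega
      rcases hall _ (hstab g hg σ hσ t ht) with e' | e'
      · exact absurd (σ.injective (e'.trans (map_one σ).symm)) ht1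
      · rw [e']; exact self_mem_torus t
    · obtain ⟨P, hP⟩ := eq_four_of_forall_sq (H := H) hk hsq (Linear.two_ne_zero_of_odd hodd)
      exact four_shape p hodd h5 hM hML P fun g hg σ hσ => by rw [hP]; exact comap_map_stable hg hσ
  · -- `A₄`
    obtain ⟨V, hVn, hVc, hVe⟩ := exists_four_alt
    obtain ⟨P, hfour, -⟩ := exists_pair_of_model (Linear.two_ne_zero_of_odd hodd)
      (H.subtype.comp e.symm.toMonoidHom) (Subtype.val_injective.comp e.symm.injective) V hVc hVe
    have hfourH : P.four ≤ H := hfour.trans (by rintro _ ⟨z, rfl⟩; exact (e.symm z).2)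
    set S : Set PSL(2, F) := {z | z ∈ H ∧ z * z = 1}
    have hSc : S.ncard ≤ 4 := by
      rw [← Nat.card_coe_set_eq, ← alt_four_sq_card]
      refine Nat.card_le_card_of_injective (fun z : S => (⟨e ⟨z.1, z.2.1⟩, by
        rw [← map_mul, MulEquiv.map_eq_one_iff]
        exact Subtype.ext z.2.2⟩ : {x : alternatingGroup (Fin 4) // x * x = 1})) fun z z' h => ?_
      exact Subtype.ext (congrArg Subtype.val (e.injective (congrArg Subtype.val h)) :)
    have hsq : ∀ z ∈ P.four, z * z = 1 := by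
      intro z hz
      rcases P.mem_four.1 hz with rfl | rfl | rfl | rfl
      exacts [one_mul 1, QuatPair.proj_sq _ P.ii, QuatPair.proj_sq _ P.jj, QuatPair.proj_sq _ P.kk]
    have hP4 : (P.four : Set PSL(2, F)) = S := by
      refine Set.eq_of_subset_of_ncard_le (fun z hz => ⟨hfourH hz, hsq z hz⟩) ?_ (Set.toFinite _)
      rw [← Nat.card_coe_set_eq (P.four : Set PSL(2, F))]
      exact hSc.trans (le_of_eq P.card_four.symm)
    refine four_shape p hodd h5 hM hML P fun g hg σ hσ => ?_
    refine Subgroup.eq_of_le_of_card_ge ?_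
      (le_of_eq (Nat.card_congr (P.four.equivMapOfInjective σ.toMonoidHom σ.injective).toEquiv))
    rintro _ ⟨z, hz, rfl⟩
    rw [← SetLike.mem_coe, hP4]
    refine ⟨hstab g hg σ hσ z (hfourH hz), ?_⟩
    show σ z * σ z = 1
    rw [← map_mul, hsq z hz, map_one]
  · -- `S₄`
    exfalso
    rcases card_cases_of_alt_four p hodd (M := M)
      (H.subtype.comp (e.symm.toMonoidHom.comp (alternatingGroup (Fin 4)).subtype))
      (Subtype.val_injective.comp (e.symm.injective.comp Subtype.val_injective))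
      (by rintro _ ⟨z, rfl⟩; exact (e.symm z.1).2) with h | ⟨h, -⟩ | ⟨h, -⟩ | ⟨a, ha, h⟩
    · omega
    · omega
    · omega
    · rcases cube_value hp hp2 ha with ⟨v, -⟩ | ⟨v, -⟩ | v <;> omega
  · -- `A₅`
    exfalso
    obtain ⟨f, hf⟩ := exists_alt_four_to_five
    rcases card_cases_of_alt_four p hodd (M := M)
      ((H.subtype.comp e.symm.toMonoidHom).comp f)
      ((Subtype.val_injective.comp e.symm.injective).comp hf)
      (by rintro _ ⟨z, rfl⟩; exact (e.symm (f z)).2) with h | ⟨h, -⟩ | ⟨h, -⟩ | ⟨a, ha, h⟩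
    · omega
    · omega
    · omega
    · rcases cube_value hp hp2 ha with ⟨v, -⟩ | ⟨v, v'⟩ | v <;> omega
  · obtain ⟨K, iK, iK', ι, a, w, h | ⟨-, h⟩⟩ := hS
    · exact subfield_shape p hodd h4 hM hML ι w a h
    exfalso
    have : CharP K p := RingHom.charP ι ι.injective p
    obtain ⟨n, -, hn⟩ := FiniteField.card K p
    have hKodd : Odd (Fintype.card K) := hn ▸ (hp.odd_of_ne_two hp2).pow
    obtain ⟨Q⟩ := exists_quatPair hKodd
    obtain ⟨e⟩ := Q.nonempty_tetra_equiv
    let f : alternatingGroup (Fin 4) →* PSL(2, F) :=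
      ((MulAut.conj a⁻¹).toMonoidHom.comp (psiS ι w)).comp (Q.tetra.subtype.comp e.symm.toMonoidHom)
    have hfle : f.range ≤ H := by
      rintro _ ⟨z, rfl⟩
      have hmem : psiS ι w (e.symm z).1 ∈ conjS a H := by
        have h1 : toG (psiS ι w (e.symm z).1) ∈ (conjS a H).map toG := by
          show _ ∈ (conjS a H).map ProjectiveSpecialLinearGroup.toPGL
          rw [h]
          exact ⟨ProjectiveSpecialLinearGroup.toPGL (e.symm z).1,
            (DFunLike.congr_fun (toPGL_comp_psiS ι w) _).symm⟩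
        obtain ⟨y, hy, hyz⟩ := h1
        rwa [← toG_injective hyz]
      have := mem_conjS.1 hmem
      simpa [f] using this
    have hfinj : Function.Injective f :=
      ((MulAut.conj a⁻¹).injective.comp (psiS_injective ι w)).comp
        (Subtype.val_injective.comp e.symm.injective)
    have hHc : Nat.card H = p ^ (n : ℕ) * (p ^ (n : ℕ) - 1) * (p ^ (n : ℕ) + 1) := by
      rw [← card_conjS a H, Nat.card_congr (Subgroup.equivMapOfInjective _ _
        ProjectiveSpecialLinearGroup.toPGL_injective).toEquiv, h, card_range_psiP, hn]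
    have hb : 24 ≤ Nat.card H := by
      rcases cube_value hp hp2 n.pos with ⟨v, -⟩ | ⟨v, -⟩ | v <;> omega
    rcases card_cases_of_alt_four p hodd (M := M) f hfinj hfle with h' | ⟨h', -⟩ | ⟨h', -⟩ | ⟨b, hb', h'⟩
    · omega
    · omega
    · rcases cube_value hp hp2 n.pos with ⟨v, -⟩ | ⟨v, -⟩ | v <;> omega
    · rcases cube_mono hp hp2 (a := b) n.pos with v | v <;> omega

end CfsgLib.DicksonPSL2
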