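import Cfsg.Agent.DicksonPSL2.Coatoms
import Cfsg.Agent.DicksonPSL2.PGLMaximal

/-!
# Maximal `S₄`, `PGL(2, q₀)` and, in even characteristic, `PSL(2, q₀)` in `PSL(2, q)`
-/

set_option autoImplicit false
set_option linter.unusedSectionVars false

open scoped Classical

namespace CfsgLib.DicksonPSL2

open Matrix CfsgLib.SL2Trace
open scoped MatrixGroups

variable {F : Type*} [Field F] [Fintype F] (p : ℕ) [Fact p.Prime] [CharP F p]

include p in
theorem isCoatom_normalizer_four (hF : Fintype.card F = p) (h8 : p % 8 = 1 ∨ p % 8 = 7)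
    (P : QuatPair F) : IsCoatom (Subgroup.normalizer (P.four : Set PSL(2, F))) := by
  have hp : p.Prime := Fact.out
  have hp2 : p ≠ 2 := by omega
  have h7 : 7 ≤ p := by
    have := hp.two_le
    omega
  have hodd : Odd (Fintype.card F) := by rw [hF]; exact hp.odd_of_ne_two hp2
  obtain ⟨r, hr⟩ := exists_sqrt_two (F := F) (by rw [hF]; exact h8)
  have hN := (P.card_normalizer_of_sqrt_two hr).1
  have hG := (sixty_le_card_PSL hodd (by omega)).1
  refine ⟨fun h => ?_, fun X hX => ?_⟩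
  · rw [h, Subgroup.card_top] at hN
    omega
  by_contra hXtop
  have hdvd : 24 ∣ Nat.card X := hN ▸ Subgroup.card_dvd_of_le hX.le
  have hne : Nat.card X ≠ 24 := fun h =>
    hX.ne (Subgroup.eq_of_le_of_card_ge hX.le (by rw [hN, h]))
  have hPX : P.tetra ≤ X := P.tetra_le_normalizer.trans hX.le
  rcases subgroup_cases_sharp p X with h | h | ⟨h, -, -⟩ | ⟨h, -, -⟩ | ⟨h, -, -⟩ | h
  · exact P.tetra_not_inBorel hPX h
  · exact P.tetra_not_inTorusNormalizer hPX h
  · omega
  · exact hne h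
  · omega
  · obtain ⟨Q, m, hQ, hm, hm1, hc⟩ := h.card_cases
    obtain ⟨a, ha, rfl, ham⟩ := eq_pow_of_card hp hQ hm1 (n := 1) (by rw [hm, hF, pow_one])
    obtain ⟨rfl, rfl⟩ : a = 1 ∧ m = 1 :=
      ⟨Nat.eq_one_of_mul_eq_one_right ham, Nat.eq_one_of_mul_eq_one_left ham⟩
    rcases hc with hc | ⟨-, he, -⟩
    · rw [pow_one, ← hF, ← card_PSL_formula F] at hc
      exact hXtop (Subgroup.eq_top_of_card_eq _
        (Nat.eq_of_mul_eq_mul_left (Nat.gcd_pos_of_pos_left _ two_pos) hc))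
    · exact absurd he (by decide)

theorem pow_sub_one_coprime {p : ℕ} (hp : p.Prime) {a b : ℕ} (ha : 1 ≤ a) :
    Nat.Coprime (p ^ (2 * a) - 1) (p ^ b) := by
  apply Nat.Coprime.pow_right
  rw [Nat.coprime_comm, hp.coprime_iff_not_dvd]
  intro hd
  have h1 : p ∣ p ^ (2 * a) := dvd_pow_self p (by omega)
  have h2 : 1 ≤ p ^ (2 * a) := Nat.one_le_pow _ _ hp.pos
  have := Nat.dvd_sub h1 hd
  rw [Nat.sub_sub_self h2, Nat.dvd_one] at this
  exact hp.ne_one this

theorem cube_split (p c : ℕ) :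
    p ^ c * (p ^ c - 1) * (p ^ c + 1) = p ^ c * (p ^ (2 * c) - 1) := by
  rw [mul_assoc]
  congr 1
  rw [mul_comm, ← Nat.sq_sub_sq, one_pow, ← pow_mul, mul_comm c 2]

theorem dvd_of_cube_dvd {p : ℕ} (hp : p.Prime) {a b : ℕ} (ha : 1 ≤ a)
    (h : p ^ a * (p ^ a - 1) * (p ^ a + 1) ∣ 2 * (p ^ b * (p ^ b - 1) * (p ^ b + 1))) : a ∣ b := by
  rw [cube_split, cube_split] at h
  exact dvd_of_sq_sub_one_dvd hp.two_le ha ((pow_sub_one_coprime hp ha).dvd_of_dvd_mul_left
    ((dvd_mul_left _ _).trans (h.trans (dvd_of_eq (mul_left_comm _ _ _)))))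

include p in
theorem isCoatom_psiP_comap {K : Type*} [Field K] [Fintype K] (ι : K →+* F)
    (hK : Odd (Fintype.card K)) (hF : Fintype.card F = Fintype.card K ^ 2) (w : Fˣ) :
    IsCoatom ((psiP ι w).range.comap (ProjectiveSpecialLinearGroup.toPGL (n := Fin 2) (R := F))) ∧
      Nonempty ((psiP ι w).range.comap (ProjectiveSpecialLinearGroup.toPGL (n := Fin 2) (R := F)) ≃*
        PGL(2, K)) := by
  have hp : p.Prime := Fact.out
  have hKp : CharP K p := RingHom.charP ι ι.injective p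
  obtain ⟨⟨a, ha⟩, -, hKc⟩ := FiniteField.card K p
  rw [PNat.mk_coe] at hKc
  have hodd : Odd (Fintype.card F) := hF ▸ hK.pow
  have hK3 : 3 ≤ Fintype.card K := by
    have := Fintype.one_lt_card (α := K)
    rw [Nat.odd_iff] at hK
    omega
  have hp3 : p ≠ 2 := by
    rintro rfl
    rw [hKc] at hK
    exact absurd ((even_two).pow_of_ne_zero (by omega)) (Nat.not_even_iff_odd.2 hK)
  have hle := psiP_range_le_range_toPGL ι w hF.symm even_two
  set B := (psiP ι w).range.comap (ProjectiveSpecialLinearGroup.toPGL (n := Fin 2) (R := F)) with hB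
  have hBc : Nat.card B = Fintype.card K * (Fintype.card K - 1) * (Fintype.card K + 1) := by
    rw [← card_range_psiP ι w, ← Subgroup.map_comap_eq_self hle]
    exact Nat.card_congr (Subgroup.equivMapOfInjective _ _
      ProjectiveSpecialLinearGroup.toPGL_injective).toEquiv
  refine ⟨?_, ⟨((Subgroup.equivMapOfInjective _ _ ProjectiveSpecialLinearGroup.toPGL_injective).trans
    (MulEquiv.subgroupCongr (Subgroup.map_comap_eq_self hle))).trans
    (MonoidHom.ofInjective (psiP_injective ι w)).symm⟩⟩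
  have hG := two_mul_card_PSL hodd
  refine ⟨fun h => ?_, fun X hX => ?_⟩
  · rw [h, Subgroup.card_top] at hBc
    have h2 : Fintype.card K * 3 ≤ Fintype.card F := by
      rw [hF, pow_two]; exact Nat.mul_le_mul_left _ hK3
    have := Nat.mul_le_mul (Nat.mul_le_mul h2 (show Fintype.card K - 1 ≤ Fintype.card F - 1 by omega))
      (show Fintype.card K + 1 ≤ Fintype.card F + 1 by omega)
    have hpos : 0 < Fintype.card K * (Fintype.card K - 1) * (Fintype.card K + 1) :=
      Nat.mul_pos (Nat.mul_pos (by omega) (by omega)) (by omega)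
    have e : Fintype.card K * 3 * (Fintype.card K - 1) * (Fintype.card K + 1) =
        3 * (Fintype.card K * (Fintype.card K - 1) * (Fintype.card K + 1)) := by ring
    omega
  by_contra hXtop
  have hdvd : Fintype.card K * (Fintype.card K - 1) * (Fintype.card K + 1) ∣ Nat.card X :=
    hBc ▸ Subgroup.card_dvd_of_le hX.le
  have hne : Nat.card X ≠ Fintype.card K * (Fintype.card K - 1) * (Fintype.card K + 1) := fun h =>
    hX.ne (Subgroup.eq_of_le_of_card_ge hX.le (by rw [hBc, h]))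
  have hpos : 0 < Nat.card X := Nat.card_pos
  obtain ⟨Q₀⟩ := exists_quatPair hK
  obtain ⟨e⟩ := Q₀.nonempty_tetra_equiv
  obtain ⟨P, hP⟩ := exists_tetra_eq hodd ((psiS ι w).comp (Q₀.tetra.subtype.comp e.symm.toMonoidHom))
    ((psiS_injective ι w).comp (Subtype.val_injective.comp e.symm.injective))
  have hPX : P.tetra ≤ X := by
    rw [hP]
    rintro _ ⟨z, rfl⟩
    refine hX.le ⟨ProjectiveSpecialLinearGroup.toPGL (e.symm z).1, ?_⟩
    exact (DFunLike.congr_fun (toPGL_comp_psiS ι w) _).symm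
  have hv := cube_value hp hp3 (a := a) ha
  rw [← hKc] at hv
  rcases subgroup_cases_sharp p X with h | h | ⟨h, -, -⟩ | ⟨h, ⟨-, h3⟩, -⟩ | ⟨h, ⟨-, h5⟩, -⟩ | h
  · exact P.tetra_not_inBorel hPX h
  · exact P.tetra_not_inTorusNormalizer hPX h
  · have := Nat.le_of_dvd hpos hdvd
    rcases hv with ⟨v, -⟩ | ⟨v, -⟩ | v <;> omega
  · have := Nat.le_of_dvd hpos hdvd
    rcases hv with ⟨v, v'⟩ | ⟨v, -⟩ | v <;> omega
  · have := Nat.le_of_dvd hpos hdvd
    rcases hv with ⟨v, -⟩ | ⟨v, -⟩ | v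
    · rw [v, h] at hdvd; omega
    · omega
    · omega
  · obtain ⟨Q, m, hQ, hm, hm1, hc⟩ := h.card_cases
    obtain ⟨b, hb, rfl, hbm⟩ := eq_pow_of_card hp hQ hm1 (n := a * 2)
      (by rw [hm, hF, hKc, pow_mul])
    have hd2 : p ^ a * (p ^ a - 1) * (p ^ a + 1) ∣ 2 * (p ^ b * (p ^ b - 1) * (p ^ b + 1)) := by
      rw [← hKc]
      rcases hc with hc | ⟨-, -, hc⟩
      · exact (hdvd.trans (Dvd.intro_left _ hc)).mul_left 2
      · exact (hc ▸ hdvd).mul_left 2
    obtain ⟨c, rfl⟩ := dvd_of_cube_dvd hp ha hd2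
    have hcm : c * m = 2 := by
      rw [mul_assoc] at hbm
      exact Nat.eq_of_mul_eq_mul_left ha hbm
    rcases (Nat.dvd_prime Nat.prime_two).1 (Dvd.intro m hcm) with rfl | rfl
    · rw [mul_one, ← hKc] at hc
      rcases hc with hc | ⟨-, -, hc⟩
      · have h2 : Nat.gcd 2 (Fintype.card K - 1) = 2 :=
          Nat.gcd_eq_left (by rw [Nat.odd_iff] at hK; omega)
        rw [h2] at hc
        have := Nat.le_of_dvd hpos hdvd
        omega
      · exact hne hc
    · obtain rfl : m = 1 := by omega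
      rw [pow_mul, ← hKc, ← hF] at hc
      rcases hc with hc | ⟨-, he, -⟩
      · rw [← card_PSL_formula F] at hc
        exact hXtop (Subgroup.eq_top_of_card_eq _
          (Nat.eq_of_mul_eq_mul_left (Nat.gcd_pos_of_pos_left _ two_pos) hc))
      · exact absurd he (by decide)

include p in
theorem isCoatom_range_psiS_two {K : Type*} [Field K] [Fintype K] (ι : K →+* F)
    (hp2 : p = 2) (hK : 4 ≤ Fintype.card K) {r : ℕ} (hr : r.Prime)
    (hF : Fintype.card F = Fintype.card K ^ r) (w : Fˣ) : IsCoatom (psiS ι w).range := by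
  have hp : p.Prime := Fact.out
  have hKp : CharP K p := RingHom.charP ι ι.injective p
  obtain ⟨⟨a, ha⟩, -, hKc⟩ := FiniteField.card K p
  rw [PNat.mk_coe] at hKc
  have hgcd : ∀ b : ℕ, 1 ≤ b → Nat.gcd 2 (p ^ b - 1) = 1 := by
    intro b hb
    refine (Nat.prime_two.coprime_iff_not_dvd).2 fun hd => ?_
    have h1 : 2 ∣ p ^ b := hp2 ▸ dvd_pow_self p (show b ≠ 0 by omega)
    have h2 : 1 ≤ p ^ b := Nat.one_le_pow _ _ hp.pos
    omega
  have hc := card_range_psiS ι w
  rw [hKc, hgcd a ha, one_mul] at hc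
  have hFc : Fintype.card F = p ^ (a * r) := by rw [hF, hKc, pow_mul]
  have hG := card_PSL_formula F
  rw [hFc, hgcd _ (Nat.mul_pos ha hr.pos), one_mul] at hG
  refine ⟨fun h => ?_, fun X hX => ?_⟩
  · rw [h, Subgroup.card_top, hG] at hc
    have hlt : p ^ a < p ^ (a * r) := Nat.pow_lt_pow_right hp.one_lt (by nlinarith [hr.two_le])
    have := Nat.mul_lt_mul_of_lt_of_le
      (Nat.mul_lt_mul_of_lt_of_le hlt (show p ^ a - 1 ≤ p ^ (a * r) - 1 by omega)
        (by have := Nat.le_self_pow (n := a) (by omega) p; omega))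
      (show p ^ a + 1 ≤ p ^ (a * r) + 1 by omega) (by omega)
    omega
  by_contra hXtop
  have hdvd := Subgroup.card_dvd_of_le hX.le
  rw [hc] at hdvd
  have hns : ¬ Group.IsSolvable X := fun hs => by
    have h1 : ¬ Group.IsSolvable PSL(2, K) := by
      intro h'
      have : IsSimpleGroup PSL(2, K) := Linear.isSimpleGroup_PSL_of 2 le_rfl fun _ => hK
      have hcm := (IsSimpleGroup.comm_iff_isSolvable).2 h'
      have hn : (BP (F := K)).Normal := ⟨fun x hx g => by rwa [hcm g x, mul_inv_cancel_right]⟩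
      rcases hn.eq_bot_or_eq_top with e | e
      · exact u_ne_one (one_ne_zero (α := K)) (Subgroup.mem_bot.1 (e ▸ u_mem_BP 1))
      · exact BP_ne_top e
    exact h1 (Group.isSolvable_of_isSolvable_injective
      (f := (Subgroup.inclusion hX.le).comp (MonoidHom.ofInjective (psiS_injective ι w)).toMonoidHom)
      ((Subgroup.inclusion_injective hX.le).comp (MonoidHom.ofInjective (psiS_injective ι w)).injective))
  rcases subgroup_cases_sharp p X with h | h | ⟨-, ⟨h, -⟩, -⟩ | ⟨-, ⟨h, -⟩, -⟩ | ⟨-, ⟨h, -⟩, -⟩ | h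
  · exact hns h.isSolvable
  · exact hns h.isSolvable
  iterate 3 · exact h hp2
  · obtain ⟨Q, m, hQ, hm, hm1, hcard⟩ := h.card_cases
    obtain ⟨b, hb, rfl, hbm⟩ := eq_pow_of_card hp hQ hm1 (hm.trans hFc)
    rcases hcard with hcard | ⟨ho, -, -⟩
    swap
    · exact Nat.not_even_iff_odd.2 ho (hp2 ▸ (even_two).pow_of_ne_zero (by omega))
    rw [hgcd b hb, one_mul] at hcard
    rw [hcard] at hdvd
    obtain ⟨c, rfl⟩ := dvd_of_cube_dvd hp ha (hdvd.mul_left 2)
    have hcm : c * m = r := by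
      rw [mul_assoc] at hbm
      exact Nat.eq_of_mul_eq_mul_left ha hbm
    rcases (Nat.dvd_prime hr).1 (Dvd.intro m hcm) with rfl | rfl
    · rw [mul_one] at hcard
      exact hX.ne (Subgroup.eq_of_le_of_card_ge hX.le (by rw [hc, hcard]))
    · exact hXtop (Subgroup.eq_top_of_card_eq _ (by rw [hG, hcard]))

end CfsgLib.DicksonPSL2
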