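import Cfsg.Agent.DicksonPSL2.SubfieldFacts
import Cfsg.Agent.DicksonPSL2.ExceptionalMax
import Cfsg.Agent.FieldEmb.Basic
import Cfsg.Prelude.Def_CaseTheorems

/-!
# When `PSL(2, q)` is a minimal simple group
-/

set_option autoImplicit false
set_option linter.unusedSectionVars false

namespace CfsgLib.DicksonPSL2

open Matrix CfsgLib.SL2Trace
open scoped MatrixGroups

variable {F : Type*} [Field F]

theorem not_comm_PSL [Fintype F] (h : 4 ≤ Fintype.card F) :
    ¬ IsMulCommutative PSL(2, F) ∧ ¬ Group.IsSolvable PSL(2, F) := by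
  have hs : IsSimpleGroup PSL(2, F) := Linear.isSimpleGroup_PSL_of 2 le_rfl fun _ => h
  have h1 : ¬ ∀ a b : PSL(2, F), a * b = b * a := by
    intro hc
    have hn : (BP (F := F)).Normal :=
      ⟨fun x hx g => by rwa [hc g x, mul_inv_cancel_right]⟩
    rcases hn.eq_bot_or_eq_top with e | e
    · exact u_ne_one (one_ne_zero (α := F)) (Subgroup.mem_bot.1 (e ▸ u_mem_BP 1))
    · have h2 := index_BP F
      rw [e, Subgroup.index_top] at h2
      omega
  exact ⟨fun hc => h1 hc.1.1, fun hsol => h1 ((IsSimpleGroup.comm_iff_isSolvable).2 hsol)⟩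

theorem isSolvable_PSL_small [Fintype F] (h : Fintype.card F ≤ 3) :
    Group.IsSolvable PSL(2, F) := by
  have h2 := card_ge_two F
  have h1 := card_PSL_formula F
  refine CfsgLib.Characters.isSolvable_of_card_eq_primePow_mul 2 3 3 1 Nat.prime_two Nat.prime_three ?_
  rcases show Fintype.card F = 2 ∨ Fintype.card F = 3 by omega with e | e <;> rw [e] at h1 <;>
    norm_num at h1 ⊢
  · rw [h1]; norm_num
  · rw [show Nat.card PSL(2, F) = 12 by omega]; norm_num

variable [Fintype F]

/-- A proper subfield with at least four elements gives a proper non-solvable subgroup. -/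
theorem exists_nonsolvable_of_subfield {p n l r : ℕ} [Fact p.Prime] (hF : Fintype.card F = p ^ n)
    (hn : n = l * r) (hr : 2 ≤ r) (hl : 4 ≤ p ^ l) :
    ∃ H : Subgroup PSL(2, F), H ≠ ⊤ ∧ ¬ Group.IsSolvable H := by
  have hl0 : l ≠ 0 := by rintro rfl; norm_num at hl
  letI : Fintype (GaloisField p l) := Fintype.ofFinite _
  have hK : Fintype.card (GaloisField p l) = p ^ l := by
    rw [← Nat.card_eq_fintype_card, GaloisField.card p l hl0]
  obtain ⟨ι⟩ := FieldEmb.exists_ringHom (F := GaloisField p l) (K := F) (n := r) (by omega) hK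
    (by rw [hF, hn, pow_mul])
  refine ⟨(psiS ι 1).range, fun htop => ?_, fun hsol => ?_⟩
  · have e : Nat.card PSL(2, GaloisField p l) = Nat.card PSL(2, F) := by
      rw [Nat.card_congr (MonoidHom.ofInjective (psiS_injective ι 1)).toEquiv, htop, Subgroup.card_top]
    have h1 := card_PSL_formula (GaloisField p l)
    have h2 := card_PSL_formula F
    rw [e, hK] at h1
    have hlt : 4 * p ^ l ≤ Fintype.card F := by
      rw [hF, hn]
      calc 4 * p ^ l ≤ p ^ l * p ^ l := Nat.mul_le_mul_right _ hl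
        _ = p ^ (l * 2) := by rw [← pow_add, mul_two]
        _ ≤ p ^ (l * r) := Nat.pow_le_pow_right (Fact.out : p.Prime).pos (Nat.mul_le_mul_left l hr)
    set Q := p ^ l
    set q := Fintype.card F
    have hN : 0 < Nat.card PSL(2, F) := Nat.card_pos
    have g1 : Nat.gcd 2 (Q - 1) ≤ 2 := Nat.le_of_dvd two_pos (Nat.gcd_dvd_left _ _)
    have g2 : 0 < Nat.gcd 2 (q - 1) := Nat.gcd_pos_of_pos_left _ two_pos
    have g3 : 0 < Nat.gcd 2 (Q - 1) := Nat.gcd_pos_of_pos_left _ two_pos
    have h3 : q * (q - 1) * (q + 1) ≤ 2 * (Q * (Q - 1) * (Q + 1)) := by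
      rw [← h1, ← h2, ← mul_assoc]
      refine Nat.mul_le_mul_right _ ?_
      have := Nat.le_of_dvd two_pos (Nat.gcd_dvd_left 2 (q - 1))
      omega
    have h4 : 4 * Q * (Q - 1) * (Q + 1) ≤ q * (q - 1) * (q + 1) :=
      Nat.mul_le_mul (Nat.mul_le_mul hlt (by omega)) (by omega)
    have h5 : 0 < Q * (Q - 1) * (Q + 1) :=
      Nat.mul_pos (Nat.mul_pos (by omega) (by omega)) (by omega)
    have h6 : 4 * Q * (Q - 1) * (Q + 1) = 4 * (Q * (Q - 1) * (Q + 1)) := by ring
    omega
  · exact (not_comm_PSL (F := GaloisField p l) (hK ▸ hl)).2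
      (Group.isSolvable_of_isSolvable_injective (f := (MonoidHom.ofInjective (psiS_injective ι 1)).toMonoidHom)
        (MonoidHom.ofInjective (psiS_injective ι 1)).injective)

/-- The exceptions to solvability of the proper subgroups. -/
theorem isSolvable_of_ne_top {p n : ℕ} [Fact p.Prime] [CharP F p] (hF : Fintype.card F = p ^ n)
    (hn : ∀ a m : ℕ, a * m = n → 2 ≤ m → p ^ a ≤ 3)
    (h5 : p = 2 ∨ p = 5 ∨ (p ^ n % 5 = 2 ∨ p ^ n % 5 = 3))
    {H : Subgroup PSL(2, F)} (hH : H ≠ ⊤) : Group.IsSolvable H := by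
  rcases subgroup_cases_sharp p H with h | h | ⟨h, -, -⟩ | ⟨h, -, -⟩ | ⟨h, ⟨hp2, hp5⟩, -⟩ | h
  · exact h.isSolvable
  · exact h.isSolvable
  · exact isSolvable_of_card_twelve (Or.inl h)
  · exact isSolvable_of_card_twelve (Or.inr h)
  · exfalso
    have h5' := (h5.resolve_left hp2).resolve_left hp5
    have h60 : 60 ∣ Nat.card PSL(2, F) := h ▸ Subgroup.card_subgroup_dvd_card H
    have h1 := card_PSL_formula F
    have hdvd : 5 ∣ p ^ n * (p ^ n - 1) * (p ^ n + 1) := by
      rw [← hF, ← h1]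
      exact ((show 5 ∣ 60 by norm_num).trans h60).mul_left _
    have hp : Nat.Prime 5 := by norm_num
    rcases (Nat.Prime.dvd_mul hp).1 hdvd with h' | h'
    · rcases (Nat.Prime.dvd_mul hp).1 h' with h'' | h'' <;> omega
    · omega
  · obtain ⟨Q, m, hQ, hm, hm1, hcard⟩ := h.card_cases
    rw [hF] at hm
    obtain ⟨a, -, rfl, ham⟩ := eq_pow_of_card (Fact.out : p.Prime) hQ hm1 hm
    rcases eq_or_lt_of_le hm1 with hm' | hm'
    · exfalso
      rw [← hm', mul_one] at ham
      subst ham
      rw [← hF] at hcard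
      rcases hcard with hc | ⟨-, he, -⟩
      · rw [← card_PSL_formula F] at hc
        exact hH (Subgroup.eq_top_of_card_eq _
          (Nat.eq_of_mul_eq_mul_left (Nat.gcd_pos_of_pos_left _ two_pos) hc))
      · rw [← hm'] at he
        exact absurd he (by decide)
    · have h3 := hn a m ham hm'
      refine CfsgLib.Characters.isSolvable_of_card_eq_primePow_mul 2 3 3 1 Nat.prime_two
        Nat.prime_three ?_
      rcases show p ^ a = 2 ∨ p ^ a = 3 by omega with e | e <;> rw [e] at hcard <;>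
        norm_num at hcard ⊢
      · rw [show Nat.card H = 6 by omega]; norm_num
      · rcases show Nat.card H = 12 ∨ Nat.card H = 24 by omega with e' | e' <;> rw [e'] <;> norm_num

end CfsgLib.DicksonPSL2
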