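import Cfsg.Agent.DicksonPSL2.Quaternion
import Cfsg.Agent.DicksonPSL2.ElementOrders
import Cfsg.Agent.DicksonPSL2.SubfieldMax
import Mathlib.Algebra.QuadraticAlgebra.Basic

/-!
# Two transvections over the field of nine elements

Over `F₉ = F₃(i)` the images of `[[1, 0], [1, 1]]` and `[[1, i], [0, 1]]` lie in a list of sixty
elements closed under both, written in doubled quaternion coordinates over `F₃[i]`.
-/

set_option autoImplicit false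
set_option linter.unusedSectionVars false

namespace CfsgLib.DicksonPSL2

open Matrix CfsgLib.SL2Trace
open scoped MatrixGroups

/-- `𝔽₃[i]`. -/
abbrev GaussThree : Type := QuadraticAlgebra (ZMod 3) (-1) 0

/-- `m + n i`. -/
def gz (m n : ZMod 3) : GaussThree := ⟨m, n⟩

/-- Sixty representatives up to sign. -/
def nineList : List (Quat GaussThree) :=
  [⟨gz 2 0, gz 0 0, gz 0 0, gz 0 0⟩,
   ⟨gz 2 0, gz 2 0, gz 2 0, gz 1 0⟩,
   ⟨gz 2 0, gz 0 1, gz 0 2, gz 0 1⟩,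
   ⟨gz 2 0, gz 1 0, gz 1 0, gz 2 0⟩,
   ⟨gz 2 1, gz 2 1, gz 2 0, gz 1 2⟩,
   ⟨gz 2 1, gz 2 1, gz 2 1, gz 1 0⟩,
   ⟨gz 2 0, gz 0 2, gz 0 1, gz 0 2⟩,
   ⟨gz 2 2, gz 1 1, gz 1 1, gz 2 0⟩,
   ⟨gz 2 2, gz 1 0, gz 1 1, gz 2 2⟩,
   ⟨gz 2 2, gz 2 2, gz 2 0, gz 1 1⟩,
   ⟨gz 2 2, gz 1 1, gz 1 0, gz 2 2⟩,
   ⟨gz 2 2, gz 1 2, gz 0 1, gz 0 2⟩,
   ⟨gz 2 2, gz 2 2, gz 2 2, gz 1 0⟩,
   ⟨gz 2 0, gz 0 2, gz 0 1, gz 0 1⟩,
   ⟨gz 2 1, gz 1 2, gz 1 2, gz 2 0⟩,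
   ⟨gz 2 0, gz 0 2, gz 0 2, gz 0 2⟩,
   ⟨gz 1 1, gz 0 1, gz 1 2, gz 0 2⟩,
   ⟨gz 2 1, gz 1 0, gz 1 2, gz 2 1⟩,
   ⟨gz 2 1, gz 2 2, gz 0 1, gz 0 2⟩,
   ⟨gz 1 1, gz 0 1, gz 0 1, gz 2 1⟩,
   ⟨gz 2 0, gz 0 0, gz 1 1, gz 2 1⟩,
   ⟨gz 2 1, gz 1 2, gz 1 0, gz 2 1⟩,
   ⟨gz 2 0, gz 0 0, gz 1 2, gz 2 2⟩,
   ⟨gz 2 1, gz 2 0, gz 2 1, gz 1 2⟩,
   ⟨gz 0 0, gz 2 0, gz 2 0, gz 0 2⟩,
   ⟨gz 2 0, gz 0 1, gz 0 2, gz 0 2⟩,
   ⟨gz 0 0, gz 1 0, gz 0 1, gz 2 0⟩,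
   ⟨gz 0 0, gz 0 1, gz 2 0, gz 1 0⟩,
   ⟨gz 0 0, gz 2 2, gz 1 0, gz 1 2⟩,
   ⟨gz 2 0, gz 0 1, gz 0 1, gz 0 1⟩,
   ⟨gz 0 0, gz 2 1, gz 1 0, gz 1 1⟩,
   ⟨gz 0 0, gz 1 0, gz 1 0, gz 0 2⟩,
   ⟨gz 2 0, gz 0 0, gz 2 2, gz 1 2⟩,
   ⟨gz 0 0, gz 2 0, gz 0 1, gz 1 0⟩,
   ⟨gz 0 0, gz 2 1, gz 2 2, gz 2 0⟩,
   ⟨gz 2 0, gz 0 0, gz 2 1, gz 1 1⟩,
   ⟨gz 0 0, gz 2 2, gz 2 1, gz 2 0⟩,
   ⟨gz 2 1, gz 1 1, gz 0 2, gz 0 1⟩,
   ⟨gz 1 2, gz 0 1, gz 0 1, gz 1 1⟩,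
   ⟨gz 2 2, gz 0 1, gz 1 2, gz 0 2⟩,
   ⟨gz 1 0, gz 1 1, gz 1 2, gz 0 0⟩,
   ⟨gz 2 2, gz 2 0, gz 2 2, gz 1 1⟩,
   ⟨gz 1 0, gz 1 2, gz 1 1, gz 0 0⟩,
   ⟨gz 1 0, gz 2 1, gz 0 0, gz 1 1⟩,
   ⟨gz 2 2, gz 0 1, gz 0 1, gz 2 1⟩,
   ⟨gz 1 0, gz 2 2, gz 0 0, gz 1 2⟩,
   ⟨gz 1 2, gz 0 2, gz 1 1, gz 0 1⟩,
   ⟨gz 1 2, gz 0 1, gz 2 2, gz 0 2⟩,
   ⟨gz 1 0, gz 2 2, gz 2 1, gz 0 0⟩,
   ⟨gz 1 0, gz 1 2, gz 0 0, gz 2 2⟩,
   ⟨gz 1 0, gz 2 1, gz 2 2, gz 0 0⟩,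
   ⟨gz 2 2, gz 2 1, gz 0 2, gz 0 1⟩,
   ⟨gz 1 0, gz 1 1, gz 0 0, gz 2 1⟩,
   ⟨gz 1 2, gz 0 2, gz 0 2, gz 2 2⟩,
   ⟨gz 0 0, gz 2 0, gz 1 2, gz 2 2⟩,
   ⟨gz 0 0, gz 2 0, gz 1 1, gz 2 1⟩,
   ⟨gz 0 0, gz 0 2, gz 2 0, gz 1 0⟩,
   ⟨gz 0 0, gz 0 2, gz 0 1, gz 0 0⟩,
   ⟨gz 0 0, gz 0 2, gz 0 0, gz 0 2⟩,
   ⟨gz 0 0, gz 0 0, gz 0 2, gz 0 2⟩]

/-- The two transvections. -/
def nineGens : List (Quat GaussThree) :=
  [⟨gz 2 0, gz 2 0, gz 2 0, gz 1 0⟩, ⟨gz 2 0, gz 0 1, gz 0 2, gz 0 1⟩]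

theorem nineList_norm : ∀ x ∈ nineList ++ nineGens,
    x.a * x.a + x.b * x.b + x.c * x.c + x.d * x.d = 4 := by decide +kernel

theorem nineList_closed : Quat.closedUnder nineList nineGens = true := by decide +kernel

theorem nineList_one : (⟨2, 0, 0, 0⟩ : Quat GaussThree) ∈ nineList ∧ nineList.length = 60 := by
  decide +kernel

variable {F : Type*} [Field F]

/-- `[[1, 0], [1, 1]]`. -/
def loOne : SL(2, F) := ⟨!![1, 0; 1, 1], by simp [Matrix.det_fin_two]⟩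

theorem coe_loOne : (loOne (F := F)).1 = !![1, 0; 1, 1] := rfl

/-- `[[0, 1], [-1, 0]]`. -/
def threeI : SL(2, F) := ⟨!![0, 1; -1, 0], by simp [Matrix.det_fin_two]⟩

theorem coe_threeI : (threeI (F := F)).1 = !![0, 1; -1, 0] := rfl

/-- `[[1, 1], [1, -1]]`, of determinant `-2`. -/
def threeJ [CharP F 3] : SL(2, F) := ⟨!![1, 1; 1, -1], by
  have h3 : (3 : F) = 0 := by simpa using CharP.cast_eq_zero F 3
  simp only [Matrix.det_fin_two_of]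
  linear_combination -h3⟩

theorem coe_threeJ [CharP F 3] : (threeJ (F := F)).1 = !![1, 1; 1, -1] := rfl

/-- The standard pair in characteristic three. -/
def threePair [CharP F 3] : QuatPair F where
  i := threeI
  j := threeJ
  two_ne := by
    have h3 : (3 : F) = 0 := by simpa using CharP.cast_eq_zero F 3
    intro h
    exact one_ne_zero (show (1 : F) = 0 by linear_combination h3 - h)
  ii := by
    apply Subtype.ext
    rw [Matrix.SpecialLinearGroup.coe_mul, Matrix.SpecialLinearGroup.coe_neg,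
      Matrix.SpecialLinearGroup.coe_one, coe_threeI]
    ext i j
    fin_cases i <;> fin_cases j <;> simp [Matrix.mul_apply, Fin.sum_univ_two]
  jj := by
    have h3 : (3 : F) = 0 := by simpa using CharP.cast_eq_zero F 3
    apply Subtype.ext
    rw [Matrix.SpecialLinearGroup.coe_mul, Matrix.SpecialLinearGroup.coe_neg,
      Matrix.SpecialLinearGroup.coe_one, coe_threeJ]
    ext i j
    fin_cases i <;> fin_cases j <;> simp [Matrix.mul_apply, Fin.sum_univ_two] <;>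
      linear_combination h3
  ji := by
    apply Subtype.ext
    rw [Matrix.SpecialLinearGroup.coe_mul, Matrix.SpecialLinearGroup.coe_neg,
      Matrix.SpecialLinearGroup.coe_mul, coe_threeI, coe_threeJ]
    ext i j
    fin_cases i <;> fin_cases j <;> simp [Matrix.mul_apply, Fin.sum_univ_two]

theorem gauss_root {lam : F} [CharP F 3] (h : lam ^ 2 = -1) :
    letI := ZMod.algebra F 3
    lam * lam = (-1 : ZMod 3) • 1 + (0 : ZMod 3) • lam := by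
  let := ZMod.algebra F 3
  rw [zero_smul, add_zero, neg_one_smul, ← sq, h]

/-- The evaluation at a square root of `-1`. -/
noncomputable def gaussHom [CharP F 3] (lam : F) (h : lam ^ 2 = -1) : GaussThree →+* F :=
  letI := ZMod.algebra F 3
  (QuadraticAlgebra.lift ⟨lam, gauss_root h⟩).toRingHom

theorem gaussHom_gz [CharP F 3] (lam : F) (h : lam ^ 2 = -1) (m n : ZMod 3) :
    gaussHom lam h (gz m n) = (m.cast : F) + (n.cast : F) * lam := by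
  let := ZMod.algebra F 3
  show m • (1 : F) + n • lam = _
  simp only [Algebra.smul_def, mul_one]
  rfl

/-- The two transvections generate at most sixty elements modulo sign. -/
theorem card_le_sixty [Finite F] [CharP F 3] {lam : F} (h : lam ^ 2 = -1) :
    Nat.card (Subgroup.closure ({proj loOne, u lam} : Set PSL(2, F))) ≤ 60 := by
  classical
  have h3 : (3 : F) = 0 := by simpa using CharP.cast_eq_zero F 3
  set P := threePair (F := F) with hP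
  set e := gaussHom lam h with he
  have h2 := P.two_ne
  have hcast : ((1 : ZMod 3).cast : F) = 1 ∧ ((2 : ZMod 3).cast : F) = 2 ∧
      ((0 : ZMod 3).cast : F) = 0 := by
    refine ⟨ZMod.cast_one dvd_rfl, ?_, ZMod.cast_zero⟩
    exact map_ofNat (ZMod.castHom (dvd_refl 3) F) 2
  have hq : ∀ a b c d : F, P.qc a b c d = !![a + c + d, b + c - d; -b + c - d, a - c - d] := by
    intro a b c d
    rw [QuatPair.qc, QuatPair.k, Matrix.SpecialLinearGroup.coe_mul]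
    ext i j
    fin_cases i <;> fin_cases j <;>
      simp [P, threePair, coe_threeI, coe_threeJ] <;> ring
  have g1 : (⟨gz 2 0, gz 2 0, gz 2 0, gz 1 0⟩ : Quat GaussThree).toPSL P e = proj loOne := by
    refine Quat.toPSL_eq P e _ (nineList_norm _ (by decide +kernel)) _ ?_
    rw [coe_loOne, Quat.evalMat]
    simp only [he, gaussHom_gz, hcast.1, hcast.2.1, hcast.2.2, hq]
    ext i j
    fin_cases i <;> fin_cases j <;> simp <;> field_simp <;> grind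
  have g2 : (⟨gz 2 0, gz 0 1, gz 0 2, gz 0 1⟩ : Quat GaussThree).toPSL P e = proj (upSL lam) := by
    refine Quat.toPSL_eq P e _ (nineList_norm _ (by decide +kernel)) _ ?_
    rw [coe_upSL, Quat.evalMat]
    simp only [he, gaussHom_gz, hcast.1, hcast.2.1, hcast.2.2, hq]
    ext i j
    fin_cases i <;> fin_cases j <;> simp <;> field_simp <;> grind
  have hset : ({proj loOne, u lam} : Set PSL(2, F)) = {z | ∃ s ∈ nineGens, z = s.toPSL P e} := by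
    ext z
    simp [nineGens, g1, g2, u]
  rw [hset]
  set G := Subgroup.closure {z | ∃ s ∈ nineGens, z = s.toPSL P e}
  have hf : ∀ g : G, ∃ n : Fin nineList.length, (g : PSL(2, F)) = (nineList.get n).toPSL P e := by
    intro g
    obtain ⟨x, hx, hxg⟩ :=
      Quat.closure_le_list P e nineList nineGens nineList_norm nineList_closed nineList_one.1 g.2
    obtain ⟨n, rfl⟩ := List.get_of_mem hx
    exact ⟨n, hxg⟩
  choose f hf using hf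
  have := Nat.card_le_card_of_injective f fun a b hab => Subtype.ext (by rw [hf a, hf b, hab])
  rwa [Nat.card_fin, nineList_one.2] at this

end CfsgLib.DicksonPSL2
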