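import Cfsg.Agent.DicksonPSL2.PGLTools

/-!
# The shapes of a maximal subgroup of `PGL(2, q)`: tori, four-groups and subfields
-/

set_option autoImplicit false
set_option linter.unusedSectionVars false

namespace CfsgLib.DicksonPSL2

open Matrix CfsgLib.SL2Trace
open scoped MatrixGroups

variable {F : Type*} [Field F] [Fintype F]

/-- The possible parts in `PSL(2, q)` of the maximal subgroups of `PGL(2, q)`. -/
def PGLShape (p : ℕ) (M : Subgroup PGL(2, F)) : Prop :=
  (∃ a : PSL(2, F), M.comap toG = conjS a BP) ∨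
  (∃ x : PSL(2, F), IsTor x ∧ M = Subgroup.normalizer ((torus x).map toG : Set PGL(2, F)) ∧
    M.comap toG = Subgroup.normalizer (torus x : Set PSL(2, F)) ∧ Nat.card (torus x) ≠ 2) ∨
  (∃ P : QuatPair F, Fintype.card F = p ∧ (p % 8 = 3 ∨ p % 8 = 5) ∧ M.comap toG = P.tetra) ∨
  (∃ (K : Type) (_ : Field K) (_ : Fintype K) (ι : K →+* F) (w : Fˣ) (a : PSL(2, F)) (r : ℕ),
    r.Prime ∧ Odd r ∧ Fintype.card F = Fintype.card K ^ r ∧
      M.comap toG = conjS a (psiS ι w).range ∧ Nonempty (M ≃* PGL(2, K)))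

variable {M : Subgroup PGL(2, F)}

theorem comap_map_stable {g : PGL(2, F)} (hg : g ∈ M) {σ : MulAut PSL(2, F)}
    (hσ : ∀ x, toG (σ x) = g * toG x * g⁻¹) : (M.comap toG).map σ.toMonoidHom = M.comap toG := by
  refine Subgroup.eq_of_le_of_card_ge ?_ (le_of_eq ?_)
  · rintro _ ⟨x, hx, rfl⟩
    exact map_comap_stable hg hσ hx
  · exact Nat.card_congr ((M.comap toG).equivMapOfInjective σ.toMonoidHom σ.injective).toEquiv

theorem comap_conjS (a : PSL(2, F)) :
    (conjS (toG a) M).comap toG = conjS a (M.comap toG) := by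
  ext x
  simp [mem_conjS]

theorem isCoatom_conjS {X : Type*} [Group X] (g : X) {N : Subgroup X} (h : IsCoatom N) :
    IsCoatom (conjS g N) :=
  ((MulAut.conj g).mapSubgroup).isCoatom_iff N |>.2 h

theorem not_range_le_conjS (hodd : Odd (Fintype.card F)) (hML : ¬ (toG (F := F)).range ≤ M)
    (g : PGL(2, F)) : ¬ (toG (F := F)).range ≤ conjS g M := by
  have hn := normal_range_toG hodd
  intro h
  apply hML
  intro z hz
  have h1 := mem_conjS.1 (h (hn.conj_mem z hz g))
  simpa [mul_assoc] using h1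

theorem eq_four_of_forall_sq {H : Subgroup PSL(2, F)} (hc : Nat.card H = 4)
    (hsq : ∀ x ∈ H, x * x = 1) (h2 : (2 : F) ≠ 0) : ∃ P : QuatPair F, P.four = H :=
  exists_pair_of_four h2 hc hsq

variable (p : ℕ) [Fact p.Prime] [CharP F p]

/-- A stable torus. -/
theorem torus_shape (hodd : Odd (Fintype.card F)) (h4 : 4 ≤ Fintype.card F) (hM : IsCoatom M)
    {x : PSL(2, F)} (hx : IsTor x)
    (hst : ∀ g ∈ M, ∀ σ : MulAut PSL(2, F), (∀ y, toG (σ y) = g * toG y * g⁻¹) →
      (torus x).map σ.toMonoidHom = torus x) : PGLShape p M := by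
  have hbot : torus x ≠ ⊥ := fun e =>
    ne_one_of_isTor hx (Subgroup.mem_bot.1 (e ▸ self_mem_torus x))
  have htop : torus x ≠ ⊤ := fun e => normalizer_torus_ne_top h4 hx
    (eq_top_iff.2 (e ▸ Subgroup.le_normalizer))
  obtain ⟨h1, h2⟩ := eq_normalizer_of_stable hodd h4 hM hbot htop hst
  refine Or.inr (Or.inl ⟨x, hx, h1, h2, fun hk => ?_⟩)
  obtain ⟨hc, ⟨e⟩⟩ := card_normalizer_torus hx
  rw [hk] at hc e
  rw [← h2] at hc e
  have hsq : ∀ y ∈ M.comap toG, y * y = 1 := by
    intro y hy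
    have hd : ∀ g : DihedralGroup 2, g * g = 1 := by decide
    have := hd (e ⟨y, hy⟩)
    rw [← map_mul, MulEquiv.map_eq_one_iff] at this
    exact congrArg Subtype.val this
  obtain ⟨P, hP⟩ := eq_four_of_forall_sq hc hsq (Linear.two_ne_zero_of_odd hodd)
  obtain ⟨-, h3⟩ := eq_normalizer_of_stable hodd h4 hM (W := P.four)
    (fun e' => by have := P.card_four; rw [e', Subgroup.card_bot] at this; omega)
    (fun e' => by
      have h6 := P.card_four
      have h5 := (sixty_le_card_PSL hodd (by rw [Nat.odd_iff] at hodd; omega)).1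
      rw [e', Subgroup.card_top] at h6
      omega)
    (fun g hg σ hσ => by rw [hP]; exact comap_map_stable hg hσ)
  have := Subgroup.card_le_of_le (P.tetra_le_normalizer)
  rw [← h3, P.card_tetra, hc] at this
  omega

/-- `PSL(2, q₀)` inside `M`. -/
theorem subfield_shape (hodd : Odd (Fintype.card F)) (h4 : 4 ≤ Fintype.card F) (hM : IsCoatom M)
    (hML : ¬ (toG (F := F)).range ≤ M) {K : Type} [Field K] [Fintype K] (ι : K →+* F) (w : Fˣ)
    (a : PSL(2, F)) (h : conjS a (M.comap toG) = (psiS ι w).range) : PGLShape p M := by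
  obtain ⟨M', hM'def⟩ : ∃ M', M' = conjS (toG a) M := ⟨_, rfl⟩
  have hH' : M'.comap toG = (psiS ι w).range := by rw [hM'def, comap_conjS, h]
  have hM' : IsCoatom M' := hM'def ▸ isCoatom_conjS _ hM
  have hML' : ¬ (toG (F := F)).range ≤ M' := hM'def ▸ not_range_le_conjS hodd hML _
  have hKp : CharP K p := RingHom.charP ι ι.injective p
  have hp2 : p ≠ 2 := by
    rintro rfl
    obtain ⟨n, -, hn⟩ := FiniteField.card F 2
    rw [hn] at hodd
    exact Nat.not_even_iff_odd.2 hodd ((even_two).pow_of_ne_zero n.ne_zero)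
  have hKodd : Odd (Fintype.card K) := Nat.odd_iff.2
    (FiniteField.odd_card_of_char_ne_two (by rw [ringChar.eq K p]; exact hp2))
  have hQ2 : 2 ≤ Fintype.card K := Fintype.one_lt_card
  have := finite_PGL (F := F)
  have hbot : (psiS ι w).range ≠ ⊥ := by
    intro e
    have h1 := card_range_psiS ι w
    rw [e, Subgroup.card_bot, mul_one] at h1
    have h3 : 2 * 1 * 3 ≤ Fintype.card K * (Fintype.card K - 1) * (Fintype.card K + 1) :=
      Nat.mul_le_mul (Nat.mul_le_mul hQ2 (by omega)) (by omega)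
    have := Nat.le_of_dvd two_pos (Nat.gcd_dvd_left 2 (Fintype.card K - 1))
    omega
  have htop : (psiS ι w).range ≠ ⊤ := fun e => hML' (by
    rintro _ ⟨x, rfl⟩
    have : x ∈ M'.comap toG := by rw [hH', e]; exact Subgroup.mem_top x
    exact this)
  obtain ⟨hN, -⟩ := eq_normalizer_of_stable hodd h4 hM' hbot htop
    (fun g hg σ hσ => hH' ▸ comap_map_stable hg hσ)
  -- `PGL(2, K)` normalises `PSL(2, K)`
  have hle : (psiP ι w).range ≤ M' := by
    rw [hN]
    have hn := normal_range_toG (F := K) hKodd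
    have e : ((toG (F := K)).range.map (psiP ι w)) = (psiS ι w).range.map toG := by
      rw [MonoidHom.range_eq_map, Subgroup.map_map, MonoidHom.range_eq_map, Subgroup.map_map]
      exact congrArg (fun h => Subgroup.map h ⊤) (toPGL_comp_psiS ι w).symm
    rw [← e]
    intro z hz
    obtain ⟨y, rfl⟩ := hz
    refine Subgroup.le_normalizer_map _ ⟨y, ?_, rfl⟩
    show y ∈ Subgroup.normalizer ((toG (F := K)).range : Set PGL(2, K))
    rw [Subgroup.normalizer_eq_top_iff.2 hn]
    exact Subgroup.mem_top y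
  have hPc := card_range_psiP ι w
  have hMc : Nat.card M' = Nat.card (psiP ι w).range := by
    rw [two_mul_card_comap hodd hM' hML', hH', hPc, ← card_range_psiS ι w]
    rcases gcd_two_cases K with ⟨-, hg, -⟩ | ⟨hev, -⟩
    · rw [hg]
    · exact absurd hev (Nat.not_even_iff_odd.2 hKodd)
  have heq : (psiP ι w).range = M' := Subgroup.eq_of_le_of_card_ge hle hMc.le
  letI : Algebra K F := ι.toAlgebra
  set m := Module.finrank K F
  have hm : Fintype.card K ^ m = Fintype.card F :=
    (Module.card_eq_pow_finrank (K := K) (V := F)).symm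
  have hm1 : 1 ≤ m := Module.finrank_pos
  have hne1 : m ≠ 1 := by
    intro h1
    rw [h1, pow_one] at hm
    apply hM'.1
    refine Subgroup.eq_top_of_card_eq _ ?_
    rw [← heq, hPc, hm, card_PGL_two]
  have hmodd : Odd m := by
    by_contra hev
    rw [Nat.not_odd_iff_even] at hev
    have hle' : M' ≤ (toG (F := F)).range := heq ▸ psiP_range_le_range_toPGL ι w hm hev
    rcases hM'.le_iff.1 hle' with e | e
    · have := index_range_toG_odd hodd
      rw [e, Subgroup.index_top] at this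
      omega
    · exact hML' e.le
  have hprime : m.Prime := by
    by_contra hnp
    obtain ⟨l, ⟨r, hr⟩, hl2, hlm⟩ := Nat.exists_dvd_of_not_prime2 (by omega) hnp
    have hr2 : 2 ≤ r := by
      rcases show r = 0 ∨ r = 1 ∨ 2 ≤ r by omega with rfl | rfl | h'
      · omega
      · omega
      · exact h'
    obtain ⟨E, iE, iE', ι₁, ι₂, hE, hι⟩ :=
      exists_intermediate ι (l := l) (r := r) (by rw [← hm, hr]) (by omega) (by omega)
    have hle2 : M' ≤ (psiP ι₂ w).range := by rw [← heq, hι]; exact psiP_range_le ι₁ ι₂ w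
    have h2 := card_range_psiP ι₂ w
    have hlt : ∀ {A B : ℕ}, 2 ≤ A → A < B → A * (A - 1) * (A + 1) < B * (B - 1) * (B + 1) :=
      fun hA hAB => Nat.mul_lt_mul_of_lt_of_le
        (Nat.mul_lt_mul_of_lt_of_le hAB (by omega) (by omega)) (by omega) (by omega)
    rcases hM'.le_iff.1 hle2 with e | e
    · rw [e, Subgroup.card_top, card_PGL_two, hE] at h2
      have := hlt (Nat.le_trans hQ2 (Nat.le_self_pow (by omega) _))
        (show Fintype.card K ^ l < Fintype.card F by
          rw [← hm]; exact Nat.pow_lt_pow_right (by omega) (by omega))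
      omega
    · rw [e, hMc, hPc, hE] at h2
      have := hlt hQ2 (show Fintype.card K < Fintype.card K ^ l by
        calc Fintype.card K = Fintype.card K ^ 1 := (pow_one _).symm
          _ < _ := Nat.pow_lt_pow_right (by omega) (by omega))
      omega
  refine Or.inr (Or.inr (Or.inr ⟨K, inferInstance, inferInstance, ι, w, a⁻¹, m, hprime, hmodd,
    hm.symm, ?_, ?_⟩))
  · rw [← h, conjS_inv_conjS]
  · obtain ⟨e⟩ := nonempty_equiv_conjS (toG a) M
    exact ⟨e.trans ((MulEquiv.subgroupCongr (hM'def.symm.trans heq.symm)).trans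
      (MonoidHom.ofInjective (psiP_injective ι w)).symm)⟩

/-- For `q ≡ ±3 (mod 8)` an element outside `PSL` normalises every four-group. -/
theorem exists_outside_normalizer (hodd : Odd (Fintype.card F))
    (h8 : Fintype.card F % 8 = 3 ∨ Fintype.card F % 8 = 5) (P : QuatPair F) :
    ∃ g : PGL(2, F), g ∉ (toG (F := F)).range ∧
      g ∈ Subgroup.normalizer (P.four.map toG : Set PGL(2, F)) := by
  obtain ⟨g, hg⟩ : ∃ g : PGL(2, F), g ∉ (toG (F := F)).range := by
    by_contra hcon
    push Not at hcon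
    have := index_range_toG_odd hodd
    rw [(eq_top_iff.2 fun g _ => hcon g : (toG (F := F)).range = ⊤), Subgroup.index_top] at this
    omega
  obtain ⟨σ, hσ⟩ := exists_aut hodd g
  obtain ⟨P', hP'⟩ := eq_four_of_forall_sq (H := P.four.map σ.toMonoidHom)
    (by rw [← Nat.card_congr (P.four.equivMapOfInjective σ.toMonoidHom σ.injective).toEquiv, P.card_four])
    (by
      rintro _ ⟨z, hz, rfl⟩
      rw [← map_mul]
      rcases P.mem_four.1 hz with rfl | rfl | rfl | rfl
      · rw [one_mul, map_one]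
      · rw [QuatPair.proj_sq _ P.ii, map_one]
      · rw [QuatPair.proj_sq _ P.jj, map_one]
      · rw [QuatPair.proj_sq _ P.kk, map_one]) (Linear.two_ne_zero_of_odd hodd)
  obtain ⟨a, ha⟩ := (CfsgLib.Forms.KleinPSL.classes hodd).1 h8 P.four P'.four (isKleinFour_four P)
    (isKleinFour_four P')
  refine ⟨(toG a)⁻¹ * g, fun h => hg ?_, ?_⟩
  · have h' := mul_mem (show toG a ∈ (toG (F := F)).range from ⟨a, rfl⟩) h
    rwa [mul_inv_cancel_left] at h'
  · refine mem_normalizer_of_aut P.four (σ := σ.trans (MulAut.conj a⁻¹)) (fun x => ?_) ?_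
    · show toG (a⁻¹ * σ x * a⁻¹⁻¹) = _
      simp [map_mul, map_inv, hσ, mul_assoc]
    · have e : P.four.map (σ.trans (MulAut.conj a⁻¹)).toMonoidHom =
          conjS a⁻¹ (P.four.map σ.toMonoidHom) := by
        rw [conjS, Subgroup.map_map]
        rfl
      rw [e, ← hP', ha]
      exact conjS_inv_conjS a P.four

/-- A stable four-group. -/
theorem four_shape (hodd : Odd (Fintype.card F)) (h5 : 5 ≤ Fintype.card F) (hM : IsCoatom M)
    (hML : ¬ (toG (F := F)).range ≤ M) (P : QuatPair F)
    (hst : ∀ g ∈ M, ∀ σ : MulAut PSL(2, F), (∀ y, toG (σ y) = g * toG y * g⁻¹) →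
      P.four.map σ.toMonoidHom = P.four) : PGLShape p M := by
  obtain ⟨hMeq, hH⟩ := eq_normalizer_of_stable hodd (by omega) hM (W := P.four)
    (fun e => by have := P.card_four; rw [e, Subgroup.card_bot] at this; omega)
    (fun e => by
      have h6 := P.card_four
      have := (sixty_le_card_PSL hodd h5).1
      rw [e, Subgroup.card_top] at h6
      omega) hst
  have hN := CfsgLib.Forms.KleinPSL.card_normalizer hodd P.four (isKleinFour_four P)
  rw [← hH] at hN
  have h2M := two_mul_card_comap hodd hM hML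
  have hp2 : p ≠ 2 := by
    rintro rfl
    obtain ⟨n, -, hn⟩ := FiniteField.card F 2
    rw [hn] at hodd
    exact Nat.not_even_iff_odd.2 hodd ((even_two).pow_of_ne_zero n.ne_zero)
  by_cases h8 : Fintype.card F % 8 = 1 ∨ Fintype.card F % 8 = 7
  · exfalso
    rw [if_pos h8] at hN
    obtain ⟨e⟩ := P.nonempty_tetra_equiv
    rcases card_cases_of_alt_four p hodd (M := M) (P.tetra.subtype.comp e.symm.toMonoidHom)
      (Subtype.val_injective.comp e.symm.injective) (by
        rintro _ ⟨z, rfl⟩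
        rw [hH]
        exact P.tetra_le_normalizer (e.symm z).2) with h | ⟨h, -⟩ | ⟨h, -⟩ | ⟨a, ha, h⟩
    · omega
    · omega
    · omega
    · have hodd' : Odd (p ^ a) := ((Fact.out : p.Prime).odd_of_ne_two hp2).pow
      rw [Nat.odd_iff] at hodd'
      rcases show p ^ a < 5 ∨ 5 ≤ p ^ a by omega with hQ | hQ
      · interval_cases hv : p ^ a <;> omega
      · have : 5 * 4 * 6 ≤ p ^ a * (p ^ a - 1) * (p ^ a + 1) :=
          Nat.mul_le_mul (Nat.mul_le_mul hQ (by omega)) (by omega)
        omega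
  rw [if_neg h8] at hN
  have hT : M.comap toG = P.tetra := (Subgroup.eq_of_le_of_card_ge
    (by rw [hH]; exact P.tetra_le_normalizer) (by rw [P.card_tetra]; exact hN.le)).symm
  obtain ⟨n, hp, hn⟩ := FiniteField.card F p
  have hq2 := Nat.odd_iff.1 hodd
  have h8' : Fintype.card F % 8 = 3 ∨ Fintype.card F % 8 = 5 := by omega
  by_cases hn1 : (n : ℕ) = 1
  · rw [hn1, pow_one] at hn
    exact Or.inr (Or.inr (Or.inl ⟨P, hn, hn ▸ h8', hT⟩))
  -- inside the prime subfield
  have hpodd : Odd (Fintype.card (ZMod p)) := by rw [ZMod.card]; exact hp.odd_of_ne_two hp2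
  have hp8 : Fintype.card (ZMod p) % 8 = 3 ∨ Fintype.card (ZMod p) % 8 = 5 := by
    rw [ZMod.card]
    obtain ⟨k, hk⟩ : Odd (n : ℕ) := by
      by_contra hev
      obtain ⟨k, hk⟩ := Nat.not_odd_iff_even.1 hev
      rw [hn, hk, ← two_mul, pow_mul, Nat.pow_mod, Nat.pow_mod p 2] at h8'
      rw [ZMod.card, Nat.odd_iff] at hpodd
      rcases show p % 8 = 1 ∨ p % 8 = 3 ∨ p % 8 = 5 ∨ p % 8 = 7 by omega with e | e | e | e <;>
        simp [e] at h8'
    rw [hn, hk, pow_succ, pow_mul, Nat.mul_mod, Nat.pow_mod, Nat.pow_mod p 2] at h8'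
    rw [ZMod.card, Nat.odd_iff] at hpodd
    rcases show p % 8 = 1 ∨ p % 8 = 3 ∨ p % 8 = 5 ∨ p % 8 = 7 by omega with e | e | e | e <;>
      simp [e] at h8' ⊢
  obtain ⟨Q⟩ := exists_quatPair hpodd
  set ι := ZMod.castHom (dvd_refl p) F
  obtain ⟨P', hP'⟩ := eq_four_of_forall_sq (H := Q.four.map (psiS ι 1))
    (by rw [← Nat.card_congr (Q.four.equivMapOfInjective _ (psiS_injective ι 1)).toEquiv, Q.card_four])
    (by
      rintro _ ⟨z, hz, rfl⟩
      rw [← map_mul]
      rcases Q.mem_four.1 hz with rfl | rfl | rfl | rfl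
      · rw [one_mul, map_one]
      · rw [QuatPair.proj_sq _ Q.ii, map_one]
      · rw [QuatPair.proj_sq _ Q.jj, map_one]
      · rw [QuatPair.proj_sq _ Q.kk, map_one]) (Linear.two_ne_zero_of_odd hodd)
  obtain ⟨a, ha⟩ := (CfsgLib.Forms.KleinPSL.classes hodd).1 h8' P.four P'.four (isKleinFour_four P)
    (isKleinFour_four P')
  obtain ⟨M', hM'def⟩ : ∃ M', M' = conjS (toG a) M := ⟨_, rfl⟩
  have hM' : IsCoatom M' := hM'def ▸ isCoatom_conjS _ hM
  have := finite_PGL (F := F)
  have hM'eq : M' = Subgroup.normalizer (P'.four.map toG : Set PGL(2, F)) := by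
    rw [hM'def, hMeq, ← normalizer_conjS, ha]
    congr 2
    rw [conjS, Subgroup.map_map, Subgroup.map_map]
    congr 1
    exact MonoidHom.ext fun z => by simp
  have hH' : M'.comap toG = conjS a (M.comap toG) := by rw [hM'def, comap_conjS]
  have hH'eq : M'.comap toG = Subgroup.normalizer (P'.four : Set PSL(2, F)) := by
    ext x
    rw [Subgroup.mem_comap, hM'eq, mem_normalizer_map_toG]
  have hTle : Q.tetra.map (psiS ι 1) ≤ M'.comap toG := by
    rw [hH'eq, hP']
    exact (Subgroup.map_mono Q.tetra_le_normalizer).trans (Subgroup.le_normalizer_map _)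
  have hTc : Nat.card (Q.tetra.map (psiS ι 1)) = 12 := by
    rw [← Nat.card_congr (Q.tetra.equivMapOfInjective _ (psiS_injective ι 1)).toEquiv, Q.card_tetra]
  have hTeq : Q.tetra.map (psiS ι 1) = M'.comap toG :=
    Subgroup.eq_of_le_of_card_ge hTle (by rw [hTc, hH', card_conjS, hN])
  obtain ⟨g₀, hg₀, hg₀N⟩ := exists_outside_normalizer hpodd hp8 Q
  have hcomm : (Q.four.map toG).map (psiP ι 1) = P'.four.map toG := by
    rw [hP', Subgroup.map_map, Subgroup.map_map]
    exact congrArg (fun h => Subgroup.map h Q.four) (toPGL_comp_psiS ι 1).symm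
  have hg₀M : psiP ι 1 g₀ ∈ M' := by
    rw [hM'eq, ← hcomm]
    exact Subgroup.le_normalizer_map _ ⟨g₀, hg₀N, rfl⟩
  have hM'24 : Nat.card M' = 24 := by rw [hM'def, card_conjS, h2M, hN]
  set X := M' ⊓ (psiP ι 1).range with hX
  have hTX : (Q.tetra.map (psiS ι 1)).map toG ≤ X := by
    refine le_inf ?_ ?_
    · rw [hTeq]; exact Subgroup.map_comap_le _ _
    · rintro _ ⟨_, ⟨z, -, rfl⟩, rfl⟩
      exact ⟨toG z, (DFunLike.congr_fun (toPGL_comp_psiS ι 1) z).symm⟩
  have hTXc : Nat.card ((Q.tetra.map (psiS ι 1)).map toG) = 12 := by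
    rw [← Nat.card_congr (Subgroup.equivMapOfInjective _ _ toG_injective).toEquiv, hTc]
  have hlt : 12 < Nat.card X := by
    by_contra hle
    push Not at hle
    have e := Subgroup.eq_of_le_of_card_ge hTX (hTXc.symm ▸ hle)
    have hmem : psiP ι 1 g₀ ∈ X := ⟨hg₀M, g₀, rfl⟩
    rw [← e] at hmem
    obtain ⟨_, ⟨z, -, rfl⟩, hz⟩ := hmem
    refine hg₀ ⟨z, psiP_injective ι 1 ?_⟩
    rw [← hz]
    exact (DFunLike.congr_fun (toPGL_comp_psiS ι 1) z).symm
  have h12 : 12 ∣ Nat.card X := hTXc ▸ Subgroup.card_dvd_of_le hTX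
  have hXM : X = M' := by
    refine Subgroup.eq_of_le_of_card_ge inf_le_left ?_
    rw [hM'24]
    omega
  have hrange : Nat.card (psiP ι 1).range = p * (p - 1) * (p + 1) := by
    rw [card_range_psiP, ZMod.card]
  rcases hM'.le_iff.1 (hXM.symm.trans_le inf_le_right) with e | e
  · exfalso
    rw [e, Subgroup.card_top, card_PGL_two] at hrange
    have hlt' : p < Fintype.card F := by
      rw [hn]
      calc p = p ^ 1 := (pow_one p).symm
        _ < _ := Nat.pow_lt_pow_right hp.one_lt (by have := n.pos; omega)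
    have := Nat.mul_lt_mul_of_lt_of_le
      (Nat.mul_lt_mul_of_lt_of_le hlt' (show p - 1 ≤ Fintype.card F - 1 by omega)
        (by have := hp.two_le; omega)) (show p + 1 ≤ Fintype.card F + 1 by omega) (by omega)
    omega
  · rw [e, hM'24] at hrange
    have hp3 : p = 3 := by
      have := hp.two_le
      by_contra hne
      rcases show p = 4 ∨ 5 ≤ p by omega with h' | h'
      · rw [h'] at hp; norm_num at hp
      · have : 5 * 4 * 6 ≤ p * (p - 1) * (p + 1) :=
          Nat.mul_le_mul (Nat.mul_le_mul h' (by omega)) (by omega)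
        omega
    refine subfield_shape p hodd (by omega) hM hML ι 1 a ?_
    rw [← hH', ← hTeq]
    refine Subgroup.eq_of_le_of_card_ge (Subgroup.map_le_range _ _) ?_
    rw [hTc]
    have h1 := card_range_psiS ι (1 : Fˣ)
    rw [ZMod.card, show Nat.gcd 2 (p - 1) = 2 by rw [hp3]; rfl] at h1
    subst hp3
    omega

end CfsgLib.DicksonPSL2
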