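import Cfsg.Agent.DicksonPSL2.PGLStructure
import Cfsg.Agent.DicksonPSL2.ExceptionalMax
import Cfsg.Agent.DicksonPSL2.Maximal

/-!
# General facts on a maximal subgroup of `PGL(2, q)` not containing `PSL(2, q)`
-/

set_option autoImplicit false
set_option linter.unusedSectionVars false

namespace CfsgLib.DicksonPSL2

open Matrix CfsgLib.SL2Trace
open scoped MatrixGroups

variable {F : Type*} [Field F] [Fintype F] {M : Subgroup PGL(2, F)}

theorem map_comap_toG (M : Subgroup PGL(2, F)) :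
    (M.comap toG).map toG = (toG (F := F)).range ⊓ M :=
  Subgroup.map_comap_eq _ _

theorem two_mul_card_comap (hodd : Odd (Fintype.card F)) (hM : IsCoatom M)
    (hML : ¬ (toG (F := F)).range ≤ M) : Nat.card M = 2 * Nat.card (M.comap toG) := by
  have := finite_PGL (F := F)
  have hn := normal_range_toG hodd
  set L := (toG (F := F)).range with hL
  have hidx : (L.subgroupOf M).index = 2 := by
    have h2 : L.relIndex M ∣ 2 :=
      (L.relIndex_dvd_index_of_normal M).trans (dvd_of_eq (index_range_toG_odd hodd))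
    refine ((Nat.dvd_prime Nat.prime_two).1 h2).resolve_left fun h => hML ?_
    rcases hM.le_iff.1 (Subgroup.relIndex_eq_one.1 h) with e | e
    · have := index_range_toG_odd hodd
      rw [← hL, e, Subgroup.index_top] at this
      omega
    · exact e.le
  have hc : Nat.card (L.subgroupOf M) = Nat.card (M.comap toG) := by
    rw [← Subgroup.inf_subgroupOf_right,
      Nat.card_congr (Subgroup.subgroupOfEquivOfLe (inf_le_right : L ⊓ M ≤ M)).toEquiv,
      Nat.card_congr ((M.comap toG).equivMapOfInjective toG toG_injective).toEquiv, map_comap_toG]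
  have h := (L.subgroupOf M).card_mul_index
  rw [hidx, hc, mul_comm] at h
  exact h.symm

theorem map_comap_stable {g : PGL(2, F)} (hg : g ∈ M) {σ : MulAut PSL(2, F)}
    (hσ : ∀ x, toG (σ x) = g * toG x * g⁻¹) {x : PSL(2, F)} (hx : x ∈ M.comap toG) :
    σ x ∈ M.comap toG := by
  rw [Subgroup.mem_comap, hσ]
  exact mul_mem (mul_mem hg hx) (inv_mem hg)

/-- A proper non-trivial subgroup fixed by the automorphisms from `M` determines `M`. -/
theorem eq_normalizer_of_stable (hodd : Odd (Fintype.card F)) (h4 : 4 ≤ Fintype.card F)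
    (hM : IsCoatom M) {W : Subgroup PSL(2, F)} (hW : W ≠ ⊥) (hW' : W ≠ ⊤)
    (hst : ∀ g ∈ M, ∀ σ : MulAut PSL(2, F), (∀ x, toG (σ x) = g * toG x * g⁻¹) →
      W.map σ.toMonoidHom = W) :
    M = Subgroup.normalizer (W.map toG : Set PGL(2, F)) ∧
      M.comap toG = Subgroup.normalizer (W : Set PSL(2, F)) := by
  have hle : M ≤ Subgroup.normalizer (W.map toG : Set PGL(2, F)) := fun g hg => by
    obtain ⟨σ, hσ⟩ := exists_aut hodd g
    exact mem_normalizer_of_aut W hσ (hst g hg σ hσ)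
  have heq : M = Subgroup.normalizer (W.map toG : Set PGL(2, F)) := by
    rcases hM.le_iff.1 hle with e | e
    · exfalso
      have hn : W.Normal := by
        rw [← Subgroup.normalizer_eq_top_iff, eq_top_iff]
        intro x _
        rw [← mem_normalizer_map_toG, e]
        exact Subgroup.mem_top _
      have : IsSimpleGroup PSL(2, F) := Linear.isSimpleGroup_PSL_of 2 le_rfl fun _ => h4
      rcases hn.eq_bot_or_eq_top with e' | e'
      exacts [hW e', hW' e']
    · exact e.symm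
  refine ⟨heq, Subgroup.ext fun x => ?_⟩
  rw [Subgroup.mem_comap, heq, mem_normalizer_map_toG]

variable (p : ℕ) [Fact p.Prime] [CharP F p]

include p in
/-- A torus is fixed once one of its elements stays inside it. -/
theorem torus_stable {x t : PSL(2, F)} (hx : IsTor x) (ht : t ∈ torus x) (ht1 : t ≠ 1)
    (σ : MulAut PSL(2, F)) (h : σ t ∈ torus x) : (torus x).map σ.toMonoidHom = torus x := by
  obtain ⟨h1, h2⟩ := isTor_of_mem_torus hx ht ht1
  rw [← h2, torus_map p σ h1,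
    (isTor_of_mem_torus hx h fun e => ht1 (σ.injective (e.trans (map_one σ).symm))).2, h2]

theorem pow_of_two_mul {p Q : ℕ} (hp : p.Prime) (hp2 : p ≠ 2) {m n : ℕ} (hQ : 2 ≤ Q) (hm : 1 ≤ m)
    (h : Q ^ m = p ^ n) : ∃ a, 1 ≤ a ∧ Q = p ^ a ∧ Q % 2 = 1 := by
  obtain ⟨a, ha, rfl, -⟩ := eq_pow_of_card hp hQ hm h
  exact ⟨a, ha, rfl, Nat.odd_iff.1 (hp.odd_of_ne_two hp2).pow⟩

include p in
/-- The order of a maximal subgroup whose part in `PSL` contains a copy of `A₄`. -/
theorem card_cases_of_alt_four (hodd : Odd (Fintype.card F))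
    (f : alternatingGroup (Fin 4) →* PSL(2, F)) (hf : Function.Injective f)
    (hle : f.range ≤ M.comap toG) :
    Nat.card M = 12 ∨ (Nat.card M = 24 ∧ p ≠ 3 ∧ Nonempty (M ≃* Equiv.Perm (Fin 4))) ∨
      (Nat.card M = 60 ∧ p ≠ 5) ∨
      ∃ a : ℕ, 1 ≤ a ∧ (2 * Nat.card M = p ^ a * (p ^ a - 1) * (p ^ a + 1) ∨
        Nat.card M = p ^ a * (p ^ a - 1) * (p ^ a + 1)) := by
  obtain ⟨E, iE, iE', iEp, φ, Φ, hΦ, hφ, hcomm, hEodd, -⟩ := exists_embedding p hodd
  have hp2 : p ≠ 2 := by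
    rintro rfl
    obtain ⟨n, -, hn⟩ := FiniteField.card F 2
    rw [hn] at hodd
    exact Nat.not_even_iff_odd.2 hodd ((even_two).pow_of_ne_zero n.ne_zero)
  set Y := M.map Φ with hY
  obtain ⟨e⟩ : Nonempty (M ≃* Y) := ⟨M.equivMapOfInjective Φ hΦ⟩
  rw [Nat.card_congr e.toEquiv]
  obtain ⟨V, hVn, hVc, hVe⟩ := exists_four_alt
  obtain ⟨P, hfour, hnorm⟩ := exists_pair_of_model (Linear.two_ne_zero_of_odd hEodd)
    (φ.comp f) (hφ.comp hf) V hVc hVe
  have hT : (φ.comp f).range = P.tetra := P.tetra_eq_of_card (by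
    rw [← Nat.card_congr (MonoidHom.ofInjective (f := φ.comp f) (hφ.comp hf)).toEquiv,
      nat_card_alternatingGroup, Nat.card_fin]
    norm_num [Nat.factorial]) hfour hnorm
  have hPY : P.tetra ≤ Y := by
    rw [← hT]
    rintro _ ⟨z, rfl⟩
    exact ⟨toG (f z), hle ⟨z, rfl⟩, hcomm (f z)⟩
  rcases subgroup_cases_sharp p Y with h | h | ⟨h, -, -⟩ | ⟨h, ⟨-, h3⟩, ⟨g⟩⟩ | ⟨h, ⟨-, h5⟩, -⟩ | h
  · exact absurd h (P.tetra_not_inBorel hPY)
  · exact absurd h (P.tetra_not_inTorusNormalizer hPY)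
  · exact Or.inl h
  · exact Or.inr (Or.inl ⟨h, h3, ⟨e.trans g⟩⟩)
  · exact Or.inr (Or.inr (Or.inl ⟨h, h5⟩))
  · obtain ⟨Q, m, hQ, hm, hm1, hc⟩ := h.card_cases
    obtain ⟨n, -, hn⟩ := FiniteField.card E p
    rw [hn] at hm
    obtain ⟨a, ha, rfl, hodd'⟩ := pow_of_two_mul Fact.out hp2 hQ hm1 hm
    refine Or.inr (Or.inr (Or.inr ⟨a, ha, ?_⟩))
    rcases hc with hc | ⟨-, -, hc⟩
    · left
      rw [← hc, show Nat.gcd 2 (p ^ a - 1) = 2 from Nat.gcd_eq_left (by omega)]
    · exact Or.inr hc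

end CfsgLib.DicksonPSL2
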