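import Cfsg.Agent.DicksonPSL2.PGLMaximal

/-!
# Isomorphism types of the maximal subgroups of `PGL(2, q)`
-/

set_option autoImplicit false
set_option linter.unusedSectionVars false

namespace CfsgLib.DicksonPSL2

open Matrix CfsgLib.SL2Trace
open scoped MatrixGroups

variable {F : Type*} [Field F] [Fintype F] {M : Subgroup PGL(2, F)}
variable (p : ℕ) [Fact p.Prime] [CharP F p]

include p in
/-- The normaliser of a torus in `PGL(2, q)` is dihedral of twice the order. -/
theorem dihedral_of_torus (hodd : Odd (Fintype.card F)) (hM : IsCoatom M)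
    (hML : ¬ (toG (F := F)).range ≤ M) {x : PSL(2, F)} (hx : IsTor x)
    (hMeq : M = Subgroup.normalizer ((torus x).map toG : Set PGL(2, F)))
    (hH : M.comap toG = Subgroup.normalizer (torus x : Set PSL(2, F)))
    (hk : Nat.card (torus x) ≠ 2) (hk1 : 2 ≤ Nat.card (torus x)) :
    Nonempty (M ≃* DihedralGroup (2 * Nat.card (torus x))) := by
  obtain ⟨E, iE, iE', iEp, φ, Φ, hΦ, hφ, hcomm, -, -⟩ := exists_embedding p hodd
  obtain ⟨hN, ⟨eN⟩⟩ := card_normalizer_torus hx
  have h2M := two_mul_card_comap hodd hM hML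
  rw [hH, hN] at h2M
  have htor : IsTor (φ x) := (isTor_map_iff p φ hφ x).2 hx
  obtain ⟨⟨t, ht⟩, hgen⟩ := (isCyclic_torus hx).exists_generator
  have hmemT : ∀ z ∈ torus x, φ z ∈ torus (φ x) := by
    have ht1 : t ≠ 1 := by
      rintro rfl
      obtain ⟨k, hk⟩ := hgen ⟨x, self_mem_torus x⟩
      exact ne_one_of_isTor hx (by simpa using (congrArg Subtype.val hk).symm)
    have htt : IsTor (φ t) := (isTor_map_iff p φ hφ t).2 (isTor_of_mem_torus hx ht ht1).1
    have hall : ∀ z ∈ torus x, φ z ∈ torus (φ t) := by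
      intro z hz
      obtain ⟨k, hk⟩ := hgen ⟨z, hz⟩
      have e : t ^ k = z := congrArg Subtype.val hk
      rw [← e, map_zpow]
      exact zpow_mem (self_mem_torus _) k
    have heq := (isTor_of_mem_torus htt (hall x (self_mem_torus x))
      (fun e => ne_one_of_isTor hx (hφ (e.trans (map_one φ).symm)))).2
    intro z hz
    rw [heq]
    exact hall z hz
  have hle : M.map Φ ≤ Subgroup.normalizer (torus (φ x) : Set PSL(2, E)) := by
    rintro _ ⟨g, hg, rfl⟩
    rw [mem_normalizer_torus_iff htor]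
    have hgN : g ∈ Subgroup.normalizer ((torus x).map toG : Set PGL(2, F)) := hMeq ▸ hg
    obtain ⟨z, hz, he⟩ := (Subgroup.mem_normalizer_iff.1 hgN (toG x)).1 ⟨x, self_mem_torus x, rfl⟩
    rw [← hcomm x, ← map_inv, ← map_mul, ← map_mul, ← he]
    rw [hcomm z, hcomm x]
    exact hmemT z hz
  obtain ⟨eM⟩ : Nonempty (M ≃* M.map Φ) := ⟨M.equivMapOfInjective Φ hΦ⟩
  obtain ⟨k, -, ⟨hT, -, -⟩ | ⟨hc, ⟨e⟩⟩⟩ := cyclic_or_dihedral htor hle
  · exfalso
    have hcommM : ∀ a b : M, a * b = b * a := fun a b => eM.injective (Subtype.ext (by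
      rw [map_mul, map_mul]
      exact torus_comm htor (hT (eM a).2) (hT (eM b).2)))
    have hD : ∀ u v : DihedralGroup (Nat.card (torus x)), u * v = v * u := by
      intro u v
      let j : DihedralGroup (Nat.card (torus x)) →* PSL(2, F) :=
        (Subgroup.subtype _).comp eN.symm.toMonoidHom
      have hjM : ∀ w, toG (j w) ∈ M := fun w => by
        rw [← Subgroup.mem_comap, hH]
        exact (eN.symm w).2
      have hj : Function.Injective fun w => toG (j w) :=
        toG_injective.comp (Subtype.val_injective.comp eN.symm.injective)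
      apply hj
      simp only [map_mul]
      exact congrArg Subtype.val (hcommM ⟨_, hjM u⟩ ⟨_, hjM v⟩)
    have h := hD (.r 1) (.sr 0)
    rw [DihedralGroup.r_mul_sr, DihedralGroup.sr_mul_r, DihedralGroup.sr.injEq] at h
    have h2 : ((2 : ℕ) : ZMod (Nat.card (torus x))) = 0 := by
      push_cast
      linear_combination -h
    have := Nat.le_of_dvd two_pos ((CharP.cast_eq_zero_iff (ZMod (Nat.card (torus x))) _ 2).1 h2)
    omega
  · rw [← Nat.card_congr eM.toEquiv, h2M] at hc
    obtain rfl : k = 2 * Nat.card (torus x) := by omega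
    exact ⟨eM.trans e⟩

end CfsgLib.DicksonPSL2
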