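import Cfsg.Agent.DicksonPSL2.Basic
import Cfsg.Agent.SL2Tori.SylowTwo
import Mathlib.Algebra.QuadraticAlgebra.Basic

/-!
# Anticommuting pairs of elements of square `-1` in `SL(2, F)`

Such a pair spans the matrix algebra as a quaternion algebra. The binary tetrahedral and
icosahedral groups are given by lists of doubled coordinates closed under multiplication.
-/

set_option autoImplicit false
set_option linter.unusedSectionVars false

namespace CfsgLib.DicksonPSL2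

open Matrix CfsgLib.SL2Trace
open CfsgLib.SL2Tori (tr)
open scoped MatrixGroups

variable {F : Type*} [Field F]

/-- `i² = j² = -1` and `ji = -ij`, in odd characteristic. -/
structure QuatPair (F : Type*) [Field F] where
  i : SL(2, F)
  j : SL(2, F)
  two_ne : (2 : F) ≠ 0
  ii : i * i = -1
  jj : j * j = -1
  ji : j * i = -(i * j)

namespace QuatPair

variable (P : QuatPair F)

/-- The third unit. -/
def k : SL(2, F) := P.i * P.j

theorem kk : P.k * P.k = -1 := by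
  rw [k, show P.i * P.j * (P.i * P.j) = P.i * (P.j * P.i) * P.j by group, P.ji, mul_neg, neg_mul,
    ← mul_assoc, P.ii, neg_mul, neg_mul, one_mul, P.jj, neg_neg]

theorem tr_i : tr P.i = 0 :=
  SL2Tori.trace_eq_zero_of_sq P.two_ne (by simpa using congrArg Subtype.val P.ii)

theorem tr_j : tr P.j = 0 :=
  SL2Tori.trace_eq_zero_of_sq P.two_ne (by simpa using congrArg Subtype.val P.jj)

theorem tr_k : tr P.k = 0 :=
  SL2Tori.trace_eq_zero_of_sq P.two_ne (by simpa using congrArg Subtype.val P.kk)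

theorem rels :
    P.i.1 * P.i.1 = -1 ∧ P.j.1 * P.j.1 = -1 ∧ P.k.1 * P.k.1 = -1 ∧
    P.i.1 * P.j.1 = P.k.1 ∧ P.j.1 * P.i.1 = -P.k.1 ∧ P.i.1 * P.k.1 = -P.j.1 ∧
    P.k.1 * P.i.1 = P.j.1 ∧ P.j.1 * P.k.1 = P.i.1 ∧ P.k.1 * P.j.1 = -P.i.1 := by
  have h : ∀ {a b c : SL(2, F)}, a * b = c → a.1 * b.1 = c.1 := fun h => by
    rw [← Matrix.SpecialLinearGroup.coe_mul, h]
  refine ⟨?_, ?_, ?_, ?_, ?_, ?_, ?_, ?_, ?_⟩
  · simpa using h P.ii
  · simpa using h P.jj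
  · simpa using h P.kk
  · exact h rfl
  · simpa [k] using h P.ji
  · simpa using h (show P.i * P.k = -P.j by rw [k, ← mul_assoc, P.ii, neg_mul, one_mul])
  · simpa using h (show P.k * P.i = P.j by
      rw [k, mul_assoc, P.ji, mul_neg, ← mul_assoc, P.ii, neg_mul, one_mul, neg_neg])
  · simpa using h (show P.j * P.k = P.i by
      rw [k, ← mul_assoc, P.ji, neg_mul, mul_assoc, P.jj, mul_neg, mul_one, neg_neg])
  · simpa using h (show P.k * P.j = -P.i by rw [k, mul_assoc, P.jj, mul_neg, mul_one])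

/-- `a + b i + c j + d k`. -/
def qc (a b c d : F) : Matrix (Fin 2) (Fin 2) F := a • 1 + b • P.i.1 + c • P.j.1 + d • P.k.1

theorem qc_mul (a b c d a' b' c' d' : F) :
    P.qc a b c d * P.qc a' b' c' d' =
      P.qc (a * a' - b * b' - c * c' - d * d') (a * b' + b * a' + c * d' - d * c')
        (a * c' - b * d' + c * a' + d * b') (a * d' + b * c' - c * b' + d * a') := by
  obtain ⟨r1, r2, r3, r4, r5, r6, r7, r8, r9⟩ := P.rels
  simp only [qc, add_mul, mul_add, smul_mul_smul_comm, one_mul, mul_one, r1, r2, r3, r4, r5, r6,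
    r7, r8, r9]
  module

theorem trace_qc (a b c d : F) : (P.qc a b c d).trace = 2 * a := by
  have h1 := P.tr_i
  have h2 := P.tr_j
  have h3 := P.tr_k
  simp only [tr] at h1 h2 h3
  simp [qc, Matrix.trace_add, Matrix.trace_smul, h1, h2, h3, Matrix.trace_one, mul_comm]

theorem qc_inj {a b c d a' b' c' d' : F} (h : P.qc a b c d = P.qc a' b' c' d') :
    a = a' ∧ b = b' ∧ c = c' ∧ d = d' := by
  have h2 := P.two_ne
  have e1 := congrArg Matrix.trace h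
  have e2 := congrArg (fun M => (M * P.qc 0 1 0 0).trace) h
  have e3 := congrArg (fun M => (M * P.qc 0 0 1 0).trace) h
  have e4 := congrArg (fun M => (M * P.qc 0 0 0 1).trace) h
  simp only [qc_mul, trace_qc] at e1 e2 e3 e4
  refine ⟨mul_left_cancel₀ h2 e1, mul_left_cancel₀ h2 ?_, mul_left_cancel₀ h2 ?_,
    mul_left_cancel₀ h2 ?_⟩
  · linear_combination -e2
  · linear_combination -e3
  · linear_combination -e4

theorem det_qc (a b c d : F) : (P.qc a b c d).det = a ^ 2 + b ^ 2 + c ^ 2 + d ^ 2 := by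
  set M := P.qc a b c d with hM
  have hcayley : M * M = M.trace • M - M.det • 1 := by
    ext r s
    fin_cases r <;> fin_cases s <;>
      simp [Matrix.mul_apply, Fin.sum_univ_two, Matrix.trace_fin_two, Matrix.det_fin_two] <;> ring
  rw [hM, P.qc_mul, P.trace_qc, ← hM] at hcayley
  have hr : (2 * a) • M - M.det • 1 =
      P.qc (2 * a * a - M.det) (2 * a * b) (2 * a * c) (2 * a * d) := by
    rw [hM]; simp only [qc]; module
  rw [hr] at hcayley
  linear_combination (P.qc_inj hcayley).1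

theorem one_eq_qc : (1 : Matrix (Fin 2) (Fin 2) F) = P.qc 1 0 0 0 := by simp [qc]

/-- Every matrix is a combination of the units. -/
theorem exists_eq_qc [Finite F] (M : Matrix (Fin 2) (Fin 2) F) :
    ∃ a b c d, M = P.qc a b c d := by
  have hf : Function.Injective (fun X : Matrix (Fin 2) (Fin 2) F =>
      P.qc (X 0 0) (X 0 1) (X 1 0) (X 1 1)) := by
    intro X Y h
    obtain ⟨e1, e2, e3, e4⟩ := P.qc_inj h
    ext r s
    fin_cases r <;> fin_cases s <;> assumption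
  obtain ⟨X, hX⟩ := (Finite.injective_iff_surjective.1 hf) M
  exact ⟨_, _, _, _, hX.symm⟩

/-- The coordinates are traces. -/
theorem eq_qc_trace [Finite F] (M : Matrix (Fin 2) (Fin 2) F) :
    M = P.qc (M.trace / 2) (-(M * P.i.1).trace / 2) (-(M * P.j.1).trace / 2)
      (-(M * P.k.1).trace / 2) := by
  have h2 := P.two_ne
  obtain ⟨a, b, c, d, rfl⟩ := P.exists_eq_qc M
  have ei : P.i.1 = P.qc 0 1 0 0 := by simp [qc]
  have ej : P.j.1 = P.qc 0 0 1 0 := by simp [qc]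
  have ek : P.k.1 = P.qc 0 0 0 1 := by simp [qc]
  conv_rhs => rw [ei, ej, ek]
  simp only [qc_mul, trace_qc]
  congr 1 <;> field_simp <;> ring

end QuatPair

/-- Quaternion coordinates over `R`. -/
@[ext]
structure Quat (R : Type) where
  a : R
  b : R
  c : R
  d : R
deriving DecidableEq

namespace Quat

variable {R : Type} [CommRing R]

/-- The Hamilton product. -/
def hmul (x y : Quat R) : Quat R :=
  ⟨x.a * y.a - x.b * y.b - x.c * y.c - x.d * y.d, x.a * y.b + x.b * y.a + x.c * y.d - x.d * y.c,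
    x.a * y.c - x.b * y.d + x.c * y.a + x.d * y.b, x.a * y.d + x.b * y.c - x.c * y.b + x.d * y.a⟩

/-- Multiplication by a scalar. -/
def scale (r : R) (x : Quat R) : Quat R := ⟨r * x.a, r * x.b, r * x.c, r * x.d⟩

/-- Whether `xs = ±2y` for some `y` in the list, for all `x` in the list. -/
def closedUnder [DecidableEq R] (L gens : List (Quat R)) : Bool :=
  L.all fun x => gens.all fun s => L.any fun y =>
    decide (x.hmul s = y.scale 2) || decide (x.hmul s = y.scale (-2))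

variable (P : QuatPair F) (e : R →+* F)

/-- The matrix with the given doubled coordinates. -/
noncomputable def evalMat (x : Quat R) : Matrix (Fin 2) (Fin 2) F :=
  P.qc (e x.a / 2) (e x.b / 2) (e x.c / 2) (e x.d / 2)

theorem evalMat_mul (x y : Quat R) :
    x.evalMat P e * y.evalMat P e = (2 : F)⁻¹ • (x.hmul y).evalMat P e := by
  have h2 := P.two_ne
  rw [evalMat, evalMat, P.qc_mul, evalMat]
  simp only [hmul, map_add, map_sub, map_mul, QuatPair.qc, smul_add, smul_smul]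
  congr 1
  · congr 1
    · congr 1
      · congr 1; field_simp
      · congr 1; field_simp
    · congr 1; field_simp
  · congr 1; field_simp

theorem evalMat_scale (r : R) (x : Quat R) : (x.scale r).evalMat P e = e r • x.evalMat P e := by
  simp only [evalMat, scale, map_mul, QuatPair.qc, smul_add, smul_smul, mul_div_assoc]

/-- The image in `PSL` of coordinates of norm `4`. -/
noncomputable def toPSL [DecidableEq F] (x : Quat R) : PSL(2, F) :=
  if h : (x.evalMat P e).det = 1 then proj ⟨x.evalMat P e, h⟩ else 1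

theorem det_evalMat (x : Quat R) :
    (x.evalMat P e).det = e (x.a * x.a + x.b * x.b + x.c * x.c + x.d * x.d) / 4 := by
  have h2 := P.two_ne
  rw [evalMat, P.det_qc, show (4 : F) = 2 * 2 by norm_num]
  simp only [map_add, map_mul]
  field_simp
  try ring

theorem toPSL_eq [DecidableEq F] (x : Quat R)
    (_hx : x.a * x.a + x.b * x.b + x.c * x.c + x.d * x.d = 4) (g : SL(2, F))
    (hg : g.1 = x.evalMat P e) : x.toPSL P e = proj g := by
  have h : (x.evalMat P e).det = 1 := hg ▸ g.2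
  rw [toPSL, dif_pos h]
  exact congrArg proj (Subtype.ext hg.symm)

theorem exists_SL (x : Quat R) (hx : x.a * x.a + x.b * x.b + x.c * x.c + x.d * x.d = 4) :
    ∃ g : SL(2, F), g.1 = x.evalMat P e := by
  refine ⟨⟨x.evalMat P e, ?_⟩, rfl⟩
  have h2 := P.two_ne
  rw [det_evalMat, hx, map_ofNat, div_self]
  rw [show (4 : F) = 2 * 2 by norm_num]
  exact mul_ne_zero h2 h2

theorem toPSL_mul [DecidableEq F] {x s y : Quat R} (hx : x.a * x.a + x.b * x.b + x.c * x.c + x.d * x.d = 4)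
    (hs : s.a * s.a + s.b * s.b + s.c * s.c + s.d * s.d = 4)
    (hy : y.a * y.a + y.b * y.b + y.c * y.c + y.d * y.d = 4)
    (h : x.hmul s = y.scale 2 ∨ x.hmul s = y.scale (-2)) :
    x.toPSL P e * s.toPSL P e = y.toPSL P e := by
  have h2 := P.two_ne
  obtain ⟨gx, hgx⟩ := exists_SL P e x hx
  obtain ⟨gs, hgs⟩ := exists_SL P e s hs
  obtain ⟨gy, hgy⟩ := exists_SL P e y hy
  rw [toPSL_eq P e x hx gx hgx, toPSL_eq P e s hs gs hgs, toPSL_eq P e y hy gy hgy, ← proj_mul,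
    proj_eq_proj_iff]
  have hmul : (gx * gs).1 = (2 : F)⁻¹ • (x.hmul s).evalMat P e := by
    rw [Matrix.SpecialLinearGroup.coe_mul, hgx, hgs, evalMat_mul]
  rcases h with h | h <;> rw [h, evalMat_scale, smul_smul] at hmul
  · left
    apply Subtype.ext
    rw [hgy, hmul, map_ofNat, inv_mul_cancel₀ h2, one_smul]
  · right
    apply Subtype.ext
    rw [Matrix.SpecialLinearGroup.coe_neg, hgy, hmul, map_neg, map_ofNat, mul_neg,
      inv_mul_cancel₀ h2, neg_one_smul, neg_neg]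

/-- A list closed under the generators contains the group they generate. -/
theorem closure_le_list [Finite F] [DecidableEq F] [DecidableEq R] (L gens : List (Quat R))
    (hnorm : ∀ x ∈ L ++ gens, x.a * x.a + x.b * x.b + x.c * x.c + x.d * x.d = 4)
    (hclosed : closedUnder L gens = true) (h1 : (⟨2, 0, 0, 0⟩ : Quat R) ∈ L)
    {g : PSL(2, F)} (hg : g ∈ Subgroup.closure {z | ∃ s ∈ gens, z = s.toPSL P e}) :
    ∃ x ∈ L, g = x.toPSL P e := by
  let S : Set PSL(2, F) := {z | ∃ x ∈ L, z = x.toPSL P e}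
  let K : Submonoid PSL(2, F) :=
    { carrier := {z | ∀ y ∈ S, y * z ∈ S}
      one_mem' := fun y hy => by simpa using hy
      mul_mem' := fun {a b} ha hb y hy => by rw [← mul_assoc]; exact hb _ (ha y hy) }
  have hgens : {z | ∃ s ∈ gens, z = s.toPSL P e} ⊆ (K : Set PSL(2, F)) := by
    rintro _ ⟨s, hs, rfl⟩ _ ⟨x, hx, rfl⟩
    simp only [closedUnder, List.all_eq_true, List.any_eq_true, Bool.or_eq_true,
      decide_eq_true_eq] at hclosed
    obtain ⟨y, hy, hxy⟩ := hclosed x hx s hs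
    exact ⟨y, hy, toPSL_mul P e (hnorm x (List.mem_append_left _ hx))
      (hnorm s (List.mem_append_right _ hs)) (hnorm y (List.mem_append_left _ hy)) hxy⟩
  have hK : ∀ z ∈ Subgroup.closure {z | ∃ s ∈ gens, z = s.toPSL P e}, z ∈ K := by
    intro z hz
    rw [← Subgroup.mem_toSubmonoid, Subgroup.closure_toSubmonoid_of_finite] at hz
    exact (Submonoid.closure_le.2 hgens) hz
  obtain ⟨g₁, hg₁⟩ := exists_SL P e (⟨2, 0, 0, 0⟩ : Quat R) (hnorm _ (List.mem_append_left _ h1))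
  have hone : (1 : PSL(2, F)) ∈ S := by
    refine ⟨_, h1, ?_⟩
    rw [toPSL_eq P e _ (hnorm _ (List.mem_append_left _ h1)) g₁ hg₁,
      show g₁ = 1 from Subtype.ext (by
        rw [hg₁, Matrix.SpecialLinearGroup.coe_one, P.one_eq_qc, evalMat, map_ofNat, map_zero,
          zero_div, div_self P.two_ne])]
    rfl
  have := hK g hg 1 hone
  rwa [one_mul] at this

end Quat

/-- `ℤ[φ]`, where `φ² = φ + 1`. -/
abbrev Zphi : Type := QuadraticAlgebra ℤ 1 1

/-- `m + n φ`. -/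
def zp (m n : ℤ) : Zphi := ⟨m, n⟩

/-- Representatives up to sign of the binary tetrahedral group, in doubled coordinates. -/
def tetraList : List (Quat ℤ) :=
  [⟨2, 0, 0, 0⟩,
   ⟨0, 2, 0, 0⟩,
   ⟨0, 0, 2, 0⟩,
   ⟨-1, 1, 1, 1⟩,
   ⟨0, 0, 0, 2⟩,
   ⟨-1, -1, -1, 1⟩,
   ⟨-1, 1, -1, -1⟩,
   ⟨-1, -1, 1, -1⟩,
   ⟨-1, -1, -1, -1⟩,
   ⟨1, -1, 1, -1⟩,
   ⟨1, -1, -1, 1⟩,
   ⟨1, 1, -1, -1⟩]

/-- Representatives up to sign of the binary icosahedral group, in doubled coordinates. -/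
def icoList : List (Quat Zphi) :=
  [⟨zp (2) (0), zp (0) (0), zp (0) (0), zp (0) (0)⟩,
   ⟨zp (0) (0), zp (2) (0), zp (0) (0), zp (0) (0)⟩,
   ⟨zp (0) (0), zp (0) (0), zp (2) (0), zp (0) (0)⟩,
   ⟨zp (-1) (0), zp (1) (0), zp (1) (0), zp (1) (0)⟩,
   ⟨zp (0) (1), zp (-1) (1), zp (1) (0), zp (0) (0)⟩,
   ⟨zp (0) (0), zp (0) (0), zp (0) (0), zp (2) (0)⟩,
   ⟨zp (-1) (0), zp (-1) (0), zp (-1) (0), zp (1) (0)⟩,
   ⟨zp (1) (-1), zp (0) (1), zp (0) (0), zp (1) (0)⟩,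
   ⟨zp (-1) (0), zp (1) (0), zp (-1) (0), zp (-1) (0)⟩,
   ⟨zp (-1) (0), zp (0) (0), zp (0) (1), zp (1) (-1)⟩,
   ⟨zp (-1) (0), zp (-1) (0), zp (1) (0), zp (-1) (0)⟩,
   ⟨zp (-1) (0), zp (-1) (0), zp (-1) (0), zp (-1) (0)⟩,
   ⟨zp (0) (-1), zp (0) (0), zp (-1) (1), zp (1) (0)⟩,
   ⟨zp (1) (-1), zp (0) (1), zp (0) (0), zp (-1) (0)⟩,
   ⟨zp (-1) (0), zp (0) (0), zp (0) (1), zp (-1) (1)⟩,
   ⟨zp (0) (-1), zp (1) (0), zp (0) (0), zp (-1) (1)⟩,
   ⟨zp (-1) (1), zp (1) (0), zp (0) (1), zp (0) (0)⟩,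
   ⟨zp (0) (0), zp (-1) (0), zp (-1) (1), zp (0) (1)⟩,
   ⟨zp (1) (0), zp (-1) (0), zp (1) (0), zp (-1) (0)⟩,
   ⟨zp (0) (0), zp (0) (-1), zp (-1) (0), zp (-1) (1)⟩,
   ⟨zp (0) (-1), zp (1) (-1), zp (1) (0), zp (0) (0)⟩,
   ⟨zp (0) (0), zp (-1) (0), zp (1) (-1), zp (0) (1)⟩,
   ⟨zp (-1) (0), zp (0) (-1), zp (1) (-1), zp (0) (0)⟩,
   ⟨zp (-1) (0), zp (-1) (1), zp (0) (0), zp (0) (1)⟩,
   ⟨zp (1) (0), zp (-1) (0), zp (-1) (0), zp (1) (0)⟩,
   ⟨zp (1) (-1), zp (1) (0), zp (0) (-1), zp (0) (0)⟩,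
   ⟨zp (0) (0), zp (-1) (0), zp (1) (-1), zp (0) (-1)⟩,
   ⟨zp (0) (-1), zp (-1) (1), zp (-1) (0), zp (0) (0)⟩,
   ⟨zp (0) (0), zp (-1) (1), zp (0) (-1), zp (-1) (0)⟩,
   ⟨zp (0) (-1), zp (0) (0), zp (-1) (1), zp (-1) (0)⟩,
   ⟨zp (1) (0), zp (1) (0), zp (-1) (0), zp (-1) (0)⟩,
   ⟨zp (-1) (0), zp (1) (-1), zp (0) (0), zp (0) (-1)⟩,
   ⟨zp (0) (0), zp (1) (-1), zp (0) (-1), zp (-1) (0)⟩,
   ⟨zp (0) (0), zp (0) (-1), zp (1) (0), zp (1) (-1)⟩,
   ⟨zp (0) (-1), zp (-1) (0), zp (0) (0), zp (-1) (1)⟩,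
   ⟨zp (0) (0), zp (1) (0), zp (1) (-1), zp (0) (1)⟩,
   ⟨zp (0) (0), zp (1) (-1), zp (0) (-1), zp (1) (0)⟩,
   ⟨zp (-1) (0), zp (0) (1), zp (1) (-1), zp (0) (0)⟩,
   ⟨zp (1) (-1), zp (0) (0), zp (-1) (0), zp (0) (-1)⟩,
   ⟨zp (-1) (0), zp (0) (-1), zp (-1) (1), zp (0) (0)⟩,
   ⟨zp (0) (0), zp (0) (-1), zp (-1) (0), zp (1) (-1)⟩,
   ⟨zp (0) (-1), zp (0) (0), zp (1) (-1), zp (1) (0)⟩,
   ⟨zp (-1) (0), zp (-1) (1), zp (0) (0), zp (0) (-1)⟩,
   ⟨zp (1) (-1), zp (1) (0), zp (0) (1), zp (0) (0)⟩,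
   ⟨zp (1) (0), zp (0) (0), zp (0) (1), zp (1) (-1)⟩,
   ⟨zp (1) (-1), zp (0) (-1), zp (0) (0), zp (-1) (0)⟩,
   ⟨zp (1) (-1), zp (0) (0), zp (1) (0), zp (0) (-1)⟩,
   ⟨zp (0) (0), zp (0) (-1), zp (1) (0), zp (-1) (1)⟩,
   ⟨zp (-1) (1), zp (0) (0), zp (1) (0), zp (0) (-1)⟩,
   ⟨zp (0) (1), zp (0) (0), zp (-1) (1), zp (1) (0)⟩,
   ⟨zp (1) (0), zp (0) (-1), zp (1) (-1), zp (0) (0)⟩,
   ⟨zp (-1) (0), zp (0) (0), zp (0) (-1), zp (1) (-1)⟩,
   ⟨zp (-1) (1), zp (0) (0), zp (-1) (0), zp (0) (-1)⟩,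
   ⟨zp (0) (-1), zp (-1) (0), zp (0) (0), zp (1) (-1)⟩,
   ⟨zp (0) (0), zp (1) (-1), zp (0) (1), zp (-1) (0)⟩,
   ⟨zp (0) (1), zp (-1) (0), zp (0) (0), zp (-1) (1)⟩,
   ⟨zp (1) (-1), zp (-1) (0), zp (0) (1), zp (0) (0)⟩,
   ⟨zp (-1) (0), zp (1) (-1), zp (0) (0), zp (0) (1)⟩,
   ⟨zp (-1) (1), zp (0) (1), zp (0) (0), zp (-1) (0)⟩,
   ⟨zp (0) (-1), zp (-1) (1), zp (1) (0), zp (0) (0)⟩]

/-- The generators `i`, `j`, `ω` of the binary tetrahedral group. -/
def tetraGens : List (Quat ℤ) := [⟨0, 2, 0, 0⟩, ⟨0, 0, 2, 0⟩, ⟨-1, 1, 1, 1⟩]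

/-- The generators `i`, `j`, `ω`, `g` of the binary icosahedral group. -/
def icoGens : List (Quat Zphi) :=
  [⟨zp 0 0, zp 2 0, zp 0 0, zp 0 0⟩, ⟨zp 0 0, zp 0 0, zp 2 0, zp 0 0⟩,
   ⟨zp (-1) 0, zp 1 0, zp 1 0, zp 1 0⟩, ⟨zp 0 1, zp (-1) 1, zp 1 0, zp 0 0⟩]

theorem tetraList_norm : ∀ x ∈ tetraList ++ tetraGens,
    x.a * x.a + x.b * x.b + x.c * x.c + x.d * x.d = 4 := by decide +kernel

theorem tetraList_closed : Quat.closedUnder tetraList tetraGens = true := by decide +kernel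

theorem icoList_norm : ∀ x ∈ icoList ++ icoGens,
    x.a * x.a + x.b * x.b + x.c * x.c + x.d * x.d = 4 := by decide +kernel

theorem icoList_closed : Quat.closedUnder icoList icoGens = true := by decide +kernel

theorem tetraList_one : (⟨2, 0, 0, 0⟩ : Quat ℤ) ∈ tetraList ∧ tetraList.length = 12 := by
  decide +kernel

theorem icoList_one : (⟨2, 0, 0, 0⟩ : Quat Zphi) ∈ icoList ∧ icoList.length = 60 := by
  decide +kernel

end CfsgLib.DicksonPSL2
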