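import Cfsg.Agent.DicksonPSL2.Maximal

/-!
# Small dihedral normalisers are not maximal

For `q ∈ {5, 7, 9, 11}` some torus normalisers lie in `A₄`, `S₄` or `A₅`, by Sylow's theorem.
-/

set_option autoImplicit false
set_option linter.unusedSectionVars false

namespace CfsgLib.DicksonPSL2

variable {G : Type*} [Group G] [Finite G]

theorem exists_conjS_eq_of_card (l : ℕ) [Fact l.Prime] {P Q : Subgroup G}
    (hP : Nat.card P = l ^ (Nat.card G).factorization l)
    (hQ : Nat.card Q = l ^ (Nat.card G).factorization l) : ∃ g : G, conjS g P = Q := by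
  obtain ⟨g, hg⟩ := MulAction.exists_smul_eq G (Sylow.ofCard P hP) (Sylow.ofCard Q hQ)
  refine ⟨g, ?_⟩
  have h := congrArg (fun R : Sylow l G => (R : Subgroup G)) hg
  simp only [Sylow.coe_subgroup_smul, Sylow.coe_ofCard] at h
  exact h

theorem not_le_conjS {M S : Subgroup G} (hM : IsCoatom M) (hS : S ≠ ⊤)
    (hlt : Nat.card M < Nat.card S) (g : G) : ¬ M ≤ conjS g S := by
  intro hle
  rcases hM.le_iff.1 hle with e | e
  · apply hS
    apply Subgroup.eq_top_of_card_eq
    rw [← card_conjS g S, e, Subgroup.card_top]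
  · rw [← card_conjS g S, e] at hlt
    exact lt_irrefl _ hlt

/-- A maximal Sylow subgroup divides no bigger proper subgroup. -/
theorem not_isCoatom_sylow (l : ℕ) [Fact l.Prime] {M S : Subgroup G} (hS : S ≠ ⊤)
    (hlt : Nat.card M < Nat.card S) (hM : Nat.card M = l ^ (Nat.card G).factorization l)
    (hdvd : Nat.card M ∣ Nat.card S) : ¬ IsCoatom M := by
  intro hco
  obtain ⟨Q, hQ⟩ := Sylow.exists_subgroup_card_pow_prime (G := S) l (hM ▸ hdvd)
  obtain ⟨g, hg⟩ := exists_conjS_eq_of_card l hM (Q := Q.map S.subtype)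
    (by rw [← Nat.card_congr (Q.equivMapOfInjective _ S.subtype_injective).toEquiv, hQ])
  refine not_le_conjS hco hS hlt g⁻¹ fun x hx => ?_
  rw [mem_conjS, inv_inv]
  have h1 : g * x * g⁻¹ ∈ conjS g M := mem_conjS.2 (by simpa [mul_assoc] using hx)
  rw [hg] at h1
  obtain ⟨y, -, hy⟩ := h1
  rw [← hy]
  exact y.2

/-- The normaliser of a Sylow subgroup of prime order is not maximal if some proper subgroup has
a big enough one. -/
theorem not_isCoatom_normalizer (l : ℕ) [hl : Fact l.Prime] {T S : Subgroup G}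
    (hT : Nat.card T = l) (hl2 : ¬ l ^ 2 ∣ Nat.card G) (hS : S ≠ ⊤)
    (hlt : Nat.card (Subgroup.normalizer (T : Set G)) < Nat.card S) (hdvd : l ∣ Nat.card S)
    (hn : ∀ n ∈ (Nat.card S).divisors, n % l = 1 →
      n * Nat.card (Subgroup.normalizer (T : Set G)) ≤ Nat.card S) :
    ¬ IsCoatom (Subgroup.normalizer (T : Set G)) := by
  intro hco
  set M := Subgroup.normalizer (T : Set G) with hM
  have hone : ∀ N : ℕ, N ≠ 0 → l ∣ N → ¬ l ^ 2 ∣ N → N.factorization l = 1 := fun N hN h h' => by
    have h1 := (hl.out.dvd_iff_one_le_factorization hN).1 h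
    by_contra hne
    exact h' ((hl.out.pow_dvd_iff_le_factorization hN).2 (by omega))
  have hG : (Nat.card G).factorization l = 1 :=
    hone _ Nat.card_pos.ne' (hT ▸ T.card_subgroup_dvd_card) hl2
  have hSf : (Nat.card S).factorization l = 1 :=
    hone _ Nat.card_pos.ne' hdvd fun h => hl2 (h.trans S.card_subgroup_dvd_card)
  obtain ⟨Q, hQ⟩ := Sylow.exists_subgroup_card_pow_prime (G := S) l (n := 1) (by rwa [pow_one])
  obtain ⟨g, hg⟩ := exists_conjS_eq_of_card l (P := T) (Q := Q.map S.subtype)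
    (by rw [hT, hG, pow_one])
    (by rw [← Nat.card_congr (Q.equivMapOfInjective _ S.subtype_injective).toEquiv, hQ, hG])
  let N := Subgroup.normalizer (Q : Set S)
  have hNle : N.map S.subtype ≤ conjS g M := by
    intro x hx
    have hxQ : x ∈ Subgroup.normalizer (Q.map S.subtype : Set G) :=
      Subgroup.le_normalizer_map S.subtype hx
    rw [← hg, ← conjS_eq_self_iff] at hxQ
    have h2 := congrArg (conjS g⁻¹) hxQ
    rw [← conjS_mul, ← conjS_mul, ← conjS_mul, inv_mul_cancel, conjS_one] at h2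
    rw [mem_conjS, hM, ← conjS_eq_self_iff]
    exact h2
  have hcard : Nat.card M ≤ Nat.card (N.map S.subtype) := by
    rw [← Nat.card_congr (N.equivMapOfInjective _ S.subtype_injective).toEquiv]
    let P : Sylow l S := Sylow.ofCard Q (by rw [hQ, hSf])
    have hi : Nat.card (Sylow l S) = N.index := P.card_eq_index_normalizer
    have h3 := N.card_mul_index
    have hdiv : N.index ∈ (Nat.card S).divisors :=
      Nat.mem_divisors.2 ⟨Dvd.intro_left _ h3, Nat.card_pos.ne'⟩
    have hmod : N.index % l = 1 := by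
      rw [← hi]
      have := card_sylow_modEq_one l S
      rwa [Nat.ModEq, Nat.mod_eq_of_lt hl.out.one_lt] at this
    have h4 := hn _ hdiv hmod
    rw [← h3, mul_comm N.index] at h4
    exact Nat.le_of_mul_le_mul_right h4 (Nat.pos_of_ne_zero Subgroup.index_ne_zero_of_finite)
  have heq : N.map S.subtype = conjS g M :=
    Subgroup.eq_of_le_of_card_ge hNle (by rw [card_conjS]; exact hcard)
  refine not_le_conjS hco hS hlt g⁻¹ fun x hx => ?_
  rw [mem_conjS, inv_inv]
  have h1 : g * x * g⁻¹ ∈ conjS g M := mem_conjS.2 (by simpa [mul_assoc] using hx)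
  rw [← heq] at h1
  obtain ⟨y, -, hy⟩ := h1
  rw [← hy]
  exact y.2

end CfsgLib.DicksonPSL2
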