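import Cfsg.Agent.DicksonPSL2.NineList

/-!
# The group generated by `[[1, 0], [1, 1]]` and `[[1, λ], [0, 1]]`

Its image in `PSL(2, F)` contains a translation and is not triangular, so `char_case` applies:
either it is everything or it is `A₅` with `|F| = 9` and `λ² = -1`.
-/

set_option autoImplicit false
set_option linter.unusedSectionVars false

namespace CfsgLib.DicksonPSL2

open Matrix CfsgLib.SL2Trace
open CfsgLib.SL2Tori (tr)
open scoped MatrixGroups

variable {F : Type*} [Field F]

theorem entry_pow_add_two (g : SL(2, F)) (n : ℕ) :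
    (g ^ (n + 2)).1 1 0 = tr g * (g ^ (n + 1)).1 1 0 - (g ^ n).1 1 0 := by
  have hsq : g.1 * g.1 = tr g • g.1 + (-1 : F) • (1 : Matrix (Fin 2) (Fin 2) F) := by
    have hd := det_eq_one g
    ext i j
    fin_cases i <;> fin_cases j <;>
      simp [tr, Matrix.trace_fin_two, Matrix.mul_apply, Fin.sum_univ_two] <;>
      grind
  rw [show g ^ (n + 2) = g * g * g ^ n by rw [← pow_two, ← pow_add, add_comm],
    show g ^ (n + 1) = g * g ^ n from pow_succ' g n]
  simp only [Matrix.SpecialLinearGroup.coe_mul]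
  rw [hsq, add_mul, Matrix.smul_mul, Matrix.smul_mul, one_mul]
  simp [sub_eq_add_neg]

theorem entry_eq_zero_of_pow {g : SL(2, F)} {n : ℕ} (h : (proj g) ^ n = 1) :
    (g ^ n).1 1 0 = 0 := by
  rw [← projHom_apply, ← map_pow, projHom_apply, proj_eq_one_iff] at h
  rcases h with h | h <;> simp [h]

/-- An element outside the Borel subgroup of order dividing 2, 3 or 5 has one of few traces. -/
theorem trace_of_order {g : SL(2, F)} (hc : g.1 1 0 ≠ 0)
    (h : proj g ^ 2 = 1 ∨ proj g ^ 3 = 1 ∨ proj g ^ 5 = 1) :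
    tr g = 0 ∨ tr g ^ 2 = 1 ∨ tr g ^ 4 - 3 * tr g ^ 2 + 1 = 0 := by
  have s0 : (g ^ 0).1 1 0 = 0 := by simp
  have s1 : (g ^ 1).1 1 0 = g.1 1 0 := by rw [pow_one]
  have s2 : (g ^ 2).1 1 0 = tr g * g.1 1 0 := by rw [entry_pow_add_two g 0, s1, s0, sub_zero]
  have s3 : (g ^ 3).1 1 0 = (tr g ^ 2 - 1) * g.1 1 0 := by
    rw [entry_pow_add_two g 1, s2, s1]; ring
  have s4 : (g ^ 4).1 1 0 = (tr g ^ 3 - 2 * tr g) * g.1 1 0 := by
    rw [entry_pow_add_two g 2, s3, s2]; ring
  have s5 : (g ^ 5).1 1 0 = (tr g ^ 4 - 3 * tr g ^ 2 + 1) * g.1 1 0 := by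
    rw [entry_pow_add_two g 3, s4, s3]; ring
  rcases h with h | h | h
  · have := entry_eq_zero_of_pow h
    rw [s2] at this
    exact Or.inl ((mul_eq_zero.1 this).resolve_right hc)
  · have := entry_eq_zero_of_pow h
    rw [s3] at this
    exact Or.inr (Or.inl (sub_eq_zero.1 ((mul_eq_zero.1 this).resolve_right hc)))
  · have := entry_eq_zero_of_pow h
    rw [s5] at this
    exact Or.inr (Or.inr ((mul_eq_zero.1 this).resolve_right hc))

/-- A group of `SL(2, F)` covering `PSL(2, F)` is everything, in odd characteristic. -/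
theorem eq_top_of_map_projHom (h2 : (2 : F) ≠ 0) {G : Subgroup SL(2, F)}
    (h : G.map projHom = ⊤) : G = ⊤ := by
  have hsq : ∀ x : SL(2, F), x * x ∈ G := by
    intro x
    obtain ⟨g, hg, hgx⟩ := (h ▸ Subgroup.mem_top (projHom x) : projHom x ∈ G.map projHom)
    rcases proj_eq_proj_iff.1 hgx with rfl | rfl
    · exact mul_mem hg hg
    · rw [neg_mul_neg]; exact mul_mem hg hg
  refine eq_top_iff.2 fun x _ => LocalEven50.closure_upper_lower F G (fun t => ?_) (fun t => ?_) x
  · have := hsq (LocalEven50.upperHom F (.ofAdd (t.toAdd / 2)))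
    rw [← map_mul] at this
    convert this using 2
    apply Multiplicative.toAdd.injective
    simp only [toAdd_mul, toAdd_ofAdd]
    field_simp
    ring
  · have := hsq (LocalEven50.lowerHom F (.ofAdd (t.toAdd / 2)))
    rw [← map_mul] at this
    convert this using 2
    apply Multiplicative.toAdd.injective
    simp only [toAdd_mul, toAdd_ofAdd]
    field_simp
    ring

variable [Fintype F] (p : ℕ) [Fact p.Prime] [CharP F p]

include p in
/-- The subfield case is the whole group. -/
theorem eq_top_of_subfieldType (h2 : (2 : F) ≠ 0) {lam : F} (hlam : lam ≠ 0)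
    (hgen : Subfield.closure ({lam} : Set F) = ⊤) {H : Subgroup PSL(2, F)} (hu : u lam ∈ H)
    (hl : proj loOne ∈ H) (hs : IsSubfieldType H) : H = ⊤ := by
  obtain ⟨-, hk, e, he⟩ := hs
  have hne : ¬ H ≤ BP := fun h => by simpa [coe_loOne] using (proj_mem_BP_iff _).1 (h hl)
  have s1 : (1 : F) ∈ slopes H := by
    refine ⟨proj loOne, ⟨hl, ?_⟩, ?_⟩
    · simp [proj_mem_BP_iff, coe_loOne]
    · simp [slope_proj, coe_loOne]
  have hl2 : proj (loOne * loOne) ∈ H := mul_mem hl hl
  have s2 : (1 / 2 : F) ∈ slopes H := by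
    refine ⟨proj (loOne * loOne), ⟨hl2, ?_⟩, ?_⟩
    · rw [proj_mem_BP_iff, Matrix.SpecialLinearGroup.coe_mul, coe_loOne]
      simpa [Matrix.mul_apply, Fin.sum_univ_two, one_add_one_eq_two] using h2
    · rw [slope_proj, Matrix.SpecialLinearGroup.coe_mul, coe_loOne]
      simp [Matrix.mul_apply, Fin.sum_univ_two, one_add_one_eq_two]
  have hhalf : (1 / 2 : F) ∈ trans H := by
    have := (trans H).sub_mem (he _ s1) (he _ s2)
    convert this using 1
    field_simp
    ring
  have hone : (1 : F) ∈ trans H := by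
    have := (trans H).add_mem hhalf hhalf
    convert this using 1
    field_simp
    ring
  have hc : IsCentred H := by
    intro s hs
    have := (trans H).add_mem (he s hs) ((trans H).sub_mem hone (he 1 s1))
    simpa using this
  obtain ⟨K, instK, instK', ι, w, -, hT, -⟩ := exists_field p hk hu hlam
  obtain ⟨a, ha⟩ := (hT 1).1 hone
  obtain ⟨b, hb⟩ := (hT lam).1 hu
  have hlamK : lam ∈ ι.fieldRange := by
    refine ⟨b / a, ?_⟩
    have ha0 : ι a ≠ 0 := fun h => by rw [h, mul_zero] at ha; exact one_ne_zero ha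
    rw [map_div₀, div_eq_iff ha0, hb]
    linear_combination (ι b) * ha
  have hsur : Function.Surjective ι := fun x => by
    have : (⊤ : Subfield F) ≤ ι.fieldRange := hgen ▸ Subfield.closure_le.2 (by simpa using hlamK)
    exact this (Subfield.mem_top x)
  have hKF : Fintype.card K = Fintype.card F :=
    Fintype.card_of_bijective ⟨ι.injective, hsur⟩
  have hS := range_psiS_le ι w hT hc hne
  refine Subgroup.eq_top_of_le_card H (le_trans (le_of_eq ?_) (Subgroup.card_le_of_le hS))
  have hK := card_PSL_formula K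
  rw [hKF, ← card_PSL_formula F] at hK
  rw [Nat.card_congr (MonoidHom.ofInjective (psiS_injective ι w)).toEquiv.symm]
  exact (Nat.eq_of_mul_eq_mul_left (Nat.gcd_pos_of_pos_left _ two_pos) hK).symm

/-- `A₅` occurs only over `F₉`. -/
theorem nine_of_sixty [CharP F 3] {lam : F} (hlam : lam ≠ 0)
    (hgen : Subfield.closure ({lam} : Set F) = ⊤) {H : Subgroup PSL(2, F)} (hu : u lam ∈ H)
    (hl : proj loOne ∈ H) (hc60 : Nat.card H = 60) (e : H ≃* alternatingGroup (Fin 5)) :
    Fintype.card F = 9 ∧ lam ^ 2 = -1 := by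
  have := Fact.mk Nat.prime_three
  have h3 : (3 : F) = 0 := by simpa using CharP.cast_eq_zero F 3
  have hord : ∀ x ∈ H, x ^ 2 = 1 ∨ x ^ 3 = 1 ∨ x ^ 5 = 1 := by
    intro x hx
    have key : ∀ n : ℕ, e ⟨x, hx⟩ ^ n = 1 → x ^ n = 1 := fun n hn => by
      have : (⟨x, hx⟩ : H) ^ n = 1 := e.injective (by rw [map_pow, map_one, hn])
      exact congrArg Subtype.val this
    rcases alt_five_pow (e ⟨x, hx⟩) with h | h | h
    exacts [Or.inl (key _ h), Or.inr (Or.inl (key _ h)), Or.inr (Or.inr (key _ h))]
  have tr_eq : ∀ m : F, u m ∈ H →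
      (2 + m) = 0 ∨ (2 + m) ^ 2 = 1 ∨ (2 + m) ^ 4 + 1 = 0 := by
    intro m hm
    have ht : tr (loOne * upSL m) = 2 + m := by
      rw [tr, Matrix.SpecialLinearGroup.coe_mul, coe_loOne, coe_upSL]
      simp [Matrix.trace_fin_two]
      ring
    have hc : (loOne * upSL m).1 1 0 ≠ 0 := by
      rw [Matrix.SpecialLinearGroup.coe_mul, coe_loOne, coe_upSL]
      simp [Matrix.mul_apply, Fin.sum_univ_two]
    rcases trace_of_order hc (hord _ (mul_mem hl hm)) with h | h | h <;> rw [ht] at h
    exacts [Or.inl h, Or.inr (Or.inl h), Or.inr (Or.inr (by linear_combination h + (2 + m) ^ 2 * h3))]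
  obtain ⟨n, -, hn⟩ := FiniteField.card F 3
  have hsub : ∀ k : ℕ, 0 < k → lam ^ 3 ^ k = lam → Fintype.card F ≤ 3 ^ k := by
    intro k hk0 hk
    have hle : (⊤ : Subfield F) ≤ (iterateFrobenius F 3 k).eqLocusField (RingHom.id F) :=
      hgen ▸ Subfield.closure_le.2 (by simpa [iterateFrobenius_def] using hk)
    obtain ⟨g, hg⟩ := IsCyclic.exists_ofOrder_eq_natCard (α := Fˣ)
    have hgk : (g : F) ^ 3 ^ k = g := by
      have := hle (Subfield.mem_top (g : F))
      simpa [iterateFrobenius_def] using this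
    have h1 : g ^ (3 ^ k - 1) = 1 := by
      apply Units.ext
      rw [Units.val_pow_eq_pow_val, Units.val_one]
      apply mul_right_cancel₀ g.ne_zero
      rw [← pow_succ, one_mul, Nat.sub_add_cancel (Nat.one_le_pow _ _ (by norm_num)), hgk]
    have h2 := orderOf_dvd_of_pow_eq_one h1
    rw [hg, Nat.card_units, Nat.card_eq_fintype_card] at h2
    have h3k : 3 ≤ 3 ^ k := Nat.le_self_pow hk0.ne' 3
    have := Nat.le_of_dvd (by omega) h2
    omega
  have hF3 : Fintype.card F ≠ 3 := by
    intro h
    have h1 := Subgroup.card_le_card_group H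
    have h2 := card_PSL_formula F
    rw [h, hc60] at *
    norm_num at h2
    omega
  have hprime : lam ^ 2 ≠ 1 := by
    intro h
    apply hF3
    have := hsub 1 one_pos (by rw [pow_one, pow_succ, h, one_mul])
    have := Nat.le_self_pow n.ne_zero 3
    omega
  have hlam2 : lam ^ 2 = -1 := by
    have h1 := tr_eq lam hu
    have h2 := tr_eq (-lam) (by rw [u_neg]; exact inv_mem hu)
    have no0 : ∀ m : F, m ^ 2 ≠ 1 → m ≠ 0 → (2 + m ≠ 0) ∧ (2 + m) ^ 2 ≠ 1 := by
      intro m hm hm0
      refine ⟨fun h => hm ?_, fun h => ?_⟩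
      · linear_combination (m - 2) * h + h3
      · rcases sq_eq_one_iff.1 h with h | h
        · exact hm (by linear_combination (m - 1) * h)
        · exact hm0 (by linear_combination h - h3)
    have a1 := (h1.resolve_left (no0 lam hprime hlam).1).resolve_left (no0 lam hprime hlam).2
    have hp' : (-lam) ^ 2 ≠ 1 := by rwa [neg_sq]
    have a2 := (h2.resolve_left (no0 _ hp' (neg_ne_zero.2 hlam)).1).resolve_left
      (no0 _ hp' (neg_ne_zero.2 hlam)).2
    have : lam * (lam ^ 2 + 1) = 0 := by
      linear_combination a1 - a2 - (5 * lam ^ 3 + 21 * lam) * h3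
    exact eq_neg_of_add_eq_zero_left ((mul_eq_zero.1 this).resolve_left hlam)
  refine ⟨?_, hlam2⟩
  have h9 := hsub 2 two_pos (by
    rw [show (3 : ℕ) ^ 2 = 2 * 4 + 1 by norm_num, pow_succ, pow_mul, hlam2]
    norm_num)
  have hn2 : (n : ℕ) ≤ 2 := (Nat.pow_le_pow_iff_right (show 1 < 3 by norm_num)).1 (hn ▸ h9)
  rcases show (n : ℕ) = 1 ∨ (n : ℕ) = 2 by have := n.pos; omega with h | h
  · exact absurd (by rw [hn, h, pow_one]) hF3
  · rw [hn, h]; norm_num

include p in
/-- Dickson's lemma on two transvections. -/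
theorem transvections_generate (h2 : (2 : F) ≠ 0) {lam : F} (hlam : lam ≠ 0)
    (hgen : Subfield.closure ({lam} : Set F) = ⊤) :
    (Subgroup.closure ({loOne, upSL lam} : Set SL(2, F)) = ⊤ ∧
        ¬ (Fintype.card F = 9 ∧ lam ^ 2 = -1)) ∨
      (Fintype.card F = 9 ∧ lam ^ 2 = -1 ∧
        Nat.card (Subgroup.closure ({loOne, upSL lam} : Set SL(2, F))) = 120) := by
  set G := Subgroup.closure ({loOne, upSL lam} : Set SL(2, F)) with hG
  set H := G.map projHom with hH
  have hl : proj loOne ∈ H := ⟨loOne, Subgroup.subset_closure (by simp), rfl⟩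
  have hu : u lam ∈ H := ⟨upSL lam, Subgroup.subset_closure (by simp), rfl⟩
  have hHcl : H = Subgroup.closure ({proj loOne, u lam} : Set PSL(2, F)) := by
    rw [hH, hG, MonoidHom.map_closure, Set.image_pair]
    rfl
  have hne : ¬ H ≤ BP := fun h => by simpa [coe_loOne] using (proj_mem_BP_iff _).1 (h hl)
  have hp2 : p ≠ 2 := fun h => h2 (by subst h; exact_mod_cast CharP.cast_eq_zero F 2)
  rcases char_case p hu hlam with h | ⟨h, -⟩ | ⟨hc60, rfl, ⟨e⟩⟩ | h
  · exact absurd h hne
  · exact absurd h hp2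
  · obtain ⟨hq, hl2⟩ := nine_of_sixty hlam hgen hu hl hc60 e
    refine Or.inr ⟨hq, hl2, ?_⟩
    have hneg : (-1 : SL(2, F)) ∈ G := by
      obtain ⟨⟨x, hx⟩, hxo⟩ := exists_prime_orderOf_dvd_card' (G := H) 2 (by omega)
      rw [Subgroup.orderOf_mk] at hxo
      obtain ⟨g, hg, rfl⟩ := hx
      have hg2 : (projHom g) ^ 2 = 1 := (orderOf_eq_prime_iff.1 hxo).1
      rw [← map_pow, projHom_apply, proj_eq_one_iff] at hg2
      rcases hg2 with hg2 | hg2
      · exfalso
        have hinv : g⁻¹ = g := inv_eq_of_mul_eq_one_right (by rw [← pow_two, hg2])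
        have h1 := congrArg Subtype.val hinv
        rw [SL2Tori.coe_inv_eq] at h1
        have e00 := congrFun (congrFun h1 0) 0
        have e01 := congrFun (congrFun h1 0) 1
        have e10 := congrFun (congrFun h1 1) 0
        have e11 := congrFun (congrFun h1 1) 1
        simp at e00 e01 e10 e11
        have hb : g.1 0 1 = 0 := by
          apply mul_left_cancel₀ h2
          linear_combination -e01
        have hc : g.1 1 0 = 0 := by
          apply mul_left_cancel₀ h2
          linear_combination -e10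
        have had : g.1 0 0 = g.1 1 1 := by
          apply mul_left_cancel₀ h2
          linear_combination e11 - e00
        have hd := det_eq_one g
        rw [hb, hc, ← had, mul_zero, sub_zero, ← sq] at hd
        have : proj g = 1 := by
          rw [proj_eq_one_iff]
          rcases sq_eq_one_iff.1 hd with h | h
          · left; ext i j; fin_cases i <;> fin_cases j <;> simp [hb, hc, ← had, h]
          · right; ext i j; fin_cases i <;> fin_cases j <;> simp [hb, hc, ← had, h]
        rw [projHom_apply, this, orderOf_one] at hxo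
        omega
      · rw [← hg2]; exact pow_mem hg 2
    have hker : (projHom (F := F)).ker ≤ G := by
      intro x hx
      rw [MonoidHom.mem_ker, projHom_apply, proj_eq_one_iff] at hx
      rcases hx with rfl | rfl
      exacts [one_mem _, hneg]
    have hcomap : G = H.comap projHom := by
      rw [hH, Subgroup.comap_map_eq_self hker]
    have hkcard : Nat.card (projHom (F := F)).ker = 2 := by
      have hset : ((projHom (F := F)).ker : Set SL(2, F)) = {1, -1} := by
        ext x
        rw [SetLike.mem_coe, MonoidHom.mem_ker, projHom_apply, proj_eq_one_iff]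
        simp
      rw [← SetLike.coe_sort_coe, Nat.card_coe_set_eq, hset, Set.ncard_pair]
      intro h
      have := congrFun (congrFun (congrArg Subtype.val h) 0) 0
      simp at this
      exact h2 (by linear_combination this)
    have h1 := G.card_mul_index
    rw [hcomap, Subgroup.index_comap_of_surjective _ projHom_surjective, ← hcomap,
      ← (projHom (F := F)).ker.card_mul_index, Subgroup.index_ker, MonoidHom.range_eq_top.2
      projHom_surjective, Subgroup.card_top, hkcard, ← H.card_mul_index, hc60, ← mul_assoc] at h1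
    exact Nat.eq_of_mul_eq_mul_right (Nat.pos_of_ne_zero Subgroup.index_ne_zero_of_finite) h1
  · have htop := eq_top_of_subfieldType p h2 hlam hgen hu hl h
    refine Or.inl ⟨eq_top_of_map_projHom h2 htop, ?_⟩
    rintro ⟨hq, hl2⟩
    obtain ⟨n, hp, hn⟩ := FiniteField.card F p
    have hp3 : p = 3 := by
      have : p ∣ 9 := hq ▸ hn ▸ dvd_pow_self p n.ne_zero
      exact (Nat.prime_dvd_prime_iff_eq hp Nat.prime_three).1
        (hp.dvd_of_dvd_pow (show p ∣ 3 ^ 2 by simpa using this))
    subst hp3
    have h1 := card_le_sixty hl2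
    rw [← hHcl, htop, Subgroup.card_top] at h1
    have h3 := card_PSL_formula F
    rw [hq] at h3
    norm_num at h3
    omega

end CfsgLib.DicksonPSL2
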